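import Cfsg.Agent.Lib.PairOdd.Basic

/-!
# Automorphisms acting on subgroups of order eleven
-/

set_option autoImplicit false

namespace Cfsg.Agent.Lib.OrdElevenPairs

open Cfsg.Agent.Lib.PairOdd

variable {G : Type*} [Group G]

instance fact11 : Fact (Nat.Prime 11) := ⟨by norm_num⟩

/-- The image of a subgroup under an automorphism. -/
def mv (φ : MulAut G) (A : Subgroup G) : Subgroup G := A.map φ.toMonoidHom

theorem mem_mv {φ : MulAut G} {A : Subgroup G} {x : G} : x ∈ mv φ A ↔ φ⁻¹ x ∈ A := by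
  constructor
  · rintro ⟨y, hy, rfl⟩
    simpa using hy
  · intro h
    exact ⟨_, h, by simp⟩

theorem apply_mem_mv {φ : MulAut G} {A : Subgroup G} {x : G} (h : x ∈ A) : φ x ∈ mv φ A :=
  ⟨x, h, rfl⟩

theorem mv_one (A : Subgroup G) : mv (1 : MulAut G) A = A := by ext x; simp [mem_mv]

theorem mv_mul (φ ψ : MulAut G) (A : Subgroup G) : mv (φ * ψ) A = mv φ (mv ψ A) := by
  ext x; simp [mem_mv]

theorem mv_inv_mv (φ : MulAut G) (A : Subgroup G) : mv φ⁻¹ (mv φ A) = A := by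
  rw [← mv_mul, inv_mul_cancel, mv_one]

theorem mv_mv_inv (φ : MulAut G) (A : Subgroup G) : mv φ (mv φ⁻¹ A) = A := by
  rw [← mv_mul, mul_inv_cancel, mv_one]

theorem mv_injective (φ : MulAut G) : Function.Injective (mv φ) := fun A B h => by
  rw [← mv_inv_mv φ A, h, mv_inv_mv]

theorem card_mv (φ : MulAut G) (A : Subgroup G) : Nat.card (mv φ A) = Nat.card A :=
  Subgroup.card_map_of_injective φ.injective

theorem mv_conj (g : G) (A : Subgroup G) : mv (MulAut.conj g) A = cj g A := rfl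

theorem mv_eq_inv {φ : MulAut G} {A : Subgroup G} (h : mv φ A = A) : mv φ⁻¹ A = A := by
  conv_lhs => rw [← h]
  exact mv_inv_mv φ A

/-! ### Subgroups of order eleven -/

variable {A B : Subgroup G} (hA : Nat.card A = 11)
include hA

theorem exists_gen : ∃ a ∈ A, a ≠ 1 ∧ orderOf a = 11 ∧ A = Subgroup.zpowers a := by
  have : Finite A := Nat.finite_of_card_ne_zero (by omega)
  obtain ⟨⟨a, ha⟩, ho⟩ := exists_prime_orderOf_dvd_card' (G := A) 11 (by rw [hA])
  rw [Subgroup.orderOf_mk] at ho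
  refine ⟨a, ha, fun h => by rw [h, orderOf_one] at ho; norm_num at ho, ho, ?_⟩
  refine (Subgroup.eq_of_le_of_card_ge (Subgroup.zpowers_le.2 ha) ?_).symm
  rw [hA, Nat.card_zpowers, ho]

theorem pow_eleven {a : G} (ha : a ∈ A) : a ^ 11 = 1 := by
  have h := pow_card_eq_one' (G := A) (x := ⟨a, ha⟩)
  rw [hA] at h
  simpa using congrArg Subtype.val h

theorem pow_val {a : G} (ha : a ∈ A) (n : ℕ) : a ^ (n : ZMod 11).val = a ^ n := by
  rw [ZMod.val_natCast, ← pow_eq_pow_mod n (pow_eleven hA ha)]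

theorem orderOf_mem {a : G} (ha : a ∈ A) (ha1 : a ≠ 1) : orderOf a = 11 :=
  orderOf_eq_prime (pow_eleven hA ha) ha1

theorem zpowers_mem {a : G} (ha : a ∈ A) (ha1 : a ≠ 1) : Subgroup.zpowers a = A := by
  have : Finite A := Nat.finite_of_card_ne_zero (by omega)
  refine Subgroup.eq_of_le_of_card_ge (Subgroup.zpowers_le.2 ha) ?_
  rw [hA, Nat.card_zpowers, orderOf_mem hA ha ha1]

theorem eq_of_mem_mem (hB : Nat.card B = 11) {a : G} (ha : a ∈ A) (hb : a ∈ B) (ha1 : a ≠ 1) :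
    A = B := by
  rw [← zpowers_mem hA ha ha1, zpowers_mem hB hb ha1]

theorem commute_mem {a b : G} (ha : a ∈ A) (hb : b ∈ A) : Commute a b := by
  obtain ⟨c, -, -, -, hc⟩ := exists_gen hA
  rw [hc] at ha hb
  obtain ⟨i, rfl⟩ := ha
  obtain ⟨j, rfl⟩ := hb
  exact Commute.zpow_zpow (Commute.refl c) i j

omit hA

/-- `φ` raises every element of `A` to the power `c`. -/
def Acts (φ : MulAut G) (A : Subgroup G) (c : ZMod 11) : Prop := ∀ a ∈ A, φ a = a ^ c.val

theorem acts_one_iff {φ : MulAut G} : Acts φ A 1 ↔ ∀ a ∈ A, φ a = a := by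
  simp [Acts, ZMod.val_one]

theorem acts_one : Acts (1 : MulAut G) A 1 := acts_one_iff.2 fun _ _ => rfl

theorem Acts.mv_le {φ : MulAut G} {c : ZMod 11} (h : Acts φ A c) : mv φ A ≤ A := by
  rintro _ ⟨a, ha, rfl⟩
  show φ a ∈ A
  rw [h a ha]
  exact A.pow_mem ha _

theorem Acts.mv_eq {φ : MulAut G} {c : ZMod 11} (h : Acts φ A c) (hA : Nat.card A = 11) :
    mv φ A = A := by
  have : Finite A := Nat.finite_of_card_ne_zero (by omega)
  exact Subgroup.eq_of_le_of_card_ge h.mv_le (by rw [card_mv])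

theorem Acts.unique {φ : MulAut G} {c d : ZMod 11} (hA : Nat.card A = 11) (h : Acts φ A c)
    (h' : Acts φ A d) : c = d := by
  obtain ⟨a, ha, -, ho, -⟩ := exists_gen hA
  have e : a ^ c.val = a ^ d.val := (h a ha).symm.trans (h' a ha)
  rw [pow_eq_pow_iff_modEq, ho, Nat.ModEq, Nat.mod_eq_of_lt (ZMod.val_lt c),
    Nat.mod_eq_of_lt (ZMod.val_lt d)] at e
  exact ZMod.val_injective _ e

theorem Acts.ne_zero {φ : MulAut G} {c : ZMod 11} (hA : Nat.card A = 11) (h : Acts φ A c) :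
    c ≠ 0 := by
  rintro rfl
  obtain ⟨a, ha, ha1, -, -⟩ := exists_gen hA
  have e := h a ha
  rw [ZMod.val_zero, pow_zero] at e
  exact ha1 (φ.injective (e.trans (map_one φ).symm))

theorem exists_acts {φ : MulAut G} (hA : Nat.card A = 11) (h : mv φ A = A) :
    ∃ c : ZMod 11, c ≠ 0 ∧ Acts φ A c := by
  obtain ⟨a, ha, -, ho, hza⟩ := exists_gen hA
  have hmem : φ a ∈ Subgroup.zpowers a := by
    rw [← hza]
    exact h.le (apply_mem_mv ha)
  obtain ⟨k, hk⟩ := (isOfFinOrder_iff_pow_eq_one.2 ⟨11, by norm_num, pow_eleven hA ha⟩).mem_powers_iff_mem_zpowers.2 hmem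
  have hk' : φ a = a ^ k := hk.symm
  have hs : Acts φ A (k : ZMod 11) := fun x hx => by
    rw [hza] at hx
    obtain ⟨i, rfl⟩ := hx
    show φ (a ^ i) = (a ^ i) ^ (k : ZMod 11).val
    rw [pow_val hA (A.zpow_mem ha i), map_zpow, hk', ← zpow_natCast, ← zpow_natCast, ← zpow_mul,
      ← zpow_mul, mul_comm]
  exact ⟨_, hs.ne_zero hA, hs⟩

theorem Acts.mul {φ ψ : MulAut G} {c d : ZMod 11} (hA : Nat.card A = 11) (h : Acts φ A c)
    (h' : Acts ψ A d) : Acts (φ * ψ) A (c * d) := by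
  intro a ha
  show φ (ψ a) = _
  rw [h' a ha, map_pow, h a ha, ← pow_mul, ← pow_val hA ha (c.val * d.val)]
  congr 2

theorem Acts.inv {φ : MulAut G} {c : ZMod 11} (hA : Nat.card A = 11) (h : Acts φ A c) :
    Acts φ⁻¹ A c⁻¹ := by
  obtain ⟨d, -, hd⟩ := exists_acts hA (mv_eq_inv (h.mv_eq hA))
  have hone : Acts (φ⁻¹ * φ) A (d * c) := hd.mul hA h
  rw [inv_mul_cancel] at hone
  have hdc : d * c = 1 := hone.unique hA acts_one
  rwa [← eq_inv_of_mul_eq_one_left hdc]

theorem Acts.pow {φ : MulAut G} {c : ZMod 11} (hA : Nat.card A = 11) (h : Acts φ A c) (n : ℕ) :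
    Acts (φ ^ n) A (c ^ n) := by
  induction n with
  | zero => simpa using acts_one
  | succ n ih => rw [pow_succ, pow_succ]; exact ih.mul hA h

theorem Acts.transport {φ : MulAut G} {c : ZMod 11} (ψ : MulAut G) (h : Acts φ A c) :
    Acts (ψ * φ * ψ⁻¹) (mv ψ A) c := by
  intro x hx
  have := h _ (mem_mv.1 hx)
  show ψ (φ (ψ⁻¹ x)) = _
  rw [this, map_pow]
  simp

theorem acts_conj_self (hA : Nat.card A = 11) {a : G} (ha : a ∈ A) :
    Acts (MulAut.conj a) A 1 := by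
  rw [acts_one_iff]
  intro x hx
  rw [MulAut.conj_apply, (commute_mem hA ha hx).eq, mul_inv_cancel_right]

theorem acts_conj_iff {g : G} :
    Acts (MulAut.conj g) A 1 ↔ g ∈ Subgroup.centralizer (A : Set G) := by
  rw [acts_one_iff, Subgroup.mem_centralizer_iff]
  refine forall₂_congr fun a ha => ?_
  rw [MulAut.conj_apply, mul_inv_eq_iff_eq_mul]
  exact eq_comm

end Cfsg.Agent.Lib.OrdElevenPairs
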