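import Cfsg.Agent.Lib.OrdElevenPairs.Acts

/-!
# Simple groups of order `660`: the action of automorphisms on the twelve subgroups of order eleven
-/

set_option autoImplicit false

namespace Cfsg.Agent.Lib.OrdElevenPairs

open Cfsg.Agent.Lib.PairOdd Subgroup

/-! ### Groups with Sylow subgroups of order eleven -/

section Sylow

variable {G : Type*} [Group G] [Finite G]

theorem exists_sylow_eq (h : ¬ 11 ^ 2 ∣ Nat.card G) {A : Subgroup G} (hA : Nat.card A = 11) :
    ∃ P : Sylow 11 G, (P : Subgroup G) = A := by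
  obtain ⟨P, hP⟩ := (IsPGroup.of_card (n := 1) (by rw [hA, pow_one]) : IsPGroup 11 A).exists_le_sylow
  obtain ⟨k, hk⟩ := P.2.exists_card_eq
  have hk1 : k ≤ 1 := by
    by_contra hk'
    refine h ((pow_dvd_pow 11 (show 2 ≤ k by omega)).trans ?_)
    rw [← hk]
    exact Subgroup.card_subgroup_dvd_card _
  refine ⟨P, (Subgroup.eq_of_le_of_card_ge hP ?_).symm⟩
  rw [hA, hk]
  calc 11 ^ k ≤ 11 ^ 1 := Nat.pow_le_pow_right (by norm_num) hk1
    _ = 11 := pow_one _

theorem exists_cj_eleven (h : ¬ 11 ^ 2 ∣ Nat.card G) {A B : Subgroup G} (hA : Nat.card A = 11)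
    (hB : Nat.card B = 11) : ∃ g : G, cj g A = B := by
  obtain ⟨P, hP⟩ := exists_sylow_eq h hA
  obtain ⟨Q, hQ⟩ := exists_sylow_eq h hB
  obtain ⟨g, hg⟩ := MulAction.exists_smul_eq G P Q
  refine ⟨g, ?_⟩
  rw [← hP, ← hQ, ← hg, Sylow.coe_subgroup_smul]
  rfl

theorem card_sylow_eleven (h : ¬ 11 ^ 2 ∣ Nat.card G) (hd : 11 ∣ Nat.card G) :
    Nat.card {A : Subgroup G // Nat.card A = 11} = Nat.card (Sylow 11 G) := by
  refine (Nat.card_congr (Equiv.ofBijective
    (fun P : Sylow 11 G => (⟨(P : Subgroup G), ?_⟩ : {A : Subgroup G // Nat.card A = 11}))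
    ⟨fun P Q e => Sylow.ext (congrArg Subtype.val e), fun A => ?_⟩)).symm
  · obtain ⟨⟨a, ha⟩⟩ : Nonempty {a : G // orderOf a = 11} := by
      obtain ⟨a, ha⟩ := exists_prime_orderOf_dvd_card' (G := G) 11 hd
      exact ⟨⟨a, ha⟩⟩
    obtain ⟨Q, hQ⟩ := exists_sylow_eq h (A := zpowers a) (by rw [Nat.card_zpowers, ha])
    obtain ⟨g, hg⟩ := MulAction.exists_smul_eq G Q P
    rw [← hg, Sylow.coe_subgroup_smul, hQ]
    exact (card_cj g _).trans (by rw [Nat.card_zpowers, ha])
  · obtain ⟨P, hP⟩ := exists_sylow_eq h A.2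
    exact ⟨P, Subtype.ext hP⟩

theorem card_normalizer_mul (h : ¬ 11 ^ 2 ∣ Nat.card G) {A : Subgroup G} (hA : Nat.card A = 11) :
    Nat.card (normalizer (A : Set G)) * Nat.card (Sylow 11 G) = Nat.card G := by
  obtain ⟨P, hP⟩ := exists_sylow_eq h hA
  rw [P.card_eq_index_normalizer]
  conv_lhs => rw [← hP]
  exact (normalizer ((P : Subgroup G) : Set G)).card_mul_index

end Sylow

/-- A simple group of order `660`. -/
structure IsL (M : Type*) [Group M] : Prop where
  simple : IsSimpleGroup M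
  card : Nat.card M = 660

namespace IsL

variable {M : Type*} [Group M] (hM : IsL M)
include hM

theorem finite : Finite M := Nat.finite_of_card_ne_zero (by rw [hM.card]; norm_num)

theorem not_sq : ¬ 11 ^ 2 ∣ Nat.card M := by rw [hM.card]; norm_num

theorem eq_top {N : Subgroup M} (hN : N.Normal) (hne : N ≠ ⊥) : N = ⊤ := by
  have := hM.simple
  exact (hN.eq_bot_or_eq_top).resolve_left hne

theorem not_normal {N : Subgroup M} (h1 : Nat.card N ≠ 1) (h2 : Nat.card N ≠ 660) : ¬ N.Normal :=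
  fun hN => h2 (by rw [hM.eq_top hN fun e => h1 (Subgroup.card_eq_one.2 e), card_top, hM.card])

theorem center_eq : center M = ⊥ := by
  by_contra h
  have ht := hM.eq_top inferInstance h
  have := hM.finite
  obtain ⟨a, ha⟩ := exists_prime_orderOf_dvd_card' (G := M) 11 (by rw [hM.card]; norm_num)
  refine hM.not_normal (N := zpowers a) (by rw [Nat.card_zpowers, ha]; norm_num)
    (by rw [Nat.card_zpowers, ha]; norm_num) ⟨fun x hx g => ?_⟩
  rw [Subgroup.mem_center_iff.1 (ht ▸ mem_top x) g, mul_inv_cancel_right]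
  exact hx

theorem conj_eq_one {m : M} (h : MulAut.conj m = 1) : m = 1 := by
  rw [← mem_bot, ← hM.center_eq, mem_center_iff]
  intro g
  have := DFunLike.congr_fun h g
  rw [MulAut.conj_apply] at this
  exact (mul_inv_eq_iff_eq_mul.1 this).symm

theorem card_sylow : Nat.card (Sylow 11 M) = 12 := by
  have := hM.finite
  obtain ⟨P⟩ := (inferInstance : Nonempty (Sylow 11 M))
  have hP : Nat.card (P : Subgroup M) = 11 := by
    obtain ⟨a, ha⟩ := exists_prime_orderOf_dvd_card' (G := M) 11 (by rw [hM.card]; norm_num)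
    obtain ⟨Q, hQ⟩ := exists_sylow_eq hM.not_sq (A := zpowers a) (by rw [Nat.card_zpowers, ha])
    obtain ⟨g, hg⟩ := MulAction.exists_smul_eq M Q P
    rw [← hg, Sylow.coe_subgroup_smul, hQ]
    exact (card_cj g _).trans (by rw [Nat.card_zpowers, ha])
  have hd : Nat.card (Sylow 11 M) ∣ 60 := by
    have h := P.card_dvd_index
    have h' := (P : Subgroup M).card_mul_index
    rw [hP, hM.card] at h'
    rwa [show (P : Subgroup M).index = 60 by omega] at h
  have hmod : Nat.card (Sylow 11 M) % 11 = 1 := card_sylow_modEq_one 11 M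
  have key : ∀ n ∈ Nat.divisors 60, n % 11 = 1 → n = 1 ∨ n = 12 := by decide +kernel
  refine (key _ (Nat.mem_divisors.2 ⟨hd, by norm_num⟩) hmod).resolve_left fun h1 => ?_
  have hN := card_normalizer_mul hM.not_sq hP
  rw [h1, mul_one, hM.card] at hN
  refine hM.not_normal (N := (P : Subgroup M)) (by omega) (by omega) ?_
  rw [← normalizer_eq_top_iff]
  exact eq_top_of_card_eq _ (by rw [hN, hM.card])

theorem card_el : Nat.card {A : Subgroup M // Nat.card A = 11} = 12 := by
  have := hM.finite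
  rw [card_sylow_eleven hM.not_sq (by rw [hM.card]; norm_num), hM.card_sylow]

variable {A B : Subgroup M} (hA : Nat.card A = 11)
include hA

theorem card_normalizer : Nat.card (normalizer (A : Set M)) = 55 := by
  have := hM.finite
  have := card_normalizer_mul hM.not_sq hA
  rw [hM.card_sylow, hM.card] at this
  omega

theorem centralizer_eq : centralizer (A : Set M) = A := by
  have := hM.finite
  have hAC : A ≤ centralizer (A : Set M) := fun a ha =>
    mem_centralizer_iff.2 fun b hb => (commute_mem hA hb ha)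
  have hd : Nat.card (centralizer (A : Set M)) ∣ 55 :=
    hM.card_normalizer hA ▸ card_dvd_of_le (Subgroup.centralizer_le_normalizer (A : Set M))
  have hd' : 11 ∣ Nat.card (centralizer (A : Set M)) := hA ▸ card_dvd_of_le hAC
  have key : ∀ n ∈ Nat.divisors 55, 11 ∣ n → n = 11 ∨ n = 55 := by decide +kernel
  rcases key _ (Nat.mem_divisors.2 ⟨hd, by norm_num⟩) hd' with h | h
  · exact (Subgroup.eq_of_le_of_card_ge hAC (by omega)).symm
  · exfalso
    obtain ⟨P, hP⟩ := exists_sylow_eq hM.not_sq hA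
    have hle : normalizer ((P : Subgroup M) : Set M) ≤ centralizer ((P : Subgroup M) : Set M) := by
      rw [hP]
      exact (Subgroup.eq_of_le_of_card_ge (Subgroup.centralizer_le_normalizer (A : Set M))
        (by rw [h, hM.card_normalizer hA])).ge
    have hc := MonoidHom.ker_transferSylow_isComplement' P hle
    have h' := hc.card_mul_card
    rw [show Nat.card (P : Subgroup M) = 11 from hP ▸ hA, hM.card] at h'
    refine hM.not_normal ?_ ?_ (MonoidHom.normal_ker (MonoidHom.transferSylow P hle)) <;> omega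

theorem eq_of_fix {a : M} (ha : a ∈ A) (ha1 : a ≠ 1) (hB : Nat.card B = 11) (h : cj a B = B) :
    A = B := by
  obtain ⟨c, hc0, hc⟩ := exists_acts (φ := MulAut.conj a) hB h
  have h11 : Acts (MulAut.conj a ^ 11) B (c ^ 11) := hc.pow hB 11
  rw [← map_pow, pow_eleven hA ha, map_one] at h11
  have key : ∀ c : ZMod 11, c ^ 11 = 1 → c = 1 := by decide +kernel
  rw [key c (h11.unique hB acts_one)] at hc
  have := acts_conj_iff.1 hc
  rw [hM.centralizer_eq hB] at this
  exact eq_of_mem_mem hA hB ha this ha1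

theorem trans_aux (hB : Nat.card B = 11) (hBA : B ≠ A) :
    Function.Bijective (fun a : A => (⟨cj (a : M) B, (card_cj _ B).trans hB, fun e => hBA (by
      rw [← cj_inv_cj (a : M) B, e]; exact cj_eq_self_of_mem (A.inv_mem a.2))⟩ :
      {X : Subgroup M // Nat.card X = 11 ∧ X ≠ A})) := by
  have := hM.finite
  refine (Nat.bijective_iff_injective_and_card _).2 ⟨fun a b e => ?_, ?_⟩
  · have e' : cj (a : M) B = cj (b : M) B := congrArg Subtype.val e
    by_contra hne
    refine hBA (hM.eq_of_fix hA (A.mul_mem (A.inv_mem b.2) a.2) (fun h1 => hne (Subtype.ext ?_)) hB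
      ?_).symm
    · exact (inv_mul_eq_one.1 h1).symm
    · rw [cj_mul, e', cj_inv_cj]
  · have h12 := hM.card_el
    have e : {X : Subgroup M // Nat.card X = 11 ∧ X ≠ A} ≃
        {X : {X : Subgroup M // Nat.card X = 11} // X ≠ ⟨A, hA⟩} :=
      { toFun := fun X => ⟨⟨X.1, X.2.1⟩, fun e => X.2.2 (congrArg Subtype.val e)⟩
        invFun := fun X => ⟨X.1.1, X.1.2, fun e => X.2 (Subtype.ext e)⟩
        left_inv := fun _ => rfl
        right_inv := fun _ => rfl }
    classical
    have := Fintype.ofFinite {X : Subgroup M // Nat.card X = 11}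
    rw [hA, Nat.card_congr e, Nat.card_eq_fintype_card, Fintype.card_subtype_compl,
      Fintype.card_subtype_eq, ← Nat.card_eq_fintype_card, h12]

theorem trans {C : Subgroup M} (hB : Nat.card B = 11) (hBA : B ≠ A) (hC : Nat.card C = 11)
    (hCA : C ≠ A) : ∃ a ∈ A, cj a B = C := by
  obtain ⟨a, ha⟩ := (hM.trans_aux hA hB hBA).2 ⟨C, hC, hCA⟩
  exact ⟨a, a.2, congrArg Subtype.val ha⟩

theorem trans_two {C D : Subgroup M} (hB : Nat.card B = 11) (hAB : A ≠ B) (hC : Nat.card C = 11)
    (hD : Nat.card D = 11) (hCD : C ≠ D) : ∃ m : M, cj m A = C ∧ cj m B = D := by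
  have := hM.finite
  obtain ⟨g, hg⟩ := exists_cj_eleven hM.not_sq hA hC
  have hne : cj g B ≠ C := fun e => hAB (by rw [← cj_inv_cj g A, hg, ← e, cj_inv_cj])
  obtain ⟨c, hc, hcB⟩ := hM.trans hC ((card_cj g B).trans hB) hne hD hCD.symm
  exact ⟨c * g, by rw [cj_mul, hg, cj_eq_self_of_mem hc], by rw [cj_mul, hcB]⟩

omit hA

theorem exists_el_ne (A : Subgroup M) : ∃ B : Subgroup M, Nat.card B = 11 ∧ B ≠ A := by
  have := hM.finite
  by_contra h
  push Not at h
  have : Subsingleton {X : Subgroup M // Nat.card X = 11} :=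
    ⟨fun X Y => Subtype.ext ((h _ X.2).trans (h _ Y.2).symm)⟩
  have h12 := hM.card_el
  have := Finite.card_le_one_iff_subsingleton.2 this
  omega

/-- An automorphism fixing all twelve subgroups is trivial. -/
theorem faithful {φ : MulAut M} (h : ∀ X : Subgroup M, Nat.card X = 11 → mv φ X = X) : φ = 1 := by
  have := hM.finite
  let Z : Subgroup M :=
    { carrier := {m | ∀ X : Subgroup M, Nat.card X = 11 → cj m X = X}
      mul_mem' := fun {a b} ha hb X hX => by rw [cj_mul, hb X hX, ha X hX]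
      one_mem' := fun X _ => cj_one X
      inv_mem' := fun {a} ha X hX => by
        conv_lhs => rw [← ha X hX]
        exact cj_inv_cj a X }
  have hZn : Z.Normal := ⟨fun x hx g X hX => by
    rw [cj_mul, cj_mul, hx _ ((card_cj _ X).trans hX), cj_cj_inv]⟩
  have hZ : Z = ⊥ := by
    by_contra hne
    obtain ⟨a, ha⟩ := exists_prime_orderOf_dvd_card' (G := M) 11 (by rw [hM.card]; norm_num)
    have hA : Nat.card (zpowers a) = 11 := by rw [Nat.card_zpowers, ha]
    obtain ⟨B, hB, hBA⟩ := hM.exists_el_ne (zpowers a)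
    exact hBA (hM.eq_of_fix hA (mem_zpowers a)
      (fun e => by rw [e, orderOf_one] at ha; norm_num at ha) hB
      ((hM.eq_top hZn hne ▸ mem_top a : a ∈ Z) B hB)).symm
  refine MulEquiv.ext fun m => ?_
  have hmem : φ m * m⁻¹ ∈ Z := by
    intro X hX
    have hY : Nat.card (cj m⁻¹ X) = 11 := (card_cj _ X).trans hX
    have e : mv φ (cj m (cj m⁻¹ X)) = cj (φ m) (mv φ (cj m⁻¹ X)) := by
      ext y; simp [mem_mv, mem_cj, mul_assoc]
    rw [cj_cj_inv, h X hX, h _ hY, ← cj_mul] at e
    exact e.symm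
  rw [hZ, mem_bot, mul_inv_eq_one] at hmem
  exact hmem

omit hM in
theorem mv_cj (φ : MulAut M) (m : M) (X : Subgroup M) : mv φ (cj m X) = cj (φ m) (mv φ X) := by
  ext y; simp [mem_mv, mem_cj, mul_assoc]

variable (hA : Nat.card A = 11) (hB : Nat.card B = 11) (hAB : A ≠ B)
include hA hB hAB

/-- An automorphism centralising `A` and normalising `B` is trivial. -/
theorem sign {φ : MulAut M} (h1 : Acts φ A 1) (h2 : mv φ B = B) : φ = 1 := by
  refine hM.faithful fun X hX => ?_
  by_cases hXA : X = A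
  · subst hXA; exact h1.mv_eq hA
  · obtain ⟨a, ha, rfl⟩ := hM.trans hA hB hAB.symm hX hXA
    rw [mv_cj, h2, acts_one_iff.1 h1 a ha]

theorem fix_cases {φ : MulAut M} {c : ZMod 11} (h1 : Acts φ A c) (hc : c ≠ 1) (h2 : mv φ B = B)
    {X : Subgroup M} (hX : Nat.card X = 11) (h3 : mv φ X = X) : X = A ∨ X = B := by
  refine or_iff_not_imp_left.2 fun hXA => ?_
  obtain ⟨a, ha, rfl⟩ := hM.trans hA hB hAB.symm hX hXA
  rw [mv_cj, h2, h1 a ha] at h3
  have hfix : cj (a⁻¹ * a ^ c.val) B = B := by rw [cj_mul, h3, cj_inv_cj]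
  by_cases ha1 : a = 1
  · rw [ha1, cj_one]
  exfalso
  refine hAB (hM.eq_of_fix hA (A.mul_mem (A.inv_mem ha) (A.pow_mem ha _)) (fun e => hc ?_) hB hfix)
  rw [inv_mul_eq_one] at e
  refine (ZMod.val_injective _ ?_).symm
  have e' : a ^ (1 : ℕ) = a ^ c.val := by rwa [pow_one]
  rw [pow_eq_pow_iff_modEq, orderOf_mem hA ha ha1, Nat.ModEq, Nat.mod_eq_of_lt (ZMod.val_lt c)] at e'
  rw [ZMod.val_one, ← e']

theorem card_torus : Nat.card (normalizer (A : Set M) ⊓ normalizer (B : Set M) : Subgroup M) = 5 := by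
  have := hM.finite
  set T := normalizer (A : Set M) ⊓ normalizer (B : Set M) with hT
  let f : A × T → normalizer (A : Set M) := fun p =>
    ⟨p.1 * p.2, Subgroup.mul_mem _ (Subgroup.le_normalizer p.1.2) p.2.2.1⟩
  have hf : Function.Bijective f := by
    constructor
    · rintro ⟨a, t⟩ ⟨a', t'⟩ e
      have e' : (a : M) * t = a' * t' := congrArg Subtype.val e
      have hmem : (a' : M)⁻¹ * a = t' * (t : M)⁻¹ := by
        rw [eq_mul_inv_iff_mul_eq, mul_assoc, e', inv_mul_cancel_left]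
      have h1 : (a' : M)⁻¹ * a = 1 := by
        by_contra h1
        refine hAB (hM.eq_of_fix hA (A.mul_mem (A.inv_mem a'.2) a.2) h1 hB ?_)
        rw [hmem]
        exact cj_eq_self_iff.2 (mul_mem t'.2.2 (inv_mem t.2.2))
      rw [hmem, mul_inv_eq_one] at h1
      rw [h1] at e'
      exact Prod.ext (Subtype.ext (mul_right_cancel e')) (Subtype.ext h1.symm)
    · rintro ⟨n, hn⟩
      have hne : cj n B ≠ A := fun e => hAB (by
        rw [← cj_inv_cj n A, cj_eq_self_iff.2 hn, ← e, cj_inv_cj])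
      obtain ⟨a, ha, haB⟩ := hM.trans hA hB hAB.symm ((card_cj n B).trans hB) hne
      refine ⟨(⟨a, ha⟩, ⟨a⁻¹ * n, ⟨Subgroup.mul_mem _ (Subgroup.inv_mem _ (Subgroup.le_normalizer ha)) hn, ?_⟩⟩),
        Subtype.ext (mul_inv_cancel_left a n)⟩
      refine cj_eq_self_iff.1 ?_
      rw [cj_mul, ← haB, cj_inv_cj]
  have := Nat.card_congr (Equiv.ofBijective f hf)
  rw [Nat.card_prod, hA, hM.card_normalizer hA] at this
  omega

theorem exists_torus : ∃ (u : M) (s : ZMod 11), orderOf u = 5 ∧ s ≠ 1 ∧ s ^ 5 = 1 ∧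
    cj u A = A ∧ cj u B = B ∧ Acts (MulAut.conj u) A s ∧
    ∀ m : M, cj m A = A → cj m B = B → m ∈ zpowers u := by
  have := hM.finite
  have : Fact (Nat.Prime 5) := ⟨by norm_num⟩
  set T := normalizer (A : Set M) ⊓ normalizer (B : Set M)
  have hT := hM.card_torus hA hB hAB
  obtain ⟨⟨u, huT⟩, hu⟩ := exists_prime_orderOf_dvd_card' (G := T) 5 (by rw [hT])
  rw [orderOf_mk] at hu
  have huA : cj u A = A := cj_eq_self_iff.2 huT.1
  have huB : cj u B = B := cj_eq_self_iff.2 huT.2
  obtain ⟨s, -, hs⟩ := exists_acts (φ := MulAut.conj u) hA huA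
  have hzT : zpowers u = T := by
    refine Subgroup.eq_of_le_of_card_ge (zpowers_le.2 huT) ?_
    rw [hT, Nat.card_zpowers, hu]
  refine ⟨u, s, hu, fun e => ?_, ?_, huA, huB, hs, fun m h1 h2 =>
    hzT ▸ ⟨cj_eq_self_iff.1 h1, cj_eq_self_iff.1 h2⟩⟩
  · subst e
    have h1 := hM.conj_eq_one (hM.sign hA hB hAB hs huB)
    rw [h1, orderOf_one] at hu
    norm_num at hu
  · have h5 := hs.pow hA 5
    rw [← map_pow, ← hu, pow_orderOf_eq_one, map_one, hu] at h5
    exact h5.unique hA acts_one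

/-- Elements exchanging `A` and `B` invert the torus. -/
theorem swap_inverts {u m : M} (hu : orderOf u = 5) (huA : cj u A = A) (huB : cj u B = B)
    (hmA : cj m A = B) (hmB : cj m B = A) : m * u * m⁻¹ = u⁻¹ := by
  have := hM.finite
  have : Fact (Nat.Prime 5) := ⟨by norm_num⟩
  obtain ⟨u0, s, hu0, hs1, -, hu0A, hu0B, hs, hgen⟩ := hM.exists_torus hA hB hAB
  have hu5 : u ^ 5 = 1 := hu ▸ pow_orderOf_eq_one u
  have hz : zpowers u = zpowers u0 := by
    refine Subgroup.eq_of_le_of_card_ge (zpowers_le.2 (hgen u huA huB)) ?_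
    rw [Nat.card_zpowers, Nat.card_zpowers, hu, hu0]
  have hmT : m * u * m⁻¹ ∈ zpowers u := by
    rw [hz]
    refine hgen _ ?_ ?_ <;> rw [cj_mul, cj_mul]
    · rw [show cj m⁻¹ A = B by rw [← hmB, cj_inv_cj], huB, hmB]
    · rw [show cj m⁻¹ B = A by rw [← hmA, cj_inv_cj], huA, hmA]
  obtain ⟨k, hk⟩ := (isOfFinOrder_of_finite u).mem_powers_iff_mem_zpowers.2 hmT
  change u ^ k = m * u * m⁻¹ at hk
  have hm2 : Commute (m * m) u := by
    have hmem : m * m ∈ zpowers u := by
      rw [hz]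
      exact hgen _ (by rw [cj_mul, hmA, hmB]) (by rw [cj_mul, hmB, hmA])
    obtain ⟨i, hi⟩ := hmem
    rw [← hi]
    exact (Commute.refl u).zpow_left i
  have hkk : u ^ (k * k) = u ^ 1 := by
    rw [pow_one, pow_mul, hk, ← MulAut.conj_apply, ← map_pow, hk, MulAut.conj_apply]
    calc m * (m * u * m⁻¹) * m⁻¹ = (m * m) * u * (m * m)⁻¹ := by group
      _ = u := by rw [hm2.eq, mul_inv_cancel_right]
  rw [pow_eq_pow_iff_modEq, hu] at hkk
  have key : ∀ k < 5, k * k % 5 = 1 % 5 → k = 1 ∨ k = 4 := by decide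
  rcases key (k % 5) (Nat.mod_lt _ (by norm_num))
    (by rw [← Nat.mul_mod]; exact hkk) with hk' | hk'
  · exfalso
    have hcm : Commute m u := by
      rw [pow_eq_pow_mod k hu5, hk', pow_one, eq_mul_inv_iff_mul_eq] at hk
      exact hk.symm
    have hT : Nat.card (zpowers u) = 5 := by rw [Nat.card_zpowers, hu]
    let P : Sylow 5 M := Sylow.ofCard (zpowers u) (by
      rw [hT, hM.card, show (660 : ℕ) = 5 ^ 1 * 132 by norm_num,
        Nat.factorization_mul (by norm_num) (by norm_num), Finsupp.add_apply,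
        Nat.factorization_eq_zero_of_not_dvd (show ¬ 5 ∣ 132 by norm_num),
        Nat.Prime.factorization_pow (by norm_num), Finsupp.single_eq_same]
      norm_num)
    have hP : (P : Subgroup M) = zpowers u := rfl
    have hle : normalizer ((P : Subgroup M) : Set M) ≤ centralizer ((P : Subgroup M) : Set M) := by
      rw [hP]
      intro n hn
      have hnu : n⁻¹ * u0 * n ∈ zpowers u :=
        (Subgroup.mem_normalizer_iff''.1 hn u0).1 (hz ▸ mem_zpowers u0)
      rw [hz] at hnu
      have hfix : ∀ X : Subgroup M, cj u0 X = X → cj (n⁻¹ * u0 * n) X = X := by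
        intro X hX
        obtain ⟨i, hi⟩ := hnu
        rw [← hi, cj_eq_self_iff]
        exact zpow_mem (cj_eq_self_iff.1 hX) i
      have hn' : ∀ X : Subgroup M, cj u0 X = X → cj u0 (cj n X) = cj n X := fun X hX => by
        conv_rhs => rw [← hfix X hX]
        rw [← cj_mul, ← cj_mul]; congr 1; group
      have hcn : ∀ X : Subgroup M, Nat.card X = 11 → cj u0 X = X → cj n X = A ∨ cj n X = B :=
        fun X hX1 hX2 => hM.fix_cases hA hB hAB hs hs1 hu0B ((card_cj n X).trans hX1) (hn' X hX2)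
      have hn_mem : n ∈ zpowers u0 ∨ m⁻¹ * n ∈ zpowers u0 := by
        rcases hcn A hA hu0A with h1 | h1
        · refine Or.inl (hgen n h1 ((hcn B hB hu0B).resolve_left fun h2 => hAB ?_))
          rw [← cj_inv_cj n A, h1, ← h2, cj_inv_cj]
        · have h2 : cj n B = A := (hcn B hB hu0B).resolve_right fun h2 => hAB (by
            rw [← cj_inv_cj n A, h1]
            conv_lhs => rw [← h2]
            rw [cj_inv_cj])
          refine Or.inr (hgen _ ?_ ?_) <;> rw [cj_mul]
          · rw [h1, ← hmA, cj_inv_cj]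
          · rw [h2, ← hmB, cj_inv_cj]
      rw [mem_centralizer_iff]
      rintro _ ⟨j, rfl⟩
      show u ^ j * n = n * u ^ j
      have hc : Commute (u ^ j) n := by
        rcases hn_mem with h | h <;> rw [← hz] at h <;> obtain ⟨i, hi⟩ := h
        · rw [← hi]; exact Commute.zpow_zpow (Commute.refl u) j i
        · rw [show n = m * u ^ i by rw [show u ^ i = m⁻¹ * n from hi, mul_inv_cancel_left]]
          exact ((hcm.symm).zpow_left j).mul_right (Commute.zpow_zpow (Commute.refl u) j i)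
      exact hc.eq
    have hc := MonoidHom.ker_transferSylow_isComplement' P hle
    have h' := hc.card_mul_card
    rw [show Nat.card (P : Subgroup M) = 5 from hT, hM.card] at h'
    refine hM.not_normal ?_ ?_ (MonoidHom.normal_ker (MonoidHom.transferSylow P hle)) <;> omega
  · rw [← hk, eq_inv_iff_mul_eq_one, ← pow_succ, pow_eq_pow_mod (k + 1) hu5]
    rw [Nat.add_mod, hk', show (4 + 1 % 5) % 5 = 0 by norm_num, pow_zero]

theorem exists_swap : ∃ m : M, cj m A = B ∧ cj m B = A ∧ m * m = 1 := by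
  obtain ⟨m, hmA, hmB⟩ := hM.trans_two hA hB hAB hB hA hAB.symm
  obtain ⟨u, s, hu, -, -, huA, huB, -, hgen⟩ := hM.exists_torus hA hB hAB
  refine ⟨m, hmA, hmB, ?_⟩
  have hinv := hM.swap_inverts hA hB hAB hu huA huB hmA hmB
  obtain ⟨i, hi⟩ := hgen (m * m) (by rw [cj_mul, hmA, hmB]) (by rw [cj_mul, hmB, hmA])
  change u ^ i = m * m at hi
  have h1 : m * u ^ i * m⁻¹ = u ^ i := by rw [hi]; group
  rw [← MulAut.conj_apply, map_zpow, MulAut.conj_apply, hinv, inv_zpow, inv_eq_iff_mul_eq_one,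
    ← zpow_add] at h1
  have hd : (5 : ℤ) ∣ i + i := by
    have := orderOf_dvd_iff_zpow_eq_one.2 h1
    rwa [hu] at this
  rw [← hi, ← orderOf_dvd_iff_zpow_eq_one, hu]
  omega

/-- The exponents on two fixed subgroups are inverse. -/
theorem acts_inv {φ : MulAut M} {c : ZMod 11} (h1 : Acts φ A c) (h2 : mv φ B = B) :
    Acts φ B c⁻¹ := by
  obtain ⟨u, s, hu, hs1, hs5, huA, huB, hs, -⟩ := hM.exists_torus hA hB hAB
  obtain ⟨m, hmA, hmB, -⟩ := hM.exists_swap hA hB hAB
  have hinv := hM.swap_inverts hA hB hAB hu huA huB hmA hmB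
  have hsB : Acts (MulAut.conj u) B s⁻¹ := by
    have ht := (hs.transport (MulAut.conj m))
    rw [mv_conj, hmA, ← map_inv, ← map_mul, ← map_mul, hinv, map_inv] at ht
    simpa using ht.inv hB
  have key : ∀ s c : ZMod 11, s ≠ 1 → s ^ 5 = 1 → c ≠ 0 →
      ∃ j < 5, c * s ^ j = 1 ∨ c * s ^ j = -1 := by decide +kernel
  obtain ⟨j, -, hj⟩ := key s c hs1 hs5 (h1.ne_zero hA)
  obtain ⟨d, -, hd⟩ := exists_acts hB h2
  set ψ := φ * MulAut.conj u ^ j
  have hψA : Acts ψ A (c * s ^ j) := h1.mul hA (hs.pow hA j)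
  have hψB : Acts ψ B (d * s⁻¹ ^ j) := hd.mul hB (hsB.pow hB j)
  have hfix : mv ψ B = B := hψB.mv_eq hB
  rcases hj with hj | hj
  · rw [hj] at hψA
    have h1' := hM.sign hA hB hAB hψA hfix
    rw [h1'] at hψB
    have hd1 := hψB.unique hB acts_one
    have hs0 : s ≠ 0 := hs.ne_zero hA
    have : d = c⁻¹ := by
      have e : (c * s ^ j) * (d * s⁻¹ ^ j) = 1 := by rw [hj, hd1, mul_one]
      rw [mul_mul_mul_comm, ← mul_pow, mul_inv_cancel₀ hs0, one_pow, mul_one] at e
      exact eq_inv_of_mul_eq_one_right e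
    exact this ▸ hd
  · have hsq : ψ * ψ = 1 := by
      refine hM.sign hA hB hAB ?_ (by rw [mv_mul, hfix, hfix])
      have := hψA.mul hA hψA
      rw [hj] at this
      simpa using this
    have hb : (d * s⁻¹ ^ j) * (d * s⁻¹ ^ j) = 1 := by
      have := hψB.mul hB hψB
      rw [hsq] at this
      exact this.unique hB acts_one
    have hne : d * s⁻¹ ^ j ≠ 1 := by
      intro e
      rw [e] at hψB
      have := hM.sign hB hA hAB.symm hψB (hψA.mv_eq hA)
      rw [this] at hψA
      have := hψA.unique hA acts_one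
      rw [hj] at this
      exact absurd this (by decide)
    have hm1 : d * s⁻¹ ^ j = -1 := (mul_self_eq_one_iff.1 hb).resolve_left hne
    have hs0 : s ≠ 0 := hs.ne_zero hA
    have e : (c * s ^ j) * (d * s⁻¹ ^ j) = 1 := by rw [hj, hm1]; norm_num
    rw [mul_mul_mul_comm, ← mul_pow, mul_inv_cancel₀ hs0, one_pow, mul_one] at e
    exact eq_inv_of_mul_eq_one_right e ▸ hd

omit hA hB hAB

end IsL

end Cfsg.Agent.Lib.OrdElevenPairs
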