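import Cfsg.Agent.S2065
import Cfsg.Agent.Lib.Order175560Uniq.Iso
import Cfsg.Agent.Lib.J1Order.Structure
import Cfsg.Agent.Lib.OrdElevenPairs.Line

/-!
# Local facts on the simple group of order `175560`
-/

set_option autoImplicit false

namespace Cfsg.Agent.Lib.OrdElevenPairs

open Cfsg.Agent.Lib.PairOdd Subgroup

universe u

/-- A simple group of order `175560`. -/
structure IsK (M : Type u) [Group M] : Prop where
  simple : IsSimpleGroup M
  card : Nat.card M = 175560

theorem isK_of_isoJ1 {M : Type u} [Group M] (h : Cfsg.Spor.IsoJ1 M) : IsK M := by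
  obtain ⟨e⟩ := h
  have : IsSimpleGroup ↥Cfsg.Spor.J1 := SporMatrix.J1.isSimpleGroup_J1
  exact ⟨e.isSimpleGroup, (Nat.card_congr e.toEquiv).trans SporMatrix.J1.card_J1⟩

namespace IsK

variable {M : Type u} [Group M] (hK : IsK M)
include hK

theorem finite : Finite M := Nat.finite_of_card_ne_zero (by rw [hK.card]; norm_num)

theorem not_sq : ¬ 11 ^ 2 ∣ Nat.card M := by rw [hK.card]; norm_num

theorem localData (P3 : Sylow 3 M) (P5 : Sylow 5 M) (P11 : Sylow 11 M) :
    Nat.card (Sylow 5 M) = 2926 ∧ Nat.card (Sylow 11 M) = 1596 ∧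
      Nat.card (centralizer ((P3 : Subgroup M) : Set M)) = 30 ∧
      (Nat.card (centralizer ((P5 : Subgroup M) : Set M)) = 30 ∨
        Nat.card (centralizer ((P5 : Subgroup M) : Set M)) = 15) ∧
      Nat.card (centralizer ((P11 : Subgroup M) : Set M)) = 11 := by
  have := hK.finite
  have := hK.simple
  have : Fact (Nat.Prime 3) := ⟨Nat.prime_three⟩
  have : Fact (Nat.Prime 5) := ⟨by norm_num⟩
  have : Fact (Nat.Prime 7) := ⟨by norm_num⟩
  have : Fact (Nat.Prime 19) := ⟨by norm_num⟩
  have D := Order175560Uniq.localData hK.card P3 P5 (default : Sylow 7 M) P11 (default : Sylow 19 M)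
  exact ⟨D.n5, D.n11, D.c3, D.c5, D.c11⟩

theorem card_el : Nat.card {A : Subgroup M // Nat.card A = 11} = 1596 := by
  have := hK.finite
  have : Fact (Nat.Prime 3) := ⟨Nat.prime_three⟩
  have : Fact (Nat.Prime 5) := ⟨by norm_num⟩
  rw [card_sylow_eleven hK.not_sq (by rw [hK.card]; norm_num)]
  exact (hK.localData default default default).2.1

variable {A B : Subgroup M} (hA : Nat.card A = 11)
include hA

theorem card_normalizer : Nat.card (normalizer (A : Set M)) = 110 := by
  have := hK.finite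
  have : Fact (Nat.Prime 3) := ⟨Nat.prime_three⟩
  have : Fact (Nat.Prime 5) := ⟨by norm_num⟩
  have h := card_normalizer_mul hK.not_sq hA
  rw [(hK.localData default default default).2.1, hK.card] at h
  omega

theorem centralizer_eq : centralizer (A : Set M) = A := by
  have := hK.finite
  have : Fact (Nat.Prime 3) := ⟨Nat.prime_three⟩
  have : Fact (Nat.Prime 5) := ⟨by norm_num⟩
  obtain ⟨P, hP⟩ := exists_sylow_eq hK.not_sq hA
  have hc := (hK.localData default default P).2.2.2.2
  rw [hP] at hc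
  exact (Subgroup.eq_of_le_of_card_ge (fun a ha => mem_centralizer_iff.2 fun b hb =>
    commute_mem hA hb ha) (by omega)).symm

theorem mem_of_acts_one {m : M} (h : Acts (MulAut.conj m) A 1) : m ∈ A :=
  (hK.centralizer_eq hA).le (acts_conj_iff.1 h)

theorem eq_of_fix {a : M} (ha : a ∈ A) (ha1 : a ≠ 1) (hB : Nat.card B = 11) (h : cj a B = B) :
    A = B := by
  obtain ⟨c, -, hc⟩ := exists_acts (φ := MulAut.conj a) hB h
  have h11 : Acts (MulAut.conj a ^ 11) B (c ^ 11) := hc.pow hB 11
  rw [← map_pow, pow_eleven hA ha, map_one] at h11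
  have key : ∀ c : ZMod 11, c ^ 11 = 1 → c = 1 := by decide +kernel
  rw [key c (h11.unique hB acts_one)] at hc
  exact eq_of_mem_mem hA hB ha (hK.mem_of_acts_one hB hc) ha1

theorem acts_invol {t : M} (ht : orderOf t = 2) (htA : cj t A = A) :
    Acts (MulAut.conj t) A (-1) := by
  have := hK.finite
  obtain ⟨c, -, hc⟩ := exists_acts (φ := MulAut.conj t) hA htA
  have hcc : c * c = 1 := by
    have := hc.mul hA hc
    rw [← map_mul, ← pow_two, ← ht, pow_orderOf_eq_one, map_one] at this
    exact this.unique hA acts_one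
  rcases mul_self_eq_one_iff.1 hcc with rfl | rfl
  · have := Subgroup.orderOf_dvd_natCard _ (hK.mem_of_acts_one hA hc)
    rw [ht, hA] at this
    norm_num at this
  · exact hc

omit hA

theorem exists_el_ne (A : Subgroup M) : ∃ B : Subgroup M, Nat.card B = 11 ∧ B ≠ A := by
  have := hK.finite
  by_contra h
  push Not at h
  have : Subsingleton {X : Subgroup M // Nat.card X = 11} :=
    ⟨fun X Y => Subtype.ext ((h _ X.2).trans (h _ Y.2).symm)⟩
  have h12 := hK.card_el
  have := Finite.card_le_one_iff_subsingleton.2 this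
  omega

theorem exists_inner (φ : MulAut M) : ∃ m : M, φ = MulAut.conj m := by
  have := hK.finite
  have := hK.simple
  obtain ⟨e⟩ := Order175560Uniq.isoJ1_of_card (G := M) hK.card
  have hJ : Finite ↥Cfsg.Spor.J1 := Finite.of_equiv M e.toEquiv
  have h1 : Subsingleton (Cfsg.Out ↥Cfsg.Spor.J1) :=
    (Nat.card_eq_one_iff_unique.1 Cfsg.Agent.S2065.result).1
  have hmem : (e.symm.trans (φ.trans e) : MulAut ↥Cfsg.Spor.J1) ∈ Cfsg.Inn ↥Cfsg.Spor.J1 :=
    (QuotientGroup.eq_one_iff _).1 (Subsingleton.elim _ _)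
  obtain ⟨j, hj⟩ := hmem
  refine ⟨e.symm j, MulEquiv.ext fun x => e.injective ?_⟩
  have := DFunLike.congr_fun hj (e x)
  simp only [MulAut.conj_apply, MulEquiv.trans_apply, MulEquiv.symm_apply_apply] at this
  simp [this]

theorem exists_model : ∃ (t : M) (_ : orderOf t = 2)
    (_ : ∃ P : Sylow 2 M, t ∈ P ∧ ∀ x ∈ P, x * t = t * x),
    Nonempty (↥(centralizer ({t} : Set M)) ≃* J1Order.Model) := by
  have := hK.finite
  have := hK.simple
  obtain ⟨t, ht, hP, he⟩ := Order175560Uniq.exists_involution (G := M) hK.card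
  exact ⟨t, ht, hP, he⟩

theorem isConj_invol {i j : M} (hi : orderOf i = 2) (hj : orderOf j = 2) : IsConj i j := by
  have := hK.finite
  have := hK.simple
  obtain ⟨t, ht, hP, ⟨e⟩⟩ := hK.exists_model
  exact (J1Order.Structure.isConj_t e ht hP hi).symm.trans (J1Order.Structure.isConj_t e ht hP hj)

theorem card_centralizer_invol {t : M} (ht : orderOf t = 2) :
    Nat.card (centralizer ({t} : Set M)) = 120 := by
  have := hK.finite
  obtain ⟨t₀, ht₀, -, ⟨e⟩⟩ := hK.exists_model
  obtain ⟨g, hg⟩ := isConj_iff.1 (hK.isConj_invol ht₀ ht)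
  have hcj : cj g (centralizer ({t₀} : Set M)) = centralizer ({t} : Set M) := by
    ext x
    rw [mem_cj, mem_centralizer_singleton_iff, mem_centralizer_singleton_iff, ← hg]
    constructor
    · intro h
      calc x * (g * t₀ * g⁻¹) = g * ((g⁻¹ * x * g) * t₀) * g⁻¹ := by group
        _ = g * (t₀ * (g⁻¹ * x * g)) * g⁻¹ := by rw [h]
        _ = g * t₀ * g⁻¹ * x := by group
    · intro h
      calc g⁻¹ * x * g * t₀ = g⁻¹ * (x * (g * t₀ * g⁻¹)) * g := by group
        _ = g⁻¹ * (g * t₀ * g⁻¹ * x) * g := by rw [h]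
        _ = t₀ * (g⁻¹ * x * g) := by group
  rw [← hcj, card_cj]
  exact J1Order.Structure.card_centralizer e

theorem two_group_comm {H : Subgroup M} (hH : IsPGroup 2 H) {x y : M} (hx : x ∈ H) (hy : y ∈ H) :
    x * y = y * x := by
  have := hK.finite
  have := hK.simple
  have := Fact.mk Nat.prime_two
  obtain ⟨t, ht, hP, ⟨e⟩⟩ := hK.exists_model
  obtain ⟨S, hS⟩ := J1Order.Structure.exists_sylow e ht hP
  obtain ⟨R, hR⟩ := hH.exists_le_sylow
  obtain ⟨g, hg⟩ := MulAction.exists_smul_eq M S R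
  have hmem : ∀ {z : M}, z ∈ H → g⁻¹ * z * g ∈ J1Order.Structure.syl e := fun {z} hz => by
    rw [← hS, ← mem_cj]
    have := hR hz
    rw [← hg, Sylow.coe_subgroup_smul] at this
    exact this
  have h := J1Order.Structure.syl_comm e ht (hmem hx) (hmem hy)
  calc x * y = g * ((g⁻¹ * x * g) * (g⁻¹ * y * g)) * g⁻¹ := by group
    _ = g * ((g⁻¹ * y * g) * (g⁻¹ * x * g)) * g⁻¹ := by rw [h]
    _ = y * x := by group

theorem exists_invol_normalizer (hA : Nat.card A = 11) :
    ∃ t : M, orderOf t = 2 ∧ cj t A = A := by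
  have := hK.finite
  have := Fact.mk Nat.prime_two
  obtain ⟨⟨t, htN⟩, ht⟩ := exists_prime_orderOf_dvd_card' (G := normalizer (A : Set M)) 2
    (by rw [hK.card_normalizer hA]; norm_num)
  exact ⟨t, by rwa [orderOf_mk] at ht, cj_eq_self_iff.2 htN⟩

theorem card_centralizer_five {u : M} (hu : orderOf u = 5) :
    Nat.card (centralizer ({u} : Set M)) = 30 := by
  have := hK.finite
  have := hK.simple
  have : Fact (Nat.Prime 3) := ⟨Nat.prime_three⟩
  have : Fact (Nat.Prime 5) := ⟨by norm_num⟩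
  have hfac : (175560 : ℕ).factorization 5 = 1 := by
    rw [show (175560 : ℕ) = 5 ^ 1 * 35112 by norm_num, Nat.factorization_mul (by norm_num) (by norm_num),
      Finsupp.add_apply, Nat.factorization_eq_zero_of_not_dvd (show ¬ 5 ∣ 35112 by norm_num),
      Nat.Prime.factorization_pow (by norm_num), Finsupp.single_eq_same]
  have mk : ∀ {v : M}, orderOf v = 5 → ∃ P : Sylow 5 M, (P : Subgroup M) = zpowers v := fun {v} hv =>
    ⟨Sylow.ofCard (zpowers v) (by rw [Nat.card_zpowers, hv, hK.card, hfac, pow_one]), rfl⟩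
  have hcc : ∀ v : M, centralizer ((zpowers v : Subgroup M) : Set M) = centralizer ({v} : Set M) := by
    intro v
    ext x
    rw [mem_centralizer_singleton_iff, mem_centralizer_iff]
    refine ⟨fun h => (h v (mem_zpowers v)).symm, ?_⟩
    rintro h _ ⟨i, rfl⟩
    exact ((show Commute x v from h).zpow_right i).symm.eq
  obtain ⟨t, ht, -, ⟨e⟩⟩ := hK.exists_model
  obtain ⟨⟨v, hvC⟩, hv⟩ := exists_prime_orderOf_dvd_card' (G := centralizer ({t} : Set M)) 5
    (by rw [J1Order.Structure.card_centralizer e]; norm_num)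
  rw [orderOf_mk] at hv
  obtain ⟨Q, hQ⟩ := mk hv
  obtain ⟨P, hP⟩ := mk hu
  have h := (hK.localData default Q default).2.2.2.1
  rw [hQ, hcc] at h
  have h30 : Nat.card (centralizer ({v} : Set M)) = 30 := h.resolve_right fun h15 => by
    have := Subgroup.orderOf_dvd_natCard _ (mem_centralizer_singleton_iff.2
      (mem_centralizer_singleton_iff.1 hvC).symm : t ∈ centralizer ({v} : Set M))
    rw [ht, h15] at this
    norm_num at this
  obtain ⟨g, hg⟩ := MulAction.exists_smul_eq M Q P
  have e1 : cj g (zpowers v) = zpowers u := by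
    rw [← hQ, ← hP, ← hg, Sylow.coe_subgroup_smul]
    rfl
  rw [← hcc, ← e1, ← cj_centralizer, card_cj, hcc, h30]

theorem exists_five_of_three {k : M} (hk : orderOf k = 3) :
    ∃ v : M, orderOf v = 5 ∧ Commute k v := by
  have := hK.finite
  have : Fact (Nat.Prime 3) := ⟨Nat.prime_three⟩
  have : Fact (Nat.Prime 5) := ⟨by norm_num⟩
  let P : Sylow 3 M := Sylow.ofCard (zpowers k) (by
    rw [Nat.card_zpowers, hk, hK.card, show (175560 : ℕ) = 3 ^ 1 * 58520 by norm_num,
      Nat.factorization_mul (by norm_num) (by norm_num), Finsupp.add_apply,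
      Nat.factorization_eq_zero_of_not_dvd (show ¬ 3 ∣ 58520 by norm_num),
      Nat.Prime.factorization_pow (by norm_num), Finsupp.single_eq_same]
    norm_num)
  have hc := (hK.localData P default default).2.2.1
  obtain ⟨⟨v, hvC⟩, hv⟩ := exists_prime_orderOf_dvd_card'
    (G := centralizer ((P : Subgroup M) : Set M)) 5 (by rw [hc]; norm_num)
  rw [orderOf_mk] at hv
  exact ⟨v, hv, mem_centralizer_iff.1 hvC k (mem_zpowers k)⟩

variable (hA : Nat.card A = 11)
include hA

theorem mult_injective {c : ZMod 11} {x g h : M} (hx : Acts (MulAut.conj x) A c) (hc : c ≠ 1)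
    (hg : Commute x g) (hh : Commute x h) {d : ZMod 11} (hgA : Acts (MulAut.conj g) A d)
    (hhA : Acts (MulAut.conj h) A d) : g = h := by
  have h1 : Acts (MulAut.conj (g⁻¹ * h)) A 1 := by
    rw [map_mul, map_inv, ← inv_mul_cancel₀ (hgA.ne_zero hA)]
    exact (hgA.inv hA).mul hA hhA
  have hmem := hK.mem_of_acts_one hA h1
  rw [← inv_mul_eq_one]
  by_contra hne
  apply hc
  have e : (g⁻¹ * h) ^ c.val = g⁻¹ * h := by
    rw [← hx _ hmem, MulAut.conj_apply, (hg.inv_right.mul_right hh).eq, mul_inv_cancel_right]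
  rw [← pow_one (g⁻¹ * h), ← pow_mul, one_mul, pow_eq_pow_iff_modEq,
    orderOf_mem hA hmem hne, Nat.ModEq, Nat.mod_eq_of_lt (ZMod.val_lt c)] at e
  exact ZMod.val_injective _ (e.trans (ZMod.val_one 11).symm)

theorem card_stab_le {x : M} {c : ZMod 11} (hx : Acts (MulAut.conj x) A c) (hc : c ≠ 1) :
    Nat.card (normalizer (A : Set M) ⊓ centralizer ({x} : Set M) : Subgroup M) ≤ 10 := by
  classical
  have hg : ∀ g : (normalizer (A : Set M) ⊓ centralizer ({x} : Set M) : Subgroup M),
      ∃ d : {d : ZMod 11 // d ≠ 0}, Acts (MulAut.conj (g : M)) A d := fun g => by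
    obtain ⟨d, hd, h⟩ := exists_acts (φ := MulAut.conj (g : M)) hA (cj_eq_self_iff.2 g.2.1)
    exact ⟨⟨d, hd⟩, h⟩
  choose f hf using hg
  calc _ ≤ Nat.card {d : ZMod 11 // d ≠ 0} := Nat.card_le_card_of_injective f fun a b e =>
        Subtype.ext (hK.mult_injective hA hx hc (mem_centralizer_singleton_iff.1 a.2.2).symm
          (mem_centralizer_singleton_iff.1 b.2.2).symm (hf a) (e ▸ hf b))
    _ = 10 := by rw [Nat.card_eq_fintype_card]; rfl

theorem exists_torus {t : M} (ht : orderOf t = 2) (htA : cj t A = A) :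
    ∃ (u : M) (s : ZMod 11), orderOf u = 5 ∧ Commute t u ∧ s ≠ 1 ∧ s ^ 5 = 1 ∧
      cj u A = A ∧ Acts (MulAut.conj u) A s := by
  have := hK.finite
  have : Fact (Nat.Prime 5) := ⟨by norm_num⟩
  obtain ⟨⟨v, hvN⟩, hv⟩ := exists_prime_orderOf_dvd_card' (G := normalizer (A : Set M)) 5
    (by rw [hK.card_normalizer hA]; norm_num)
  rw [orderOf_mk] at hv
  have hvA : cj v A = A := cj_eq_self_iff.2 hvN
  obtain ⟨s, hs0, hs⟩ := exists_acts (φ := MulAut.conj v) hA hvA
  have hv5 : v ^ 5 = 1 := hv ▸ pow_orderOf_eq_one v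
  have hs5 : s ^ 5 = 1 := by
    have := hs.pow hA 5
    rw [← map_pow, hv5, map_one] at this
    exact this.unique hA acts_one
  have hs1 : s ≠ 1 := by
    rintro rfl
    have := Subgroup.orderOf_dvd_natCard _ (hK.mem_of_acts_one hA hs)
    rw [hv, hA] at this
    norm_num at this
  have htt := hK.acts_invol hA ht htA
  have htsq : t * t = 1 := by rw [← pow_two, ← ht, pow_orderOf_eq_one]
  have hti : t⁻¹ = t := inv_eq_of_mul_eq_one_right htsq
  have ha : t * v * t⁻¹ * v⁻¹ ∈ A := by
    refine hK.mem_of_acts_one hA ?_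
    rw [map_mul, map_mul, map_mul, map_inv, map_inv]
    have := ((htt.mul hA hs).mul hA (htt.inv hA)).mul hA (hs.inv hA)
    rwa [show (-1 : ZMod 11) * s * (-1)⁻¹ * s⁻¹ = 1 by
      rw [inv_neg, inv_one, mul_neg_one, neg_one_mul, neg_neg, mul_inv_cancel₀ hs0]] at this
  set a := t * v * t⁻¹ * v⁻¹ with hadef
  set u := a ^ 6 * v with hu
  have hcomm : Commute t u := by
    have e : t * a ^ 6 * t⁻¹ = (a ^ 6) ^ (-1 : ZMod 11).val := htt _ (A.pow_mem ha 6)
    have e2 : t * u * t⁻¹ = u := by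
      calc t * u * t⁻¹ = (t * a ^ 6 * t⁻¹) * (t * v * t⁻¹) := by rw [hu]; group
        _ = (a ^ 6) ^ (-1 : ZMod 11).val * (a * v) := by rw [e, hadef]; group
        _ = u := by
          rw [hu, ← mul_assoc, ← pow_mul, ← pow_succ, show (-1 : ZMod 11).val = 10 by decide,
            show 6 * 10 + 1 = 11 * 5 + 6 by norm_num, pow_add, pow_mul, pow_eleven hA ha, one_pow,
            one_mul]
    exact mul_inv_eq_iff_eq_mul.1 e2
  have huact : Acts (MulAut.conj u) A s := by
    rw [hu, map_mul]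
    have := (acts_conj_self hA (A.pow_mem ha 6)).mul hA hs
    rwa [one_mul] at this
  have hu5 : u ^ 5 = 1 := by
    have h5 : Acts (MulAut.conj (u ^ 5)) A 1 := by
      rw [map_pow, ← hs5]; exact huact.pow hA 5
    refine hK.mult_injective hA htt (by decide) (hcomm.pow_right 5) (Commute.one_right t) h5 ?_
    rw [map_one]; exact acts_one
  have hu1 : u ≠ 1 := by
    intro e
    rw [e, map_one] at huact
    exact hs1 (huact.unique hA acts_one)
  exact ⟨u, s, orderOf_eq_prime hu5 hu1, hcomm, hs1, hs5, huact.mv_eq hA, huact⟩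

theorem conj_invol_stab {t t' : M} (ht : orderOf t = 2) (htA : cj t A = A) (ht' : orderOf t' = 2)
    (ht'A : cj t' A = A) : ∃ b ∈ A, b * t * b⁻¹ = t' := by
  have := hK.finite
  have htsq : t * t = 1 := by rw [← pow_two, ← ht, pow_orderOf_eq_one]
  have hti : t⁻¹ = t := inv_eq_of_mul_eq_one_right htsq
  have htt := hK.acts_invol hA ht htA
  have h1 : Acts (MulAut.conj (t' * t)) A 1 := by
    rw [map_mul]
    simpa using (hK.acts_invol hA ht' ht'A).mul hA htt
  have ha := hK.mem_of_acts_one hA h1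
  set a := t' * t with hadef
  refine ⟨a ^ 6, A.pow_mem ha 6, ?_⟩
  have hb : (a ^ 6)⁻¹ ∈ A := A.inv_mem (A.pow_mem ha 6)
  have e : t * (a ^ 6)⁻¹ * t⁻¹ = ((a ^ 6)⁻¹) ^ (-1 : ZMod 11).val := htt _ hb
  calc a ^ 6 * t * (a ^ 6)⁻¹ = a ^ 6 * (t * (a ^ 6)⁻¹ * t⁻¹) * t := by group
    _ = a * t := by
      rw [e, show (-1 : ZMod 11).val = 10 by decide]
      congr 1
      rw [inv_pow, ← pow_mul, mul_inv_eq_iff_eq_mul, ← pow_succ',
        show 6 * 10 + 1 = 11 * 5 + 6 by norm_num, pow_add, pow_mul, pow_eleven hA ha, one_pow, one_mul]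
    _ = t' := by rw [hadef, mul_assoc, htsq, mul_one]

theorem trans_fixed {t : M} (ht : orderOf t = 2) (htA : cj t A = A) {X : Subgroup M}
    (hX : Nat.card X = 11) (htX : cj t X = X) : ∃ g, Commute t g ∧ cj g A = X := by
  have := hK.finite
  obtain ⟨g, hg⟩ := exists_cj_eleven hK.not_sq hA hX
  have ht' : orderOf (g⁻¹ * t * g) = 2 := by
    rw [show g⁻¹ * t * g = MulAut.conj g⁻¹ t by simp, MulEquiv.orderOf_eq, ht]
  have ht'A : cj (g⁻¹ * t * g) A = A := by rw [cj_mul, cj_mul, hg, htX, ← hg, cj_inv_cj]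
  obtain ⟨b, hb, hbt⟩ := hK.conj_invol_stab hA ht htA ht' ht'A
  refine ⟨g * b, ?_, by rw [cj_mul, cj_eq_self_of_mem hb, hg]⟩
  show t * (g * b) = g * b * t
  calc t * (g * b) = g * (g⁻¹ * t * g) * b := by group
    _ = g * (b * t * b⁻¹) * b := by rw [hbt]
    _ = g * b * t := by group

theorem card_fixed_invol {t : M} (ht : orderOf t = 2) (htA : cj t A = A) :
    Nat.card {X : Subgroup M // Nat.card X = 11 ∧ cj t X = X} = 12 := by
  have := hK.finite
  obtain ⟨u, s, hu, htu, hs1, -, huA, hs⟩ := hK.exists_torus hA ht htA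
  have hsq : t * t = 1 := by rw [← pow_two, ← ht, pow_orderOf_eq_one]
  let S : Subgroup M := normalizer (A : Set M) ⊓ centralizer ({t} : Set M)
  have hle := hK.card_stab_le hA (hK.acts_invol hA ht htA) (by decide)
  have h2 : 2 ∣ Nat.card S := ht ▸ Subgroup.orderOf_dvd_natCard S
    ⟨cj_eq_self_iff.1 htA, mem_centralizer_singleton_iff.2 rfl⟩
  have h5 : 5 ∣ Nat.card S := hu ▸ Subgroup.orderOf_dvd_natCard S
    ⟨cj_eq_self_iff.1 huA, mem_centralizer_singleton_iff.2 htu.symm.eq⟩
  have hpos : 0 < Nat.card S := Nat.card_pos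
  have h10 : Nat.card S = 10 := by
    have := Nat.Coprime.mul_dvd_of_dvd_of_dvd (by norm_num : Nat.Coprime 2 5) h2 h5
    have := Nat.le_of_dvd hpos this
    have : Nat.card S ≤ 10 := hle
    omega
  set C := centralizer ({t} : Set M) with hC
  let f : C → {X : Subgroup M // Nat.card X = 11 ∧ cj t X = X} := fun g =>
    ⟨cj (g : M) A, (card_cj _ A).trans hA, by
      rw [← cj_mul, ← mem_centralizer_singleton_iff.1 g.2, cj_mul, htA]⟩
  have hsurj : Function.Surjective f := fun X => by
    obtain ⟨g, hg, hgA⟩ := hK.trans_fixed hA ht htA X.2.1 X.2.2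
    exact ⟨⟨g, mem_centralizer_singleton_iff.2 hg.symm.eq⟩, Subtype.ext hgA⟩
  have hfib : ∀ X, Nat.card {g // f g = X} = 10 := by
    intro X
    obtain ⟨g₀, hg₀⟩ := hsurj X
    rw [← h10]
    refine Nat.card_congr
      { toFun := fun g => ⟨(g₀ : M)⁻¹ * g.1, ?_, C.mul_mem (C.inv_mem g₀.2) g.1.2⟩
        invFun := fun s => ⟨⟨(g₀ : M) * s, mul_mem g₀.2 s.2.2⟩, Subtype.ext ?_⟩
        left_inv := fun g => Subtype.ext (Subtype.ext (mul_inv_cancel_left _ _))
        right_inv := fun s => Subtype.ext (inv_mul_cancel_left _ _) }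
    · refine cj_eq_self_iff.1 ?_
      rw [cj_mul, show cj (g.1 : M) A = cj (g₀ : M) A from
        congrArg Subtype.val (g.2.trans hg₀.symm), cj_inv_cj]
    · show cj ((g₀ : M) * s) A = X.1
      rw [cj_mul, cj_eq_self_iff.2 s.2.1, ← hg₀]
  classical
  have := Fintype.ofFinite {X : Subgroup M // Nat.card X = 11 ∧ cj t X = X}
  have htot := Nat.card_congr (Equiv.sigmaFiberEquiv f)
  rw [Nat.card_sigma, Finset.sum_congr rfl (fun X _ => hfib X), Finset.sum_const, Finset.card_univ,
    ← Nat.card_eq_fintype_card, smul_eq_mul, show Nat.card C = 120 from hK.card_centralizer_invol ht] at htot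
  omega

theorem antipode {t u : M} (ht : orderOf t = 2) (htA : cj t A = A) (hu : orderOf u = 5)
    (htu : Commute t u) (huA : cj u A = A) : ∃ A' : Subgroup M, Nat.card A' = 11 ∧ A' ≠ A ∧
      cj t A' = A' ∧ cj u A' = A' ∧
      ∀ X : Subgroup M, Nat.card X = 11 → cj t X = X → cj u X = X → X = A ∨ X = A' := by
  have := hK.finite
  have : Fact (Nat.Prime 5) := ⟨by norm_num⟩
  set C := centralizer ({t} : Set M) with hC
  have huC : u ∈ C := mem_centralizer_singleton_iff.2 htu.symm.eq
  have hC120 : Nat.card C = 120 := hK.card_centralizer_invol ht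
  set T : Subgroup C := zpowers ⟨u, huC⟩ with hT
  have hT5 : Nat.card T = 5 := by rw [hT, Nat.card_zpowers, orderOf_mk, hu]
  let P : Sylow 5 C := Sylow.ofCard T (by
    rw [hT5, hC120, show (120 : ℕ) = 5 ^ 1 * 24 by norm_num,
      Nat.factorization_mul (by norm_num) (by norm_num), Finsupp.add_apply,
      Nat.factorization_eq_zero_of_not_dvd (show ¬ 5 ∣ 24 by norm_num),
      Nat.Prime.factorization_pow (by norm_num), Finsupp.single_eq_same]
    norm_num)
  set N : Subgroup C := normalizer (T : Set C) with hN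
  have hNmul : Nat.card N * Nat.card (Sylow 5 C) = 120 := by
    rw [P.card_eq_index_normalizer, ← hC120]
    exact N.card_mul_index
  have hn5 : Nat.card (Sylow 5 C) % 5 = 1 := card_sylow_modEq_one 5 C
  have hN20 : Nat.card N = 20 := by
    have hd : Nat.card (Sylow 5 C) ∣ 24 := by
      have h := P.card_dvd_index
      have h' := (P : Subgroup C).card_mul_index
      rw [show Nat.card (P : Subgroup C) = 5 from hT5, hC120] at h'
      rwa [show (P : Subgroup C).index = 24 by omega] at h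
    have key : ∀ n ∈ Nat.divisors 24, n % 5 = 1 → n = 1 ∨ n = 6 := by decide +kernel
    rcases key _ (Nat.mem_divisors.2 ⟨hd, by norm_num⟩) hn5 with h | h
    · exfalso
      rw [h, mul_one] at hNmul
      -- then `C(t)` would lie in the normaliser of `⟨u⟩`, of order `60`
      have htop : N = ⊤ := eq_top_of_card_eq _ (hNmul.trans hC120.symm)
      have hle : C ≤ normalizer ((zpowers u : Subgroup M) : Set M) := by
        intro x hx
        have hx' : (⟨x, hx⟩ : C) ∈ N := htop ▸ mem_top _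
        refine mem_normalizer_of_conj_mem fun y hy => ?_
        obtain ⟨k, rfl⟩ := hy
        obtain ⟨j, hj⟩ := (mem_normalizer_iff.1 hx' ((⟨u, huC⟩ : C) ^ k)).1 ⟨k, rfl⟩
        exact ⟨j, by simpa using congrArg Subtype.val hj⟩
      have hd1 := card_dvd_of_le hle
      rw [hC120] at hd1
      have : Fact (Nat.Prime 3) := ⟨Nat.prime_three⟩
      let Q : Sylow 5 M := Sylow.ofCard (zpowers u) (by
        rw [Nat.card_zpowers, hu, hK.card, show (175560 : ℕ) = 5 ^ 1 * 35112 by norm_num,
          Nat.factorization_mul (by norm_num) (by norm_num), Finsupp.add_apply,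
          Nat.factorization_eq_zero_of_not_dvd (show ¬ 5 ∣ 35112 by norm_num),
          Nat.Prime.factorization_pow (by norm_num), Finsupp.single_eq_same]
        norm_num)
      have hmul := (normalizer ((zpowers u : Subgroup M) : Set M)).card_mul_index
      rw [show (normalizer ((zpowers u : Subgroup M) : Set M)).index = Nat.card (Sylow 5 M) from
        Q.card_eq_index_normalizer.symm, (hK.localData default Q default).1, hK.card] at hmul
      have h60 : Nat.card (normalizer ((zpowers u : Subgroup M) : Set M)) = 60 := by omega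
      rw [h60] at hd1
      norm_num at hd1
    · rw [h] at hNmul
      omega
  obtain ⟨v, s, hv, htv, hs1, -, hvA, hs⟩ := hK.exists_torus hA ht htA
  let S : Subgroup M := normalizer (A : Set M) ⊓ C
  have hle := hK.card_stab_le hA (hK.acts_invol hA ht htA) (by decide)
  have huS : u ∈ S := ⟨cj_eq_self_iff.1 huA, huC⟩
  have htS : t ∈ S := ⟨cj_eq_self_iff.1 htA, mem_centralizer_singleton_iff.2 rfl⟩
  have h10 : Nat.card S = 10 := by
    have h2 : 2 ∣ Nat.card S := ht ▸ Subgroup.orderOf_dvd_natCard S htS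
    have h5 : 5 ∣ Nat.card S := hu ▸ Subgroup.orderOf_dvd_natCard S huS
    have := Nat.Coprime.mul_dvd_of_dvd_of_dvd (by norm_num : Nat.Coprime 2 5) h2 h5
    have := Nat.le_of_dvd Nat.card_pos this
    have : Nat.card S ≤ 10 := hle
    omega
  obtain ⟨c, -, hcu⟩ := exists_acts (φ := MulAut.conj u) hA huA
  have hc5 : c ^ 5 = 1 := by
    have := hcu.pow hA 5
    rw [← map_pow, ← hu, pow_orderOf_eq_one, map_one] at this
    rw [hu] at this
    exact this.unique hA acts_one
  have hc1 : c ≠ 1 := by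
    rintro rfl
    have := Subgroup.orderOf_dvd_natCard _ (hK.mem_of_acts_one hA hcu)
    rw [hu, hA] at this
    norm_num at this
  -- elements of order five of the stabiliser are powers of `u`
  have hfive : ∀ x ∈ S, x ^ 5 = 1 → x ∈ zpowers u := by
    intro x hx hx5
    obtain ⟨d, -, hd⟩ := exists_acts (φ := MulAut.conj x) hA (cj_eq_self_iff.2 hx.1)
    have hd5 : d ^ 5 = 1 := by
      have := hd.pow hA 5
      rw [← map_pow, hx5, map_one] at this
      exact this.unique hA acts_one
    have key : ∀ c d : ZMod 11, c ≠ 1 → c ^ 5 = 1 → d ^ 5 = 1 → ∃ j < 5, d = c ^ j := by decide +kernel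
    obtain ⟨j, -, rfl⟩ := key c d hc1 hc5 hd5
    rw [hK.mult_injective hA (hK.acts_invol hA ht htA) (by decide)
      (mem_centralizer_singleton_iff.1 hx.2).symm (htu.pow_right j) hd
      (by rw [map_pow]; exact hcu.pow hA j)]
    exact pow_mem (mem_zpowers u) j
  -- the common fixed points form one orbit of the normaliser, with two points
  let Fix := {X : Subgroup M // Nat.card X = 11 ∧ cj t X = X ∧ cj u X = X}
  let f : N → Fix := fun g => ⟨cj ((g : C) : M) A, (card_cj _ A).trans hA, by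
    rw [← cj_mul, ← mem_centralizer_singleton_iff.1 (g : C).2, cj_mul, htA], by
    obtain ⟨k, hk⟩ := (mem_normalizer_iff''.1 g.2 ⟨u, huC⟩).1 (mem_zpowers _)
    have hk' : u ^ k = ((g : C) : M)⁻¹ * u * ((g : C) : M) := by simpa using congrArg Subtype.val hk
    rw [← cj_mul, show u * ((g : C) : M) = ((g : C) : M) * u ^ k by rw [hk']; group, cj_mul,
      cj_eq_self_iff.2 (zpow_mem (cj_eq_self_iff.1 huA) k)]⟩
  have hsurj : Function.Surjective f := by
    rintro ⟨X, hX, htX, huX⟩
    obtain ⟨g, hg, hgA⟩ := hK.trans_fixed hA ht htA hX htX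
    have hgC : g ∈ C := mem_centralizer_singleton_iff.2 hg.symm.eq
    have hz : g⁻¹ * u * g ∈ zpowers u := by
      refine hfive _ ⟨cj_eq_self_iff.1 ?_, C.mul_mem (C.mul_mem (C.inv_mem hgC) huC) hgC⟩ ?_
      · rw [cj_mul, cj_mul, hgA, huX, ← hgA, cj_inv_cj]
      · rw [show g⁻¹ * u * g = MulAut.conj g⁻¹ u by simp, ← map_pow, ← hu, pow_orderOf_eq_one, map_one]
    refine ⟨⟨⟨g, hgC⟩, ?_⟩, Subtype.ext hgA⟩
    have : (⟨g, hgC⟩ : C)⁻¹ ∈ N := by
      refine mem_normalizer_of_conj_mem fun y hy => ?_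
      obtain ⟨k, rfl⟩ := hy
      obtain ⟨j, hj⟩ := hz
      refine ⟨j * k, Subtype.ext ?_⟩
      have : (g⁻¹ * u * g) ^ k = g⁻¹ * u ^ k * g := by
        rw [show g⁻¹ * u * g = MulAut.conj g⁻¹ u by simp, ← map_zpow]; simp
      simp [zpow_mul, show u ^ j = g⁻¹ * u * g from hj, this]
    simpa using inv_mem this
  have hfib : ∀ X, Nat.card {g // f g = X} = 10 := by
    intro X
    obtain ⟨g₀, hg₀⟩ := hsurj X
    rw [← h10]
    have hSN : ∀ sh : S, (⟨(sh : M), sh.2.2⟩ : C) ∈ N := by
      rintro ⟨s, hs⟩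
      refine mem_normalizer_of_conj_mem fun y hy => ?_
      obtain ⟨k, rfl⟩ := hy
      obtain ⟨j, hj⟩ := hfive (s * u ^ k * s⁻¹) (mul_mem (mul_mem hs (zpow_mem huS k)) (inv_mem hs)) (by
        rw [← MulAut.conj_apply, ← map_pow, ← zpow_natCast, ← zpow_mul, mul_comm, zpow_mul,
          zpow_natCast, ← hu, pow_orderOf_eq_one, one_zpow, map_one])
      exact ⟨j, Subtype.ext (by simpa using hj)⟩
    refine Nat.card_congr
      { toFun := fun g => ⟨((g₀ : C) : M)⁻¹ * ((g.1 : C) : M), ?_,
          C.mul_mem (C.inv_mem (g₀ : C).2) (g.1 : C).2⟩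
        invFun := fun s => ⟨⟨(g₀ : C) * ⟨s, s.2.2⟩, mul_mem g₀.2 (hSN s)⟩, Subtype.ext ?_⟩
        left_inv := fun g => Subtype.ext (Subtype.ext (Subtype.ext (mul_inv_cancel_left _ _)))
        right_inv := fun s => Subtype.ext (inv_mul_cancel_left _ _) }
    · refine cj_eq_self_iff.1 ?_
      rw [cj_mul, show cj ((g.1 : C) : M) A = cj ((g₀ : C) : M) A from
        congrArg Subtype.val (g.2.trans hg₀.symm), cj_inv_cj]
    · show cj (((g₀ : C) : M) * s) A = X.1
      rw [cj_mul, cj_eq_self_iff.2 s.2.1, ← hg₀]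
  classical
  have := Fintype.ofFinite Fix
  have htot := Nat.card_congr (Equiv.sigmaFiberEquiv f)
  rw [Nat.card_sigma, Finset.sum_congr rfl (fun X _ => hfib X), Finset.sum_const, Finset.card_univ,
    ← Nat.card_eq_fintype_card, smul_eq_mul, hN20] at htot
  have hFix : Nat.card Fix = 2 := by omega
  obtain ⟨⟨A', hA', htA', huA'⟩, hne, huniq⟩ := (Nat.card_eq_two_iff' (⟨A, hA, htA, huA⟩ : Fix)).1 hFix
  refine ⟨A', hA', fun e => hne (Subtype.ext e), htA', huA', fun X hX h1 h2 => ?_⟩
  by_cases hXA : X = A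
  · exact Or.inl hXA
  · exact Or.inr (congrArg Subtype.val (huniq ⟨X, hX, h1, h2⟩ fun e => hXA (congrArg Subtype.val e)))

theorem exists_same_mult {u : M} (hu : orderOf u = 5) (huA : cj u A = A) :
    ∃ g, Commute u g ∧ cj g A ≠ A := by
  have := hK.finite
  by_contra h
  push Not at h
  obtain ⟨c, -, hc⟩ := exists_acts (φ := MulAut.conj u) hA huA
  have hc1 : c ≠ 1 := by
    rintro rfl
    have := Subgroup.orderOf_dvd_natCard _ (hK.mem_of_acts_one hA hc)
    rw [hu, hA] at this
    norm_num at this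
  have hle : centralizer ({u} : Set M) ≤ normalizer (A : Set M) ⊓ centralizer ({u} : Set M) :=
    fun g hg => ⟨cj_eq_self_iff.1 (h g (mem_centralizer_singleton_iff.1 hg).symm), hg⟩
  have h1 := card_dvd_of_le hle
  have h2 := hK.card_stab_le hA hc hc1
  rw [hK.card_centralizer_five hu] at h1
  have := Nat.le_of_dvd Nat.card_pos h1
  omega

end IsK

end Cfsg.Agent.Lib.OrdElevenPairs
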