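import Cfsg.Agent.Lib.OrdElevenPairs.LineInv
import Cfsg.Agent.Lib.OrdElevenPairs.Jan

/-!
# Classes of subgroups of order eleven in which pairs generate `L₂(11)` or `J₁`
-/

set_option autoImplicit false
set_option linter.unusedSectionVars false

namespace Cfsg.Agent.Lib.OrdElevenPairs

open Cfsg.Agent.Lib.PairOdd Subgroup

universe u

variable {G : Type u} [Group G]

/-! ### The automorphism induced on a normalised subgroup -/

/-- The automorphism of `M` induced by an element normalising it. -/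
noncomputable def aut {g : G} {M : Subgroup G} (h : cj g M = M) : MulAut M :=
  M.normalizerMonoidHom ⟨g, cj_eq_self_iff.1 h⟩

theorem aut_val {g : G} {M : Subgroup G} (h : cj g M = M) (x : M) :
    ((aut h x : M) : G) = g * x * g⁻¹ := rfl

theorem aut_eq_one {g : G} {M : Subgroup G} (h : cj g M = M) :
    aut h = 1 ↔ g ∈ centralizer (M : Set G) := by
  rw [mem_centralizer_iff]
  constructor
  · intro e x hx
    have := congrArg Subtype.val (DFunLike.congr_fun e ⟨x, hx⟩)
    rw [aut_val] at this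
    exact (mul_inv_eq_iff_eq_mul.1 this).symm
  · intro e
    refine MulEquiv.ext fun x => Subtype.ext ?_
    rw [aut_val]
    exact mul_inv_eq_iff_eq_mul.2 (e x x.2).symm

theorem aut_eq_conj {g : G} {M : Subgroup G} (h : cj g M = M) {m : M}
    (e : aut h = MulAut.conj m) : (m : G)⁻¹ * g ∈ centralizer (M : Set G) := by
  rw [mem_centralizer_iff]
  intro x hx
  have := congrArg Subtype.val (DFunLike.congr_fun e ⟨x, hx⟩)
  rw [aut_val] at this
  simp only [MulAut.conj_apply, Subgroup.coe_mul, InvMemClass.coe_inv] at this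
  calc x * ((m : G)⁻¹ * g) = (m : G)⁻¹ * ((m : G) * x * (m : G)⁻¹) * g := by group
    _ = (m : G)⁻¹ * (g * x * g⁻¹) * g := by rw [this]
    _ = (m : G)⁻¹ * g * x := by group

theorem mv_aut {g : G} {M A : Subgroup G} (h : cj g M = M) :
    mv (aut h) (A.subgroupOf M) = (cj g A).subgroupOf M := by
  ext x
  rw [mem_mv, mem_subgroupOf, mem_subgroupOf, mem_cj]
  obtain ⟨y, rfl⟩ : ∃ y, x = aut h y := ⟨(aut h)⁻¹ x, by simp⟩
  have e : ((aut h)⁻¹ (aut h y) : M) = y := by simp
  rw [e, aut_val, show g⁻¹ * (g * (y : G) * g⁻¹) * g = y by group]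

theorem acts_aut {g : G} {M A : Subgroup G} (h : cj g M = M) (hA : A ≤ M) {c : ZMod 11} :
    Acts (aut h) (A.subgroupOf M) c ↔ Acts (MulAut.conj g) A c := by
  constructor
  · intro e x hx
    have := congrArg Subtype.val (e ⟨x, hA hx⟩ hx)
    rwa [aut_val, SubmonoidClass.coe_pow] at this
  · intro e x hx
    refine Subtype.ext ?_
    rw [aut_val, SubmonoidClass.coe_pow]
    exact e x hx

theorem conj_acts_iff {M A : Subgroup G} (hA : A ≤ M) (m : M) {c : ZMod 11} :
    Acts (MulAut.conj m) (A.subgroupOf M) c ↔ Acts (MulAut.conj (m : G)) A c := by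
  constructor
  · intro e x hx
    simpa using congrArg Subtype.val (e ⟨x, hA hx⟩ hx)
  · intro e x hx
    exact Subtype.ext (by simpa using e x hx)

theorem cj_subgroupOf {M A : Subgroup G} (m : M) :
    cj m (A.subgroupOf M) = (cj (m : G) A).subgroupOf M := by
  ext x
  simp [mem_cj, mem_subgroupOf]

theorem card_subgroupOf {M A : Subgroup G} (hA : A ≤ M) : Nat.card (A.subgroupOf M) = Nat.card A :=
  Nat.card_congr (subgroupOfEquivOfLe hA).toEquiv

theorem subgroupOf_inj {M A B : Subgroup G} (hA : A ≤ M) (hB : B ≤ M)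
    (h : A.subgroupOf M = B.subgroupOf M) : A = B := by
  rw [← inf_eq_left.2 hA, ← inf_eq_left.2 hB, ← subgroupOf_map_subtype, h, subgroupOf_map_subtype]

theorem cj_le_of_mem {g : G} {M A : Subgroup G} (hM : cj g M = M) (hA : A ≤ M) : cj g A ≤ M :=
  hM ▸ cj_mono hA

theorem cj_self {M : Subgroup G} {m : G} (hm : m ∈ M) : cj m M = M := cj_eq_self_of_mem hm

/-- A class of subgroups of order eleven generating `G`, with all pairs of the two types. -/
structure Sys (G : Type u) [Group G] where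
  /-- the members -/
  D : Set (Subgroup G)
  card : ∀ A ∈ D, Nat.card A = 11
  conj : ∀ (g : G), ∀ A ∈ D, cj g A ∈ D
  gen : (⨆ A ∈ D, A) = ⊤
  pair : ∀ A ∈ D, ∀ B ∈ D, A ≠ B → IsL ↥(A ⊔ B) ∨ IsK ↥(A ⊔ B)
  two : ∃ A ∈ D, ∃ B ∈ D, A ≠ B

namespace Sys

variable (S : Sys G)

/-- Two members generate `G`. -/
def Done : Prop := ∃ A ∈ S.D, ∃ B ∈ S.D, A ≠ B ∧ A ⊔ B = ⊤

/-- Every proper subgroup generated by members is generated by two of them. -/
def Small : Prop := ∀ E ⊆ S.D, (⨆ A ∈ E, A) ≠ ⊤ → (∃ A ∈ E, ∃ B ∈ E, A ≠ B) →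
  ∃ A ∈ S.D, ∃ B ∈ S.D, A ≠ B ∧ (⨆ X ∈ E, X) = A ⊔ B

variable {S} [Finite G] {A B : Subgroup G} (hA : A ∈ S.D) (hB : B ∈ S.D)

include hA hB in
theorem simple_pair (hAB : A ≠ B) :
    IsSimpleGroup ↥(A ⊔ B) ∧ center ↥(A ⊔ B) = ⊥ ∧ ¬ 11 ^ 2 ∣ Nat.card ↥(A ⊔ B) := by
  rcases S.pair A hA B hB hAB with h | h
  · exact ⟨h.simple, h.center_eq, h.not_sq⟩
  · have := h.simple
    refine ⟨this, ?_, h.not_sq⟩
    refine ((Subgroup.Normal.eq_bot_or_eq_top (inferInstance : (center ↥(A ⊔ B)).Normal))).resolve_right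
      fun e => ?_
    have hA' := h.centralizer_eq (A := A.subgroupOf (A ⊔ B))
      (by rw [card_subgroupOf le_sup_left, S.card A hA])
    have hle : (⊤ : Subgroup ↥(A ⊔ B)) ≤ centralizer ((A.subgroupOf (A ⊔ B) : Subgroup _) : Set _) :=
      fun x _ => mem_centralizer_iff.2 fun y _ => (mem_center_iff.1 (e ▸ mem_top x)) y
    rw [hA'] at hle
    have := card_dvd_of_le hle
    rw [card_top, h.card, card_subgroupOf le_sup_left, S.card A hA] at this
    norm_num at this

include hA hB in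
theorem not_commute (hAB : A ≠ B) {a : G} (ha : a ∈ A) (ha1 : a ≠ 1)
    (h : a ∈ centralizer (B : Set G)) : False := by
  have hs := simple_pair hA hB hAB
  have hmem : a ∈ A ⊔ B := le_sup_left (a := A) ha
  have hc : (⟨a, hmem⟩ : ↥(A ⊔ B)) ∈ center ↥(A ⊔ B) := by
    rw [mem_center_iff]
    rintro ⟨x, hx⟩
    refine Subtype.ext ?_
    have hle : A ⊔ B ≤ centralizer ({a} : Set G) := sup_le
      (fun y hy => mem_centralizer_singleton_iff.2 (commute_mem (S.card A hA) hy ha).eq)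
      (fun y hy => mem_centralizer_singleton_iff.2 (mem_centralizer_iff.1 h y hy))
    exact mem_centralizer_singleton_iff.1 (hle hx)
  rw [hs.2.1, mem_bot] at hc
  exact ha1 (congrArg Subtype.val hc)

include hA hB in
theorem eq_of_fix {a : G} (ha : a ∈ A) (ha1 : a ≠ 1) (h : cj a B = B) : A = B := by
  by_contra hAB
  obtain ⟨c, -, hc⟩ := exists_acts (φ := MulAut.conj a) (S.card B hB) h
  have h11 : Acts (MulAut.conj a ^ 11) B (c ^ 11) := hc.pow (S.card B hB) 11
  rw [← map_pow, pow_eleven (S.card A hA) ha, map_one] at h11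
  have key : ∀ c : ZMod 11, c ^ 11 = 1 → c = 1 := by decide +kernel
  rw [key c (h11.unique (S.card B hB) acts_one)] at hc
  exact not_commute hA hB hAB ha ha1 (acts_conj_iff.1 hc)

/-- An element normalising two members normalises their join. -/
theorem cj_pair {g : G} (hgA : cj g A = A) (hgB : cj g B = B) : cj g (A ⊔ B) = A ⊔ B := by
  rw [cj_sup, hgA, hgB]

include hA hB in
theorem cent_pair (hAB : A ≠ B) {g : G} (hgA : g ∈ centralizer (A : Set G)) (hgB : cj g B = B) :
    g ∈ centralizer ((A ⊔ B : Subgroup G) : Set G) := by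
  have hgA' : cj g A = A := cj_eq_self_of_commute fun x hx => (mem_centralizer_iff.1 hgA x hx).symm
  have hg := cj_pair hgA' hgB
  have hA' : Nat.card (A.subgroupOf (A ⊔ B)) = 11 := by rw [card_subgroupOf le_sup_left, S.card A hA]
  have hB' : Nat.card (B.subgroupOf (A ⊔ B)) = 11 := by rw [card_subgroupOf le_sup_right, S.card B hB]
  have h1 : Acts (aut hg) (A.subgroupOf (A ⊔ B)) 1 := (acts_aut hg le_sup_left).2 (acts_conj_iff.2 hgA)
  have hne : A.subgroupOf (A ⊔ B) ≠ B.subgroupOf (A ⊔ B) := fun e =>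
    hAB (subgroupOf_inj le_sup_left le_sup_right e)
  have h2 : mv (aut hg) (B.subgroupOf (A ⊔ B)) = B.subgroupOf (A ⊔ B) := by rw [mv_aut, hgB]
  rw [← aut_eq_one hg]
  rcases S.pair A hA B hB hAB with h | h
  · exact h.sign hA' hB' hne h1 h2
  · obtain ⟨k, hk⟩ := h.exists_inner (aut hg)
    rw [hk] at h1 h2
    have hkA := h.mem_of_acts_one hA' h1
    by_cases hk1 : k = 1
    · rw [hk, hk1, map_one]
    · exact absurd (h.eq_of_fix hA' hkA hk1 hB' h2) hne

include hA hB in
theorem cent_fixed {g : G} (hgA : g ∈ centralizer (A : Set G)) (hgB : cj g B = B) :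
    g ∈ centralizer (B : Set G) := by
  by_cases hAB : A = B
  · exact hAB ▸ hgA
  · exact centralizer_le (SetLike.coe_subset_coe.2 le_sup_right) (cent_pair hA hB hAB hgA hgB)

include hA hB in
theorem acts_eq_one {g : G} (hgA : g ∈ centralizer (A : Set G)) {c : ZMod 11}
    (h : Acts (MulAut.conj g) B c) : c = 1 :=
  h.unique (S.card B hB) (acts_conj_iff.2 (cent_fixed hA hB hgA (h.mv_eq (S.card B hB))))

include hA in
/-- Subgroups of order eleven of a line are members. -/
theorem mem_D {M : Subgroup G} (hAM : A ≤ M) (hM : ¬ 11 ^ 2 ∣ Nat.card M) {X : Subgroup G}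
    (hX : Nat.card X = 11) (hXM : X ≤ M) : X ∈ S.D := by
  obtain ⟨m, hm⟩ := exists_cj_eleven hM (A := A.subgroupOf M) (B := X.subgroupOf M)
    (by rw [card_subgroupOf hAM, S.card A hA]) (by rw [card_subgroupOf hXM, hX])
  rw [cj_subgroupOf] at hm
  rw [← subgroupOf_inj (cj_le_of_mem (cj_self m.2) hAM) hXM hm]
  exact S.conj _ A hA

include hA hB in
theorem exists_conj : ∃ g : G, cj g A = B := by
  by_cases hAB : A = B
  · exact ⟨1, by rw [cj_one, hAB]⟩
  obtain ⟨m, hm⟩ := exists_cj_eleven (simple_pair hA hB hAB).2.2 (A := A.subgroupOf (A ⊔ B))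
    (B := B.subgroupOf (A ⊔ B)) (by rw [card_subgroupOf le_sup_left, S.card A hA])
    (by rw [card_subgroupOf le_sup_right, S.card B hB])
  rw [cj_subgroupOf] at hm
  exact ⟨m, subgroupOf_inj (cj_le_of_mem (cj_self m.2) le_sup_left) le_sup_right hm⟩

include hA hB in
theorem pair_le_commutator (hAB : A ≠ B) : A ⊔ B ≤ commutator G := by
  obtain ⟨hs, hc, -⟩ := simple_pair hA hB hAB
  have hne : commutator ↥(A ⊔ B) ≠ ⊥ := by
    intro e
    rw [commutator_def, commutator_eq_bot_iff_le_centralizer] at e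
    have htop : center ↥(A ⊔ B) = ⊤ := eq_top_iff.2 fun x hx => mem_center_iff.2 fun y =>
      (mem_centralizer_iff.1 (e hx) y (mem_top y))
    rw [hc] at htop
    have := hs.toNontrivial
    exact bot_ne_top htop
  have htop := ((inferInstance : (commutator ↥(A ⊔ B)).Normal).eq_bot_or_eq_top).resolve_left hne
  calc A ⊔ B = (⊤ : Subgroup ↥(A ⊔ B)).map (A ⊔ B).subtype := by
        rw [← MonoidHom.range_eq_map, range_subtype]
    _ = (commutator ↥(A ⊔ B)).map (A ⊔ B).subtype := by rw [htop]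
    _ = ⁅A ⊔ B, A ⊔ B⁆ := by
        rw [commutator_def, map_commutator, ← MonoidHom.range_eq_map, range_subtype]
    _ ≤ commutator G := commutator_mono le_top le_top

theorem perfect (S : Sys G) : commutator G = ⊤ := by
  rw [← top_le_iff, ← S.gen, iSup₂_le_iff]
  intro X hX
  obtain ⟨A, hA, B, hB, hAB⟩ := S.two
  obtain ⟨Y, hY, hXY⟩ : ∃ Y ∈ S.D, X ≠ Y := by
    by_cases h : X = A
    · exact ⟨B, hB, h ▸ hAB⟩
    · exact ⟨A, hA, h⟩
  exact le_sup_left.trans (pair_le_commutator hX hY hXY)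

theorem mem_center_of_forall (S : Sys G) {g : G} (h : ∀ A ∈ S.D, g ∈ centralizer (A : Set G)) :
    g ∈ center G := by
  rw [mem_center_iff]
  intro x
  have hle : (⨆ A ∈ S.D, A) ≤ centralizer ({g} : Set G) := iSup₂_le fun A hA y hy =>
    mem_centralizer_singleton_iff.2 (mem_centralizer_iff.1 (h A hA) y hy)
  rw [S.gen] at hle
  exact mem_centralizer_singleton_iff.1 (hle (mem_top x))

theorem normal_le_center (S : Sys G) {N : Subgroup G} (hN : N.Normal) (htop : N ≠ ⊤) : N ≤ center G := by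
  intro n hn
  refine S.mem_center_of_forall fun A hA => ?_
  by_contra hnA
  have hnotmem : ∀ X ∈ S.D, ¬ X ≤ N := by
    intro X hX hXN
    refine htop (top_le_iff.1 ?_)
    rw [← S.gen, iSup₂_le_iff]
    intro Y hY y hy
    obtain ⟨g, rfl⟩ := exists_conj hX hY
    obtain ⟨x, hx, rfl⟩ := hy
    exact hN.conj_mem x (hXN hx) g
  by_cases hfix : cj n A = A
  · obtain ⟨c, -, hc⟩ := exists_acts (φ := MulAut.conj n) (S.card A hA) hfix
    obtain ⟨a, ha, ha1, ho, hza⟩ := exists_gen (S.card A hA)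
    have hmem : n * a * n⁻¹ * a⁻¹ ∈ N := by
      rw [mul_assoc n a, mul_assoc n]
      exact N.mul_mem hn (hN.conj_mem _ (N.inv_mem hn) a)
    by_cases h1 : n * a * n⁻¹ * a⁻¹ = 1
    · apply hnA
      rw [mul_inv_eq_one, mul_inv_eq_iff_eq_mul] at h1
      rw [mem_centralizer_iff, hza]
      rintro _ ⟨i, rfl⟩
      exact ((show Commute n a from h1).zpow_right i).symm.eq
    · refine hnotmem A hA ?_
      rw [← zpowers_mem (S.card A hA) (A.mul_mem (show n * a * n⁻¹ ∈ A by
        rw [← MulAut.conj_apply, hc a ha]; exact A.pow_mem ha _) (A.inv_mem ha)) h1]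
      exact zpowers_le.2 hmem
  · have hB : cj n A ∈ S.D := S.conj n A hA
    obtain ⟨hs, -, -⟩ := simple_pair hA hB (Ne.symm hfix)
    have hN' : (N.subgroupOf (A ⊔ cj n A)).Normal := Subgroup.Normal.subgroupOf hN _
    rcases hN'.eq_bot_or_eq_top with h | h
    · obtain ⟨a, ha, ha1, -, -⟩ := exists_gen (S.card A hA)
      have hmem : n * a * n⁻¹ * a⁻¹ ∈ N := by
        rw [mul_assoc n a, mul_assoc n]
        exact N.mul_mem hn (hN.conj_mem _ (N.inv_mem hn) a)
      have hin : n * a * n⁻¹ * a⁻¹ ∈ A ⊔ cj n A :=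
        mul_mem (le_sup_right (a := A) (conj_mem_cj ha)) (inv_mem (le_sup_left (b := cj n A) ha))
      have hb : (⟨_, hin⟩ : ↥(A ⊔ cj n A)) ∈ N.subgroupOf (A ⊔ cj n A) := hmem
      rw [h, mem_bot] at hb
      have e : n * a * n⁻¹ = a := mul_inv_eq_one.1 (congrArg Subtype.val hb)
      exact hfix (eq_of_mem_mem ((card_cj n A).trans (S.card A hA)) (S.card A hA)
        (e ▸ conj_mem_cj ha) ha ha1)
    · exact hnotmem A hA fun x hx => by
        have : (⟨x, le_sup_left (b := cj n A) hx⟩ : ↥(A ⊔ cj n A)) ∈ N.subgroupOf _ := h ▸ mem_top _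
        exact this

theorem isSimple (S : Sys G) (hZ : center G = ⊥) : IsSimpleGroup G := by
  obtain ⟨A, hA, -, -, -⟩ := S.two
  have : Nontrivial G := by
    obtain ⟨a, -, ha1, -, -⟩ := exists_gen (S.card A hA)
    exact ⟨⟨a, 1, ha1⟩⟩
  exact ⟨fun N hN => or_iff_not_imp_right.2 fun h => le_bot_iff.1 (hZ ▸ normal_le_center S hN h)⟩

/-- A nontrivial element centralising a pair centralises only the members of a line through it. -/
theorem exists_line (hS : S.Small) (hZ : center G = ⊥) {w : G} (hw : w ≠ 1) {A B : Subgroup G}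
    (hA : A ∈ S.D) (hB : B ∈ S.D) (hAB : A ≠ B) (hwA : w ∈ centralizer (A : Set G))
    (hwB : w ∈ centralizer (B : Set G)) :
    ∃ C ∈ S.D, ∃ E ∈ S.D, C ≠ E ∧ A ⊔ B ≤ C ⊔ E ∧ w ∈ centralizer ((C ⊔ E : Subgroup G) : Set G) ∧
      ∀ X ∈ S.D, w ∈ centralizer (X : Set G) → X ≤ C ⊔ E := by
  set F : Set (Subgroup G) := {X | X ∈ S.D ∧ w ∈ centralizer (X : Set G)}
  have hle : (⨆ X ∈ F, X) ≤ centralizer ({w} : Set G) := iSup₂_le fun X hX y hy =>
    mem_centralizer_singleton_iff.2 (mem_centralizer_iff.1 hX.2 y hy)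
  have hne : (⨆ X ∈ F, X) ≠ ⊤ := fun e => hw (by
    rw [← mem_bot, ← hZ, mem_center_iff]
    exact fun x => mem_centralizer_singleton_iff.1 (hle (e ▸ mem_top x)))
  obtain ⟨C, hC, E, hE, hCE, heq⟩ := hS F (fun X hX => hX.1) hne ⟨A, ⟨hA, hwA⟩, B, ⟨hB, hwB⟩, hAB⟩
  refine ⟨C, hC, E, hE, hCE, ?_, ?_, fun X hX hwX => ?_⟩
  · rw [← heq]
    exact sup_le (le_iSup₂_of_le A ⟨hA, hwA⟩ le_rfl) (le_iSup₂_of_le B ⟨hB, hwB⟩ le_rfl)
  · rw [← heq, mem_centralizer_iff]
    exact fun x hx => mem_centralizer_singleton_iff.1 (hle hx)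
  · rw [← heq]
    exact le_iSup₂_of_le X ⟨hX, hwX⟩ le_rfl

end Sys

end Cfsg.Agent.Lib.OrdElevenPairs
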