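import Mathlib.GroupTheory.Transfer
import Cfsg.Agent.Lib.PairOdd.Basic

/-!
# Two elementary lemmas on finite groups
-/

set_option autoImplicit false

namespace Cfsg.Agent.Lib.OrdElevenPairs

open Cfsg.Agent.Lib.PairOdd Subgroup

variable {G : Type*} [Group G] [Finite G]

/-- If a `p`-element `u` of `H` lies in `K` and every element of `H` conjugating `u` into `K` lies in
`K`, then every `p`-element of `H` is conjugate in `H` into `K`. -/
theorem exists_conj_into {p : ℕ} [Fact p.Prime] {H K : Subgroup G} {u : G} (huH : u ∈ H) (huK : u ∈ K)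
    {n : ℕ} (hu : u ^ p ^ n = 1) (hkey : ∀ h ∈ H, h⁻¹ * u * h ∈ K → h ∈ K) {x : G} (hxH : x ∈ H)
    {m : ℕ} (hx : x ^ p ^ m = 1) : ∃ h ∈ H, h * x * h⁻¹ ∈ K := by
  have hpu : IsPGroup p (zpowers (⟨u, huH⟩ : H)) := by
    rintro ⟨_, i, rfl⟩
    refine ⟨n, Subtype.ext (Subtype.ext ?_)⟩
    show (u ^ i) ^ p ^ n = 1
    rw [← zpow_natCast, ← zpow_mul, mul_comm, zpow_mul, zpow_natCast, hu, one_zpow]
  have hpx : IsPGroup p (zpowers (⟨x, hxH⟩ : H)) := by
    rintro ⟨_, i, rfl⟩
    refine ⟨m, Subtype.ext (Subtype.ext ?_)⟩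
    show (x ^ i) ^ p ^ m = 1
    rw [← zpow_natCast, ← zpow_mul, mul_comm, zpow_mul, zpow_natCast, hx, one_zpow]
  obtain ⟨R, hR⟩ := hpu.exists_le_sylow
  set R₁ : Subgroup R := (K.subgroupOf H).subgroupOf (R : Subgroup H) with hR₁
  have : Group.IsNilpotent R := R.2.isNilpotent
  have htop : R₁ = ⊤ := by
    by_contra hne
    obtain ⟨r, hr, hrn⟩ := SetLike.exists_of_lt
      (Group.normalizerCondition_of_isNilpotent R₁ (lt_top_iff_ne_top.2 hne))
    refine hrn (hkey _ (r : H).2 ?_)
    have hmem : (⟨⟨u, huH⟩, hR (mem_zpowers _)⟩ : R) ∈ R₁ := huK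
    exact (mem_normalizer_iff''.1 hr _).1 hmem
  obtain ⟨S, hS⟩ := hpx.exists_le_sylow
  obtain ⟨h, hh⟩ := MulAction.exists_smul_eq H S R
  refine ⟨h, h.2, ?_⟩
  have hmem : h * (⟨x, hxH⟩ : H) * h⁻¹ ∈ (R : Subgroup H) := by
    rw [← hh, Sylow.coe_subgroup_smul]
    exact ⟨_, hS (mem_zpowers _), rfl⟩
  exact (show (⟨_, hmem⟩ : R) ∈ R₁ from htop ▸ mem_top _)

/-- An involution normalising a subgroup of even order centralises an involution of it. -/
theorem exists_invol_commute {C : Subgroup G} {t : G} (ht : t * t = 1) (htC : cj t C = C)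
    (h2 : 2 ∣ Nat.card C) : ∃ z ∈ C, orderOf z = 2 ∧ Commute t z := by
  classical
  have := Fintype.ofFinite G
  set T : Subgroup G := C ⊓ centralizer ({t} : Set G) with hT
  have hmem : ∀ c ∈ C, t * c * t⁻¹ ∈ C := fun c hc => htC.le (conj_mem_cj hc)
  let σ : Equiv.Perm C := Function.Involutive.toPerm (fun c => ⟨t * c * t⁻¹, hmem c c.2⟩) fun c => by
    refine Subtype.ext ?_
    show t * (t * (c : G) * t⁻¹) * t⁻¹ = c
    calc t * (t * (c : G) * t⁻¹) * t⁻¹ = t * t * c * (t * t)⁻¹ := by group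
      _ = c := by rw [ht, inv_one, one_mul, mul_one]
  have hσ : σ ^ 2 ^ 1 = 1 := by
    ext c
    simp only [pow_one, pow_two, Equiv.Perm.mul_apply, Equiv.Perm.one_apply]
    show t * (t * (c : G) * t⁻¹) * t⁻¹ = c
    calc t * (t * (c : G) * t⁻¹) * t⁻¹ = t * t * c * (t * t)⁻¹ := by group
      _ = c := by rw [ht, inv_one, one_mul, mul_one]
  have := Fact.mk Nat.prime_two
  -- the centraliser has even order
  have hsub : ∀ c : C, σ c = c ↔ (c : G) ∈ T := fun c =>
    ⟨fun h => ⟨c.2, mem_centralizer_singleton_iff.2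
      (mul_inv_eq_iff_eq_mul.1 (congrArg Subtype.val h)).symm⟩,
    fun h => Subtype.ext (mul_inv_eq_iff_eq_mul.2 (mem_centralizer_singleton_iff.1 h.2).symm)⟩
  have hT2 : 2 ∣ Nat.card T := by
    have h := Equiv.Perm.card_compl_support_modEq (σ := σ) (p := 2) (n := 1) hσ
    have hc : Nat.card T = σ.supportᶜ.card := by
      rw [← Nat.card_eq_finsetCard]
      exact Nat.card_congr
        { toFun := fun c => ⟨⟨c, c.2.1⟩, by
            rw [Finset.mem_compl, Equiv.Perm.notMem_support]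
            exact (hsub _).2 c.2⟩
          invFun := fun c => ⟨c.1.1, (hsub c.1).1 (by
            have := c.2
            rwa [Finset.mem_compl, Equiv.Perm.notMem_support] at this)⟩
          left_inv := fun c => rfl
          right_inv := fun c => rfl }
    rw [← Nat.card_eq_fintype_card, ← hc] at h
    exact Nat.modEq_zero_iff_dvd.1 (h.trans (Nat.modEq_zero_iff_dvd.2 h2))
  obtain ⟨⟨z, hz⟩, hoz⟩ := exists_prime_orderOf_dvd_card' (G := T) 2 hT2
  rw [orderOf_mk] at hoz
  exact ⟨z, hz.1, hoz, (mem_centralizer_singleton_iff.1 hz.2).symm⟩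

/-- A group of order twice an odd number has a normal subgroup of index two and odd order. -/
theorem exists_odd_half {t : G} (ht : orderOf t = 2) (h4 : ¬ 4 ∣ Nat.card G) :
    ∃ N : Subgroup G, N.Normal ∧ Odd (Nat.card N) ∧ ∀ x : G, x ∈ N ∨ x * t ∈ N := by
  have := Fact.mk Nat.prime_two
  obtain ⟨S, hS⟩ := (IsPGroup.of_card (n := 1) (by rw [Nat.card_zpowers, ht, pow_one]) :
    IsPGroup 2 (zpowers t)).exists_le_sylow
  obtain ⟨k, hk⟩ := S.2.exists_card_eq
  have h2 : 2 ∣ Nat.card (S : Subgroup G) := by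
    have := Subgroup.orderOf_dvd_natCard _ (hS (mem_zpowers t))
    rwa [ht] at this
  have hS2 : Nat.card (S : Subgroup G) = 2 := by
    rcases k with _ | _ | k
    · rw [hk] at h2; norm_num at h2
    · simpa using hk
    · exact absurd ((Dvd.intro_left (2 ^ k) (by rw [hk]; ring) :
        4 ∣ Nat.card (S : Subgroup G)).trans (Subgroup.card_subgroup_dvd_card _)) h4
  have hcyc : IsCyclic (S : Subgroup G) := isCyclic_of_prime_card (p := 2) hS2
  have hmin : (Nat.card G).minFac = 2 := (Nat.minFac_eq_two_iff _).2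
    (h2.trans (Subgroup.card_subgroup_dvd_card _))
  have hle := IsCyclic.normalizer_le_centralizer (p := 2) (P := S) hmin hcyc
  set N := (MonoidHom.transferSylow S hle).ker with hN
  have hcompl := MonoidHom.ker_transferSylow_isComplement' S hle
  have hmul := hcompl.card_mul_card
  rw [hS2, ← hN] at hmul
  have hodd : Odd (Nat.card N) := Nat.not_even_iff_odd.1 fun he => h4 (by
    obtain ⟨c, hc⟩ := he
    exact ⟨c, by omega⟩)
  have hidx : N.index = 2 := by
    have := N.card_mul_index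
    have hpos : 0 < Nat.card N := Nat.card_pos
    rw [← hmul] at this
    exact Nat.eq_of_mul_eq_mul_left hpos this
  have htN : t ∉ N := fun h => by
    have := Subgroup.orderOf_dvd_natCard _ h
    rw [ht] at this
    exact (Nat.not_even_iff_odd.2 hodd) (even_iff_two_dvd.2 this)
  refine ⟨N, MonoidHom.normal_ker _, hodd, fun x => or_iff_not_imp_left.2 fun hx => ?_⟩
  exact (Subgroup.mul_mem_iff_of_index_two hidx).2 (iff_of_false hx htN)

end Cfsg.Agent.Lib.OrdElevenPairs
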