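import Cfsg.Agent.Lib.OrdElevenPairs.Jan

/-!
# Elements of order two and five of the simple group of order `175560`
-/

set_option autoImplicit false

namespace Cfsg.Agent.Lib.OrdElevenPairs.IsK

open Cfsg.Agent.Lib.PairOdd Subgroup

universe u

variable {M : Type u} [Group M] (hK : IsK M)
include hK

theorem exists_fixed {t : M} (ht : orderOf t = 2) :
    ∃ A : Subgroup M, Nat.card A = 11 ∧ cj t A = A := by
  have := hK.finite
  obtain ⟨a, ha⟩ := exists_prime_orderOf_dvd_card' (G := M) 11 (by rw [hK.card]; norm_num)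
  have hA : Nat.card (zpowers a) = 11 := by rw [Nat.card_zpowers, ha]
  obtain ⟨t₀, ht₀, ht₀A⟩ := hK.exists_invol_normalizer hA
  obtain ⟨g, hg⟩ := isConj_iff.1 (hK.isConj_invol ht₀ ht)
  refine ⟨cj g (zpowers a), (card_cj _ _).trans hA, ?_⟩
  rw [← cj_mul, ← hg, inv_mul_cancel_right, cj_mul, ht₀A]

/-- An involution inverts a member. -/
theorem exists_inverted {t : M} (ht : orderOf t = 2) :
    ∃ A : Subgroup M, Nat.card A = 11 ∧ Acts (MulAut.conj t) A (-1) := by
  obtain ⟨A, hA, h⟩ := hK.exists_fixed ht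
  exact ⟨A, hA, hK.acts_invol hA ht h⟩

/-- An element of order five of a normaliser acts without fixed points on it. -/
theorem five_ne_one {A : Subgroup M} (hA : Nat.card A = 11) {k : M} (hk : orderOf k = 5)
    {c : ZMod 11} (h : Acts (MulAut.conj k) A c) : c ≠ 1 ∧ c ^ 5 = 1 := by
  have := hK.finite
  refine ⟨?_, ?_⟩
  · rintro rfl
    have := Subgroup.orderOf_dvd_natCard _ (hK.mem_of_acts_one hA h)
    rw [hk, hA] at this
    norm_num at this
  · have := h.pow hA 5
    rw [← map_pow, ← hk, pow_orderOf_eq_one, map_one] at this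
    rw [hk] at this
    exact this.unique hA acts_one

variable {A : Subgroup M} (hA : Nat.card A = 11)
include hA

/-- An element of order five of `N(A)` commutes with an involution of `N(A)`. -/
theorem exists_invol_commute {k : M} (hk : orderOf k = 5) (hkA : cj k A = A) :
    ∃ t : M, orderOf t = 2 ∧ cj t A = A ∧ Commute t k := by
  have := hK.finite
  obtain ⟨t, ht, htA⟩ := hK.exists_invol_normalizer hA
  obtain ⟨s, -, hs⟩ := exists_acts (φ := MulAut.conj k) hA hkA
  obtain ⟨hs1, -⟩ := hK.five_ne_one hA hk hs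
  have ht' : orderOf (k * t * k⁻¹) = 2 := by
    rw [show k * t * k⁻¹ = MulAut.conj k t from rfl, MulEquiv.orderOf_eq, ht]
  have ht'A : cj (k * t * k⁻¹) A = A := by
    rw [cj_mul, cj_mul, cj_eq_self_iff.2 (inv_mem (cj_eq_self_iff.1 hkA)), htA, hkA]
  obtain ⟨c, hc, hct⟩ := hK.conj_invol_stab hA ht htA ht' ht'A
  obtain ⟨n, hn⟩ : ∃ n : ZMod 11, n * s + 1 = n :=
    ⟨(1 - s)⁻¹, by
      have h0 : 1 - s ≠ 0 := sub_ne_zero.2 hs1.symm
      have := inv_mul_cancel₀ h0
      linear_combination -this⟩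
  set b := c ^ n.val with hb
  have hbA : b ∈ A := A.pow_mem hc _
  refine ⟨b * t * b⁻¹, ?_, ?_, ?_⟩
  · rw [show b * t * b⁻¹ = MulAut.conj b t from rfl, MulEquiv.orderOf_eq, ht]
  · rw [cj_mul, cj_mul, cj_eq_self_of_mem (A.inv_mem hbA), htA, cj_eq_self_of_mem hbA]
  · have hkb : k * b * k⁻¹ * c = b := by
      have e : k * b * k⁻¹ = b ^ s.val := hs b hbA
      have hcast : ((n.val * s.val + 1 : ℕ) : ZMod 11) = n := by
        push_cast
        rw [ZMod.natCast_zmod_val, ZMod.natCast_zmod_val, hn]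
      rw [e, hb, ← pow_mul, ← pow_succ, ← pow_val hA hc (n.val * s.val + 1), hcast]
    refine (mul_inv_eq_iff_eq_mul.1 ?_).symm
    calc k * (b * t * b⁻¹) * k⁻¹ = k * b * k⁻¹ * (k * t * k⁻¹) * (k * b * k⁻¹)⁻¹ := by group
      _ = k * b * k⁻¹ * (c * t * c⁻¹) * (k * b * k⁻¹)⁻¹ := by rw [hct]
      _ = k * b * k⁻¹ * c * t * (k * b * k⁻¹ * c)⁻¹ := by group
      _ = b * t * b⁻¹ := by rw [hkb]

/-- The involutions normalising a member are eleven. -/
theorem card_invol_stab : Nat.card {t : M // orderOf t = 2 ∧ cj t A = A} = 11 := by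
  have := hK.finite
  obtain ⟨t, ht, htA⟩ := hK.exists_invol_normalizer hA
  have htt := hK.acts_invol hA ht htA
  rw [← hA]
  refine (Nat.card_congr (Equiv.ofBijective
    (fun b : A => (⟨(b : M) * t * (b : M)⁻¹, ?_, ?_⟩ : {t : M // orderOf t = 2 ∧ cj t A = A}))
    ⟨?_, ?_⟩)).symm
  · rw [show (b : M) * t * (b : M)⁻¹ = MulAut.conj (b : M) t from rfl, MulEquiv.orderOf_eq, ht]
  · rw [cj_mul, cj_mul, cj_eq_self_of_mem (A.inv_mem b.2), htA, cj_eq_self_of_mem b.2]
  · intro a b h
    have e : (a : M) * t * (a : M)⁻¹ = (b : M) * t * (b : M)⁻¹ := congrArg Subtype.val h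
    have hcomm : t * ((a : M)⁻¹ * b) * t⁻¹ = (a : M)⁻¹ * b := by
      calc t * ((a : M)⁻¹ * b) * t⁻¹ = (a : M)⁻¹ * ((a : M) * t * (a : M)⁻¹) * b * t⁻¹ := by group
        _ = (a : M)⁻¹ * b := by rw [e]; group
    have hmem : (a : M)⁻¹ * b ∈ A := A.mul_mem (A.inv_mem a.2) b.2
    by_contra hne
    have h2 : ((a : M)⁻¹ * b) ^ (-1 : ZMod 11).val = (a : M)⁻¹ * b :=
      (htt _ hmem).symm.trans hcomm
    conv_rhs at h2 => rw [← pow_one ((a : M)⁻¹ * b)]
    rw [pow_eq_pow_iff_modEq,
      orderOf_mem hA hmem fun e => hne (Subtype.ext (inv_mul_eq_one.1 e))] at h2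
    exact absurd h2 (by decide)
  · rintro ⟨s, hs, hsA⟩
    obtain ⟨b, hb, hbs⟩ := hK.conj_invol_stab hA ht htA hs hsA
    exact ⟨⟨b, hb⟩, Subtype.ext hbs⟩

/-- Two members fixed by an element of order five have equal or inverse multipliers. -/
theorem five_mult {k : M} (hk : orderOf k = 5) {c d : ZMod 11} (hc : Acts (MulAut.conj k) A c)
    {X : Subgroup M} (hX : Nat.card X = 11) (hd : Acts (MulAut.conj k) X d) :
    d = c ∨ d = c⁻¹ := by
  have := hK.finite
  have : Fact (Nat.Prime 3) := ⟨Nat.prime_three⟩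
  have : Fact (Nat.Prime 5) := ⟨by norm_num⟩
  obtain ⟨hc1, hc5⟩ := hK.five_ne_one hA hk hc
  obtain ⟨hd1, hd5⟩ := hK.five_ne_one hX hk hd
  obtain ⟨h, hh⟩ := exists_cj_eleven hK.not_sq hA hX
  set x := h⁻¹ * k * h with hx
  have hxd : Acts (MulAut.conj x) A d := by
    have := hd.transport (MulAut.conj h⁻¹)
    rw [mv_conj, ← hh, cj_inv_cj] at this
    rw [hx, map_mul, map_mul]
    simpa using this
  have key : ∀ c d : ZMod 11, c ≠ 1 → c ^ 5 = 1 → d ^ 5 = 1 → ∃ j < 5, d = c ^ j := by decide +kernel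
  obtain ⟨j, hj5, hdj⟩ := key c d hc1 hc5 hd5
  have ha : x * (k ^ j)⁻¹ ∈ A := by
    refine hK.mem_of_acts_one hA ?_
    rw [map_mul, map_inv, map_pow]
    have := hxd.mul hA ((hc.pow hA j).inv hA)
    rwa [hdj, mul_inv_cancel₀ (pow_ne_zero _ (hc.ne_zero hA))] at this
  set a := x * (k ^ j)⁻¹ with hadef
  obtain ⟨n, hn⟩ : ∃ n : ZMod 11, n * d + 1 = n :=
    ⟨(1 - d)⁻¹, by
      have h0 : 1 - d ≠ 0 := sub_ne_zero.2 hd1.symm
      have := inv_mul_cancel₀ h0
      linear_combination -this⟩
  set b := a ^ n.val with hb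
  have hbA : b ∈ A := A.pow_mem ha _
  have hkb : k ^ j * b * (k ^ j)⁻¹ * a = b := by
    have e : k ^ j * b * (k ^ j)⁻¹ = b ^ d.val := by
      have := hc.pow hA j b hbA
      rw [← map_pow, ← hdj] at this
      exact this
    have hcast : ((n.val * d.val + 1 : ℕ) : ZMod 11) = n := by
      push_cast
      rw [ZMod.natCast_zmod_val, ZMod.natCast_zmod_val, hn]
    rw [e, hb, ← pow_mul, ← pow_succ, ← pow_val hA ha (n.val * d.val + 1), hcast]
  have hkb' : a * (k ^ j * b * (k ^ j)⁻¹) = b := by
    refine (commute_mem hA ha ?_).eq.trans hkb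
    have := hc.pow hA j b hbA
    rw [← map_pow, ← hdj] at this
    exact (show k ^ j * b * (k ^ j)⁻¹ = b ^ d.val from this) ▸ A.pow_mem hbA _
  -- `h b` conjugates `k` to a power
  set g := (h * b)⁻¹ with hg
  have hgk : g * k * g⁻¹ = k ^ j := by
    calc g * k * g⁻¹ = b⁻¹ * (a * k ^ j) * b := by rw [hg, hadef, hx]; group
      _ = (a * (k ^ j * b * (k ^ j)⁻¹))⁻¹ * a * k ^ j * b := by rw [hkb']; group
      _ = k ^ j := by group
  have hgN : g ∈ normalizer ((zpowers k : Subgroup M) : Set M) := by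
    refine cj_eq_self_iff.1 (cj_eq_of_le ?_)
    rw [PairOdd.cj, MonoidHom.map_zpowers, zpowers_le]
    show g * k * g⁻¹ ∈ _
    rw [hgk]
    exact pow_mem (mem_zpowers k) j
  -- the centraliser has index two in the normaliser
  let Q : Sylow 5 M := Sylow.ofCard (zpowers k) (by
    rw [Nat.card_zpowers, hk, hK.card, show (175560 : ℕ) = 5 ^ 1 * 35112 by norm_num,
      Nat.factorization_mul (by norm_num) (by norm_num), Finsupp.add_apply,
      Nat.factorization_eq_zero_of_not_dvd (show ¬ 5 ∣ 35112 by norm_num),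
      Nat.Prime.factorization_pow (by norm_num), Finsupp.single_eq_same]
    norm_num)
  set N := normalizer ((zpowers k : Subgroup M) : Set M) with hNdef
  have hN : Nat.card N = 60 := by
    have hmul := N.card_mul_index
    rw [show N.index = Nat.card (Sylow 5 M) from Q.card_eq_index_normalizer.symm,
      (hK.localData default Q default).1, hK.card] at hmul
    omega
  set C := centralizer ({k} : Set M) with hCdef
  have hCN : C ≤ N := fun y hy => by
    refine cj_eq_self_iff.1 (cj_eq_self_of_commute fun z hz => ?_)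
    obtain ⟨i, rfl⟩ := hz
    exact ((show Commute y k from mem_centralizer_singleton_iff.1 hy).zpow_right i).eq
  have hidx : (C.subgroupOf N).index = 2 := by
    have hmul := (C.subgroupOf N).card_mul_index
    rw [Nat.card_congr (subgroupOfEquivOfLe hCN).toEquiv,
      show Nat.card C = 30 from hK.card_centralizer_five hk, hN] at hmul
    omega
  have hsq : (g ^ 2 : M) ∈ C := sq_mem_of_index_two hidx ⟨g, hgN⟩
  rw [hCdef, mem_centralizer_singleton_iff, ← mul_inv_eq_iff_eq_mul] at hsq
  have hjj : k ^ (j * j) = k := by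
    calc k ^ (j * j) = (g * k * g⁻¹) ^ j := by rw [hgk, pow_mul]
      _ = g * (g * k * g⁻¹) * g⁻¹ := by rw [conj_pow, hgk]
      _ = k := by
        calc _ = g ^ 2 * k * (g ^ 2)⁻¹ := by rw [pow_two]; group
          _ = k := hsq
  conv_rhs at hjj => rw [← pow_one k]
  rw [pow_eq_pow_iff_modEq, hk] at hjj
  interval_cases j
  · exact absurd hjj (by decide)
  · exact Or.inl (by rw [hdj, pow_one])
  · exact absurd hjj (by decide)
  · exact absurd hjj (by decide)
  · right
    rw [hdj]
    exact (eq_inv_of_mul_eq_one_left (by rw [← pow_succ, hc5]))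

/-- The two common fixed members of `t` and `u` have inverse multipliers. -/
theorem antipode_mult {t u : M} (ht : orderOf t = 2) (htA : cj t A = A) (hu : orderOf u = 5)
    (htu : Commute t u) (huA : cj u A = A) {c : ZMod 11} (hc : Acts (MulAut.conj u) A c)
    {X : Subgroup M} (hX : Nat.card X = 11) (htX : cj t X = X) (huX : cj u X = X) (hXA : X ≠ A) :
    Acts (MulAut.conj u) X c⁻¹ := by
  have := hK.finite
  obtain ⟨d, -, hd⟩ := exists_acts (φ := MulAut.conj u) hX huX
  rcases hK.five_mult hA hu hc hX hd with hdc | hdc <;> subst d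
  · exfalso
    obtain ⟨c1, c5⟩ := hK.five_ne_one hA hu hc
    obtain ⟨A', -, -, -, -, huniq⟩ := hK.antipode hA ht htA hu htu huA
    obtain ⟨h, hh⟩ := exists_cj_eleven hK.not_sq hA hX
    -- an element commuting with `u` carries `A` to `X`
    set x := h⁻¹ * u * h with hx
    have hxd : Acts (MulAut.conj x) A c := by
      have := hd.transport (MulAut.conj h⁻¹)
      rw [mv_conj, ← hh, cj_inv_cj] at this
      rw [hx, map_mul, map_mul]
      simpa using this
    have ha : x * u⁻¹ ∈ A := by
      refine hK.mem_of_acts_one hA ?_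
      rw [map_mul, map_inv]
      have := hxd.mul hA (hc.inv hA)
      rwa [mul_inv_cancel₀ (hc.ne_zero hA)] at this
    obtain ⟨n, hn⟩ : ∃ n : ZMod 11, n * c + 1 = n :=
      ⟨(1 - c)⁻¹, by
        have h0 : 1 - c ≠ 0 := sub_ne_zero.2 c1.symm
        have := inv_mul_cancel₀ h0
        linear_combination -this⟩
    set a := x * u⁻¹ with hadef
    set b := a ^ n.val with hb
    have hbA : b ∈ A := A.pow_mem ha _
    have hub : u * b * u⁻¹ * a = b := by
      have e : u * b * u⁻¹ = b ^ c.val := hc b hbA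
      have hcast : ((n.val * c.val + 1 : ℕ) : ZMod 11) = n := by
        push_cast
        rw [ZMod.natCast_zmod_val, ZMod.natCast_zmod_val, hn]
      rw [e, hb, ← pow_mul, ← pow_succ, ← pow_val hA ha (n.val * c.val + 1), hcast]
    set p := h * b with hp
    have hpu : Commute p u := by
      have e : p⁻¹ * u * p = u := by
        calc p⁻¹ * u * p = b⁻¹ * (a * u) * b := by rw [hp, hadef, hx]; group
          _ = (a * (u * b * u⁻¹))⁻¹ * a * u * b := by
            have hm : u * b * u⁻¹ ∈ A := by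
              rw [show u * b * u⁻¹ = b ^ _ from hc b hbA]
              exact A.pow_mem hbA _
            rw [(commute_mem hA ha hm).eq, hub]
            group
          _ = u := by group
      show p * u = u * p
      calc p * u = p * (p⁻¹ * u * p) := by rw [e]
        _ = u * p := by group
    have hpA : cj p A = X := by rw [hp, cj_mul, cj_eq_self_of_mem hbA, hh]
    -- it commutes with `t`
    have hpt : Commute p t := by
      have h1 : Acts (MulAut.conj (p * t * p⁻¹)) X (-1) := by
        have := (hK.acts_invol hA ht htA).transport (MulAut.conj p)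
        rw [mv_conj, hpA] at this
        simpa using this
      have h2 : Commute u (p * t * p⁻¹) :=
        (hpu.symm.mul_right htu.symm).mul_right hpu.symm.inv_right
      exact mul_inv_eq_iff_eq_mul.1
        (hK.mult_injective hX hd c1 h2 htu.symm h1 (hK.acts_invol hX ht htX))
    set C := centralizer ({u} : Set M) ⊓ centralizer ({t} : Set M) with hC
    set S := normalizer (A : Set M) ⊓ centralizer ({t} : Set M) with hS
    have hCu : C ≤ centralizer ({u} : Set M) := inf_le_left
    have hle := hK.card_stab_le hA (hK.acts_invol hA ht htA) (by decide)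
    have hpC : p ∈ C :=
      ⟨mem_centralizer_singleton_iff.2 hpu.eq, mem_centralizer_singleton_iff.2 hpt.eq⟩
    have hor : ∀ q ∈ C, cj q A = A ∨ cj q A = X := by
      intro q hq
      have hqu : u * q = q * u := (mem_centralizer_singleton_iff.1 hq.1).symm
      have hqt : t * q = q * t := (mem_centralizer_singleton_iff.1 hq.2).symm
      have hX' : X = A' := (huniq X hX htX huX).resolve_left hXA
      rw [hX']
      refine huniq _ ((card_cj _ _).trans hA) ?_ ?_
      · rw [← cj_mul, hqt, cj_mul, htA]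
      · rw [← cj_mul, hqu, cj_mul, huA]
    classical
    let f : C → Bool × S := fun q =>
      if hq : cj (q : M) A = A then (true, ⟨q, cj_eq_self_iff.1 hq, q.2.2⟩)
      else (false, ⟨p⁻¹ * q, cj_eq_self_iff.1 (by
        rw [cj_mul, (hor q q.2).resolve_left hq, ← hpA, cj_inv_cj]),
        (centralizer ({t} : Set M)).mul_mem ((centralizer ({t} : Set M)).inv_mem hpC.2) q.2.2⟩)
    have hf : Function.Injective f := by
      intro a b e
      simp only [f] at e
      split_ifs at e with h1 h2 h3 <;> simp only [Prod.mk.injEq] at e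
      · exact Subtype.ext (congrArg (fun s : S => (s : M)) e.2)
      · exact absurd e.1 (by simp)
      · exact absurd e.1 (by simp)
      · exact Subtype.ext (mul_left_cancel (congrArg (fun s : S => (s : M)) e.2))
    have hbound : Nat.card C ≤ 20 := by
      refine (Nat.card_le_card_of_injective f hf).trans ?_
      rw [Nat.card_prod, Nat.card_eq_fintype_card (α := Bool), Fintype.card_bool]
      have : Nat.card S ≤ 10 := hle
      omega
    -- the elements fixing `A`
    set S' := normalizer (A : Set M) ⊓ C with hS'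
    have htS : t ∈ S' := ⟨cj_eq_self_iff.1 htA, mem_centralizer_singleton_iff.2 htu.eq,
      mem_centralizer_singleton_iff.2 rfl⟩
    have huS : u ∈ S' := ⟨cj_eq_self_iff.1 huA, mem_centralizer_singleton_iff.2 rfl,
      mem_centralizer_singleton_iff.2 htu.symm.eq⟩
    have h10 : 10 ∣ Nat.card S' := (by norm_num : Nat.Coprime 2 5).mul_dvd_of_dvd_of_dvd
      (ht ▸ Subgroup.orderOf_dvd_natCard S' htS) (hu ▸ Subgroup.orderOf_dvd_natCard S' huS)
    have hlt : Nat.card S' < Nat.card C := by
      refine lt_of_le_of_ne (Nat.le_of_dvd Nat.card_pos (card_dvd_of_le inf_le_right)) fun e => hXA ?_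
      have heq : S' = C := Subgroup.eq_of_le_of_card_ge inf_le_right e.ge
      have hpS : p ∈ S' := heq ▸ hpC
      rw [← hpA, cj_eq_self_iff.2 hpS.1]
    have h30 : Nat.card C ∣ 30 := hK.card_centralizer_five hu ▸ card_dvd_of_le hCu
    have hdS := card_dvd_of_le (inf_le_right : S' ≤ C)
    have key : ∀ m ≤ 20, m ∣ 30 → 10 ∣ m → m = 10 := by decide
    have hC10 : Nat.card C = 10 := key _ hbound h30 (h10.trans hdS)
    have := Nat.le_of_dvd Nat.card_pos h10
    omega
  · exact hd

omit hA

/-- The centraliser of an involution is it times a perfect subgroup. -/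
theorem exists_perfect {t : M} (ht : orderOf t = 2) : ∃ D : Subgroup M,
    D ≤ centralizer ({t} : Set M) ∧ ⁅D, D⁆ = D ∧
      ∀ c ∈ centralizer ({t} : Set M), c ∈ D ∨ t * c ∈ D := by
  have := hK.finite
  obtain ⟨t₀, ht₀, -, ⟨e⟩⟩ := hK.exists_model
  obtain ⟨g, hg⟩ := isConj_iff.1 (hK.isConj_invol ht₀ ht)
  have hperf : ⁅(J1Order.Structure.psi e).range, (J1Order.Structure.psi e).range⁆ =
      (J1Order.Structure.psi e).range := by
    have hs : IsSimpleGroup (alternatingGroup (Fin 5)) := alternatingGroup.isSimpleGroup (by simp)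
    have hne : commutator (alternatingGroup (Fin 5)) ≠ ⊥ := by
      intro h
      rw [commutator_def, commutator_eq_bot_iff_le_centralizer] at h
      have key : ∃ a b : alternatingGroup (Fin 5), a * b ≠ b * a := by decide +kernel
      obtain ⟨a, b, hab⟩ := key
      exact hab (mem_centralizer_iff.1 (h (mem_top b)) a (mem_top a))
    have htop := ((inferInstance : (commutator (alternatingGroup (Fin 5))).Normal).eq_bot_or_eq_top).resolve_left hne
    rw [MonoidHom.range_eq_map, ← map_commutator, ← commutator_def, htop]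
  refine ⟨cj g (J1Order.Structure.psi e).range, ?_, ?_, ?_⟩
  · rintro _ ⟨y, ⟨b, rfl⟩, rfl⟩
    rw [mem_centralizer_singleton_iff, ← hg]
    show g * J1Order.Structure.psi e b * g⁻¹ * (g * t₀ * g⁻¹) =
      g * t₀ * g⁻¹ * (g * J1Order.Structure.psi e b * g⁻¹)
    calc _ = g * (J1Order.Structure.psi e b * t₀) * g⁻¹ := by group
      _ = g * (t₀ * J1Order.Structure.psi e b) * g⁻¹ := by rw [J1Order.Structure.psi_comm e b]
      _ = _ := by group
  · rw [← cj_commutator, hperf]
  · intro c hc
    have hc0 : g⁻¹ * c * g ∈ centralizer ({t₀} : Set M) := by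
      rw [mem_centralizer_singleton_iff] at hc ⊢
      rw [← hg] at hc
      calc g⁻¹ * c * g * t₀ = g⁻¹ * (c * (g * t₀ * g⁻¹)) * g := by group
        _ = g⁻¹ * (g * t₀ * g⁻¹ * c) * g := by rw [hc]
        _ = t₀ * (g⁻¹ * c * g) := by group
    obtain ⟨b, hb | hb⟩ := J1Order.Structure.eq_psi_or e ht₀ hc0
    · exact Or.inl (mem_cj.2 ⟨b, hb.symm⟩)
    · refine Or.inr (mem_cj.2 ⟨b, ?_⟩)
      have hsq : t₀ * t₀ = 1 := by rw [← pow_two, ← ht₀, pow_orderOf_eq_one]
      rw [show g⁻¹ * (t * c) * g = g⁻¹ * t * g * (g⁻¹ * c * g) by group, hb, ← hg,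
        show g⁻¹ * (g * t₀ * g⁻¹) * g = t₀ by group, ← mul_assoc, hsq, one_mul]

end Cfsg.Agent.Lib.OrdElevenPairs.IsK
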