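import Cfsg.Agent.Lib.OrdElevenPairs.Line
import Cfsg.Agent.Lib.DicksonId.Small

/-!
# Involutions of a simple group of order `660` and its involutory automorphisms
-/

set_option autoImplicit false

namespace Cfsg.Agent.Lib.OrdElevenPairs.IsL

open Cfsg.Agent.Lib.PairOdd Subgroup

variable {M : Type*} [Group M] (hM : IsL M)
include hM

theorem inner_acts {A : Subgroup M} (hA : Nat.card A = 11) {m : M} {c : ZMod 11}
    (h : Acts (MulAut.conj m) A c) : c ^ 5 = 1 := by
  have := hM.finite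
  have hm : m ∈ normalizer (A : Set M) := cj_eq_self_iff.1 (h.mv_eq hA)
  have h55 := h.pow hA 55
  rw [← map_pow, ← hM.card_normalizer hA] at h55
  have hm1 : m ^ Nat.card (normalizer (A : Set M)) = 1 := by
    exact orderOf_dvd_iff_pow_eq_one.1 (Subgroup.orderOf_dvd_natCard _ hm)
  rw [hm1, map_one] at h55
  have e := h55.unique hA acts_one
  rw [hM.card_normalizer hA] at e
  have key : ∀ c : ZMod 11, c ^ 55 = 1 → c ^ 5 = 1 := by decide +kernel
  exact key c e

theorem invol_free {m : M} (hm : orderOf m = 2) {X : Subgroup M} (hX : Nat.card X = 11) :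
    cj m X ≠ X := fun h => by
  have := hM.finite
  have hd := Subgroup.orderOf_dvd_natCard _ (cj_eq_self_iff.1 h)
  rw [hm, hM.card_normalizer hX] at hd
  norm_num at hd

variable {A B : Subgroup M} (hA : Nat.card A = 11) (hB : Nat.card B = 11) (hAB : A ≠ B)

include hA hB hAB

theorem exists_inner {φ : MulAut M} {c : ZMod 11} (h1 : Acts φ A c) (h2 : mv φ B = B)
    (hc : c ^ 5 = 1) : ∃ m : M, cj m A = A ∧ cj m B = B ∧ φ = MulAut.conj m := by
  obtain ⟨u, s, -, hs1, hs5, huA, huB, hs, -⟩ := hM.exists_torus hA hB hAB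
  have key : ∀ s c : ZMod 11, s ≠ 1 → s ^ 5 = 1 → c ^ 5 = 1 → ∃ j < 5, c * s ^ j = 1 := by
    decide +kernel
  obtain ⟨j, -, hj⟩ := key s c hs1 hs5 hc
  have hψ : φ * MulAut.conj u ^ j = 1 := by
    refine hM.sign hA hB hAB (hj ▸ h1.mul hA (hs.pow hA j)) ?_
    rw [mv_mul]
    have : ∀ n : ℕ, mv (MulAut.conj u ^ n) B = B := fun n => by
      induction n with
      | zero => rw [pow_zero, mv_one]
      | succ n ih => rw [pow_succ, mv_mul, mv_conj, huB, ih]
    rw [this, h2]
  have hu' : u ^ j ∈ normalizer (A : Set M) ⊓ normalizer (B : Set M) :=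
    (normalizer (A : Set M) ⊓ normalizer (B : Set M)).pow_mem
      ⟨cj_eq_self_iff.1 huA, cj_eq_self_iff.1 huB⟩ j
  refine ⟨(u ^ j)⁻¹, cj_eq_self_iff.2 (inv_mem hu'.1), cj_eq_self_iff.2 (inv_mem hu'.2), ?_⟩
  rw [map_inv, map_pow]
  exact eq_inv_of_mul_eq_one_left hψ

theorem exists_split {φ : MulAut M} {c : ZMod 11} (h1 : Acts φ A c) (h2 : mv φ B = B)
    (hc : c ^ 5 ≠ 1) : ∃ m : M, cj m A = A ∧ cj m B = B ∧
      Acts (φ * MulAut.conj m) A (-1) ∧ Acts (φ * MulAut.conj m) B (-1) := by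
  obtain ⟨u, s, -, hs1, hs5, huA, huB, hs, -⟩ := hM.exists_torus hA hB hAB
  have key : ∀ s c : ZMod 11, s ≠ 1 → s ^ 5 = 1 → c ≠ 0 → c ^ 5 ≠ 1 →
      ∃ j < 5, c * s ^ j = -1 := by decide +kernel
  obtain ⟨j, -, hj⟩ := key s c hs1 hs5 (h1.ne_zero hA) hc
  have hu' : u ^ j ∈ normalizer (A : Set M) ⊓ normalizer (B : Set M) :=
    (normalizer (A : Set M) ⊓ normalizer (B : Set M)).pow_mem
      ⟨cj_eq_self_iff.1 huA, cj_eq_self_iff.1 huB⟩ j
  have hA' : Acts (φ * MulAut.conj (u ^ j)) A (-1) := by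
    rw [map_pow]; exact hj ▸ h1.mul hA (hs.pow hA j)
  have hB' : mv (φ * MulAut.conj (u ^ j)) B = B := by
    rw [mv_mul, mv_conj, cj_eq_self_iff.2 hu'.2, h2]
  refine ⟨u ^ j, cj_eq_self_iff.2 hu'.1, cj_eq_self_iff.2 hu'.2, hA', ?_⟩
  have := hM.acts_inv hA hB hAB hA' hB'
  simpa [neg_inv, inv_one] using this

omit hB hAB

/-- An involutory automorphism fixing one of the twelve fixes exactly two and inverts both. -/
theorem fixed_pair {φ : MulAut M} (hφ : φ * φ = 1) (h1 : φ ≠ 1) (hfix : mv φ A = A) :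
    ∃ B : Subgroup M, Nat.card B = 11 ∧ A ≠ B ∧ mv φ B = B ∧ Acts φ A (-1) ∧ Acts φ B (-1) ∧
      ∀ X : Subgroup M, Nat.card X = 11 → mv φ X = X → X = A ∨ X = B := by
  have := hM.finite
  obtain ⟨c, -, hc⟩ := exists_acts hA hfix
  have hcc : c * c = 1 := by
    have := hc.mul hA hc
    rw [hφ] at this
    exact this.unique hA acts_one
  obtain ⟨B₀, hB₀, hB₀A⟩ := hM.exists_el_ne A
  have himg : mv φ B₀ ≠ A := fun e => hB₀A (mv_injective φ (e.trans hfix.symm))
  obtain ⟨e, he, heB⟩ := hM.trans hA hB₀ hB₀A ((card_mv φ B₀).trans hB₀) himg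
  -- a fixed subgroup among the other eleven
  obtain ⟨a, ha, haB⟩ : ∃ a ∈ A, cj (φ a * e) B₀ = cj a B₀ := by
    rcases mul_self_eq_one_iff.1 hcc with rfl | rfl
    · refine ⟨1, A.one_mem, ?_⟩
      have h2 : cj (e * e) B₀ = B₀ := by
        have := congrArg (mv φ) heB
        rw [mv_cj, ← mv_mul, hφ, mv_one, acts_one_iff.1 hc e he, ← heB, ← cj_mul] at this
        exact this
      by_contra hne
      have he1 : e * e ≠ 1 := by
        intro h
        refine hne ?_
        have : e = 1 := by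
          have h11 := pow_eleven hA he
          rw [show 11 = 2 * 5 + 1 by norm_num, pow_succ, pow_mul, pow_two, h, one_pow, one_mul] at h11
          exact h11
        rw [this, map_one, one_mul]
      exact hB₀A.symm (hM.eq_of_fix hA (A.mul_mem he he) he1 hB₀ h2)
    · refine ⟨e ^ 6, A.pow_mem he 6, ?_⟩
      congr 1
      rw [hc _ (A.pow_mem he 6), ← pow_mul, ← pow_succ, show (-1 : ZMod 11).val = 10 by decide,
        show 6 * 10 + 1 = 11 * 5 + 6 by norm_num, pow_add, pow_mul, pow_eleven hA he, one_pow, one_mul]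
  set B := cj a B₀
  have hB : Nat.card B = 11 := (card_cj a B₀).trans hB₀
  have hBA : B ≠ A := fun h => hB₀A (by
    rw [← cj_inv_cj a B₀, show cj a B₀ = A from h]; exact cj_eq_self_of_mem (A.inv_mem ha))
  have hfixB : mv φ B = B := by rw [mv_cj, ← heB, ← cj_mul, haB]
  have hc1 : c ≠ 1 := by
    rintro rfl
    exact h1 (hM.sign hA hB hBA.symm hc hfixB)
  have hcm : c = -1 := (mul_self_eq_one_iff.1 hcc).resolve_left hc1
  subst hcm
  refine ⟨B, hB, hBA.symm, hfixB, hc, ?_, fun X hX hX' => hM.fix_cases hA hB hBA.symm hc hc1 hfixB hX hX'⟩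
  have := hM.acts_inv hA hB hBA.symm hc hfixB
  simpa [neg_inv, inv_one] using this

omit hA

/-- An involutory automorphism fixing none of the twelve is inner. -/
theorem free_inner {φ : MulAut M} (hφ : φ * φ = 1)
    (h0 : ∀ X : Subgroup M, Nat.card X = 11 → mv φ X ≠ X) :
    ∃ m : M, orderOf m = 2 ∧ φ = MulAut.conj m := by
  have := hM.finite
  obtain ⟨a₀, ha₀⟩ := exists_prime_orderOf_dvd_card' (G := M) 11 (by rw [hM.card]; norm_num)
  set A := zpowers a₀
  have hA : Nat.card A = 11 := by rw [Nat.card_zpowers, ha₀]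
  set B := mv φ A with hBdef
  have hB : Nat.card B = 11 := (card_mv φ A).trans hA
  have hAB : A ≠ B := (h0 A hA).symm
  have hφB : mv φ B = A := by rw [hBdef, ← mv_mul, hφ, mv_one]
  have hinner : ∀ m : M, φ = MulAut.conj m → ∃ m : M, orderOf m = 2 ∧ φ = MulAut.conj m := by
    intro m hm
    refine ⟨m, orderOf_eq_prime ?_ ?_, hm⟩
    · refine hM.conj_eq_one ?_
      rw [pow_two, map_mul, ← hm, hφ]
    · rintro rfl
      exact h0 A hA (by rw [hm, map_one, mv_one])
  obtain ⟨i, hiA, hiB, hii⟩ := hM.exists_swap hA hB hAB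
  have hhA : mv (MulAut.conj i * φ) A = A := by rw [mv_mul, ← hBdef, mv_conj, hiB]
  have hhB : mv (MulAut.conj i * φ) B = B := by rw [mv_mul, hφB, mv_conj, hiA]
  obtain ⟨c, -, hc⟩ := exists_acts hA hhA
  by_cases h5 : c ^ 5 = 1
  · obtain ⟨m, -, -, hm⟩ := hM.exists_inner hA hB hAB hc hhB h5
    exact hinner (i⁻¹ * m) (by rw [map_mul, map_inv, ← hm, inv_mul_cancel_left])
  exfalso
  obtain ⟨u0, hu0A, hu0B, htA, htB⟩ := hM.exists_split hA hB hAB hc hhB h5
  set τ := MulAut.conj i * φ * MulAut.conj u0 with hτ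
  have hττ : τ * τ = 1 := by
    refine hM.sign hA hB hAB ?_ ?_
    · simpa using htA.mul hA htA
    · rw [mv_mul, htB.mv_eq hB, htB.mv_eq hB]
  -- a pair exchanged by `τ`
  obtain ⟨u, s, hu, -, -, huA, huB, hs, hgen⟩ := hM.exists_torus hA hB hAB
  obtain ⟨C, hC, hCne⟩ : ∃ C : Subgroup M, Nat.card C = 11 ∧ mv τ C ≠ C := by
    by_contra hall
    push Not at hall
    have h1 := hM.faithful hall
    rw [h1] at htA
    exact absurd (htA.unique hA acts_one) (by decide)
  set D := mv τ C with hDdef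
  have hD : Nat.card D = 11 := (card_mv τ C).trans hC
  obtain ⟨g, hgC, hgD⟩ := hM.trans_two hC hD hCne.symm hA hB hAB
  set τ' := MulAut.conj g * τ * (MulAut.conj g)⁻¹ with hτ'
  have hA' : mv τ' A = B := by
    rw [hτ', mv_mul, mv_mul, ← hgC, ← mv_conj, mv_inv_mv, ← hDdef, mv_conj, hgD]
  have hD' : mv τ D = C := by rw [hDdef, ← mv_mul, hττ, mv_one]
  have hB' : mv τ' B = A := by
    rw [hτ', mv_mul, mv_mul, ← hgD, ← mv_conj, mv_inv_mv, hD', mv_conj, hgC]
  have hh'A : mv (MulAut.conj i * τ') A = A := by rw [mv_mul, hA', mv_conj, hiB]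
  have hh'B : mv (MulAut.conj i * τ') B = B := by rw [mv_mul, hB', mv_conj, hiA]
  obtain ⟨c', -, hc'⟩ := exists_acts hA hh'A
  have hc'5 : c' ^ 5 ≠ 1 := by
    intro e
    obtain ⟨m, -, -, hm⟩ := hM.exists_inner hA hB hAB hc' hh'B e
    have hτm : τ = MulAut.conj (g⁻¹ * (i⁻¹ * m) * g) := by
      rw [map_mul, map_mul, map_mul, map_inv, map_inv, ← hm, hτ']
      group
    rw [hτm] at htA
    exact absurd (hM.inner_acts hA htA) (by decide)
  obtain ⟨v, hvA, hvB, hvA', hvB'⟩ := hM.exists_split hA hB hAB hc' hh'B hc'5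
  have hsame : MulAut.conj i * τ' * MulAut.conj v = τ := by
    have h1 : (MulAut.conj i * τ' * MulAut.conj v) * τ = 1 := by
      refine hM.sign hA hB hAB ?_ ?_
      · simpa using hvA'.mul hA htA
      · rw [mv_mul, htB.mv_eq hB, hvB'.mv_eq hB]
    calc _ = (MulAut.conj i * τ' * MulAut.conj v) * (τ * τ) := by rw [hττ, mul_one]
      _ = τ := by rw [← mul_assoc, h1, one_mul]
  have hcomm : ∀ w : M, cj w A = A → cj w B = B → Commute τ (MulAut.conj w) := by
    intro w hwA hwB
    obtain ⟨d, -, hd⟩ := exists_acts (φ := MulAut.conj w) hA hwA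
    have h1 : τ * MulAut.conj w * τ * (MulAut.conj w)⁻¹ = 1 := by
      refine hM.sign hA hB hAB ?_ ?_
      · have := ((htA.mul hA hd).mul hA htA).mul hA (hd.inv hA)
        rwa [show (-1 : ZMod 11) * d * -1 * d⁻¹ = 1 by
          rw [mul_neg_one, neg_one_mul, neg_neg, mul_inv_cancel₀ (hd.ne_zero hA)]] at this
      · rw [mv_mul, mv_mul, mv_mul, mv_eq_inv hwB, htB.mv_eq hB, show mv (MulAut.conj w) B = B from hwB,
          htB.mv_eq hB]
    rw [mul_inv_eq_one] at h1
    calc τ * MulAut.conj w = τ * MulAut.conj w * (τ * τ) := by rw [hττ, mul_one]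
      _ = MulAut.conj w * τ := by rw [← mul_assoc, h1]
  -- `φ` and `τ'` are conjugate under the torus
  obtain ⟨a, hau⟩ := hgen u0⁻¹ (cj_eq_self_iff.2 (inv_mem (cj_eq_self_iff.1 hu0A)))
    (cj_eq_self_iff.2 (inv_mem (cj_eq_self_iff.1 hu0B)))
  obtain ⟨b, hbu⟩ := hgen v⁻¹ (cj_eq_self_iff.2 (inv_mem (cj_eq_self_iff.1 hvA)))
    (cj_eq_self_iff.2 (inv_mem (cj_eq_self_iff.1 hvB)))
  set U := MulAut.conj u with hU
  have eφ : φ = MulAut.conj i * τ * U ^ a := by
    have hh : MulAut.conj i * MulAut.conj i = 1 := by rw [← map_mul, hii, map_one]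
    rw [hU, ← map_zpow, show u ^ a = u0⁻¹ from hau, map_inv, hτ]
    simp only [mul_assoc, mul_inv_cancel, mul_one]
    rw [← mul_assoc, hh, one_mul]
  have eτ' : τ' = MulAut.conj i * τ * U ^ b := by
    have hh : MulAut.conj i * MulAut.conj i = 1 := by rw [← map_mul, hii, map_one]
    rw [hU, ← map_zpow, show u ^ b = v⁻¹ from hbu, map_inv, ← hsame]
    simp only [mul_assoc, mul_inv_cancel, mul_one]
    rw [← mul_assoc, hh, one_mul]
  have hinv : ∀ l : ℤ, U ^ l * MulAut.conj i = MulAut.conj i * U ^ (-l) := by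
    intro l
    have h := hM.swap_inverts hA hB hAB hu huA huB hiA hiB
    have h' : MulAut.conj i * U * (MulAut.conj i)⁻¹ = U⁻¹ := by
      rw [hU, ← map_inv, ← map_mul, ← map_mul, h, map_inv]
    have : SemiconjBy (MulAut.conj i) U U⁻¹ := by
      show MulAut.conj i * U = U⁻¹ * MulAut.conj i
      rw [← h', inv_mul_cancel_right]
    have := this.zpow_right (-l)
    rw [inv_zpow, zpow_neg, inv_inv] at this
    rw [zpow_neg]
    exact this.symm
  have hτU : ∀ l : ℤ, U ^ l * τ = τ * U ^ l := fun l =>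
    (((hcomm u huA huB).zpow_right l)).symm.eq
  have hU5 : ∀ x y : ℤ, x ≡ y [ZMOD 5] → U ^ x = U ^ y := by
    intro x y h
    refine zpow_eq_zpow_iff_modEq.2 (Int.ModEq.of_dvd ?_ h)
    have : orderOf U ∣ 5 := orderOf_dvd_of_pow_eq_one (by
      rw [hU, ← map_pow, ← hu, pow_orderOf_eq_one, map_one])
    exact_mod_cast this
  set l : ℤ := 3 * (a - b)
  have hconj : φ = U ^ (-l) * τ' * U ^ l → False := by
    intro e
    have hfix : mv τ' (mv (MulAut.conj g) A) = mv (MulAut.conj g) A := by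
      rw [← mv_mul, hτ', inv_mul_cancel_right, mv_mul, htA.mv_eq hA]
    refine h0 (mv (U ^ (-l)) (mv (MulAut.conj g) A)) ((card_mv _ _).trans ((card_mv _ _).trans hA)) ?_
    rw [e, ← mv_mul, mul_assoc, ← zpow_add, add_neg_cancel, zpow_zero, mul_one, mv_mul, hfix]
  refine hconj ?_
  rw [eφ, eτ']
  have e1 : U ^ (-l) * (MulAut.conj i * τ * U ^ b) * U ^ l = MulAut.conj i * τ * U ^ (l + (b + l)) := by
    rw [← mul_assoc, ← mul_assoc, hinv, neg_neg, mul_assoc (MulAut.conj i), hτU, ← mul_assoc,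
      mul_assoc _ (U ^ l), ← zpow_add, mul_assoc _ (U ^ (l + b)), ← zpow_add]
    congr 2
    ring
  rw [e1]
  congr 1
  refine hU5 _ _ ?_
  show a % 5 = (l + (b + l)) % 5
  omega

theorem fixed_points {φ : MulAut M} (hA : Nat.card A = 11) (hB : Nat.card B = 11) (hAB : A ≠ B)
    (h1 : Acts φ A (-1)) (h2 : Acts φ B (-1)) (m : M) :
    φ m = m ↔ (cj m A = A ∧ cj m B = B) ∨ (cj m A = B ∧ cj m B = A) := by
  constructor
  · intro h
    have hc : ∀ X : Subgroup M, Nat.card X = 11 → mv φ X = X → mv φ (cj m X) = cj m X := by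
      intro X _ hX; rw [mv_cj, h, hX]
    have hne : (-1 : ZMod 11) ≠ 1 := by decide
    rcases hM.fix_cases hA hB hAB h1 hne (h2.mv_eq hB) ((card_cj m A).trans hA)
        (hc A hA (h1.mv_eq hA)) with hm | hm <;>
      rcases hM.fix_cases hA hB hAB h1 hne (h2.mv_eq hB) ((card_cj m B).trans hB)
        (hc B hB (h2.mv_eq hB)) with hm' | hm'
    · exact absurd ((cj_inv_cj m A).symm.trans ((congrArg (cj m⁻¹) (hm.trans hm'.symm)).trans (cj_inv_cj m B))) hAB
    · exact Or.inl ⟨hm, hm'⟩
    · exact Or.inr ⟨hm, hm'⟩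
    · exact absurd ((cj_inv_cj m A).symm.trans ((congrArg (cj m⁻¹) (hm.trans hm'.symm)).trans (cj_inv_cj m B))) hAB
  · intro h
    have e : φ * MulAut.conj m * φ⁻¹ = MulAut.conj (φ m) := by
      ext x; simp
    have hs : φ * MulAut.conj m * φ⁻¹ * (MulAut.conj m)⁻¹ = 1 := by
      rcases h with ⟨hmA, hmB⟩ | ⟨hmA, hmB⟩
      · obtain ⟨d, -, hd⟩ := exists_acts (φ := MulAut.conj m) hA hmA
        refine hM.sign hA hB hAB ?_ ?_
        · have := ((h1.mul hA hd).mul hA (h1.inv hA)).mul hA (hd.inv hA)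
          rwa [show (-1 : ZMod 11) * d * (-1)⁻¹ * d⁻¹ = 1 by
            rw [inv_neg, inv_one, mul_neg_one, neg_one_mul, neg_neg,
              mul_inv_cancel₀ (hd.ne_zero hA)]] at this
        · rw [mv_mul, mv_mul, mv_mul, mv_eq_inv hmB, mv_eq_inv (h2.mv_eq hB),
            show mv (MulAut.conj m) B = B from hmB, h2.mv_eq hB]
      · have hinvA : mv (MulAut.conj m)⁻¹ A = B := by
          rw [← hmB, ← mv_conj, mv_inv_mv]
        refine hM.sign hA hB hAB ?_ ?_
        · have hB' : Acts (MulAut.conj m * φ⁻¹ * (MulAut.conj m)⁻¹) A ((-1)⁻¹) := by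
            have := (h2.inv hB).transport (MulAut.conj m)
            rwa [mv_conj, hmB] at this
          have := h1.mul hA hB'
          simpa [mul_assoc, inv_neg] using this
        · rw [mv_mul, mv_mul, mv_mul, show mv (MulAut.conj m)⁻¹ B = A by rw [← hmA, ← mv_conj, mv_inv_mv],
            mv_eq_inv (h1.mv_eq hA), show mv (MulAut.conj m) A = B from hmA, h2.mv_eq hB]
    rw [mul_inv_eq_one, e] at hs
    refine mul_inv_eq_one.1 (hM.conj_eq_one ?_)
    rw [map_mul, map_inv, hs, mul_inv_cancel]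

/-- All involutions are conjugate. -/
theorem isConj_invol {i j : M} (hi : orderOf i = 2) (hj : orderOf j = 2) :
    ∃ g : M, g * i * g⁻¹ = j := by
  have := hM.finite
  obtain ⟨a₀, ha₀⟩ := exists_prime_orderOf_dvd_card' (G := M) 11 (by rw [hM.card]; norm_num)
  set A := zpowers a₀
  have hA : Nat.card A = 11 := by rw [Nat.card_zpowers, ha₀]
  set B := cj i A with hBdef
  have hB : Nat.card B = 11 := (card_cj i A).trans hA
  have hAB : A ≠ B := (hM.invol_free hi hA).symm
  have hsq : ∀ {x : M}, orderOf x = 2 → x * x = 1 := fun {x} hx => by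
    rw [← pow_two, ← hx, pow_orderOf_eq_one]
  have hiB : cj i B = A := by rw [hBdef, ← cj_mul, hsq hi, cj_one]
  obtain ⟨g, hgA, hgB⟩ := hM.trans_two hA ((card_cj j A).trans hA) (hM.invol_free hj hA).symm
    hA hB hAB
  set j' := g * j * g⁻¹ with hj'
  have hj'A : cj j' A = B := by
    conv_lhs => rw [← hgA]
    rw [← cj_mul, hj', inv_mul_cancel_right, cj_mul, hgB]
  have hj'B : cj j' B = A := by
    conv_lhs => rw [← hgB]
    rw [← cj_mul, ← cj_mul, hj', inv_mul_cancel_right, mul_assoc, hsq hj, mul_one, hgA]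
  obtain ⟨u, s, hu, -, -, huA, huB, -, hgen⟩ := hM.exists_torus hA hB hAB
  obtain ⟨k, hk⟩ := hgen (i⁻¹ * j')
    (by rw [cj_mul, hj'A, hBdef, cj_inv_cj])
    (by rw [cj_mul, hj'B]; conv_lhs => rw [← hiB]
        rw [cj_inv_cj])
  change u ^ k = i⁻¹ * j' at hk
  have hinv := hM.swap_inverts hA hB hAB hu huA huB hBdef.symm hiB
  -- conjugating `i` by a power of `u`
  have hsemi : SemiconjBy i u u⁻¹ := by
    show i * u = u⁻¹ * i
    rw [← hinv, inv_mul_cancel_right]
  obtain ⟨l, hl⟩ : ∃ l : ℤ, u ^ l * i * (u ^ l)⁻¹ = j' := by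
    refine ⟨2 * k, ?_⟩
    have h := hsemi.zpow_right (-(2 * k))
    rw [inv_zpow, zpow_neg, inv_inv] at h
    rw [← h.eq, ← zpow_neg, mul_assoc, ← zpow_add]
    rw [show j' = i * u ^ k by rw [hk, mul_inv_cancel_left]]
    congr 1
    rw [zpow_eq_zpow_iff_modEq, hu]
    show (-(2 * k) + -(2 * k)) % 5 = k % 5
    omega
  refine ⟨g⁻¹ * u ^ l, ?_⟩
  calc g⁻¹ * u ^ l * i * (g⁻¹ * u ^ l)⁻¹ = g⁻¹ * (u ^ l * i * (u ^ l)⁻¹) * g := by group
    _ = j := by rw [hl, hj']; group

theorem card_invol : Nat.card {i : M // orderOf i = 2} = 55 := by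
  have := hM.finite
  classical
  have := Fintype.ofFinite M
  let Pairs := {p : {X : Subgroup M // Nat.card X = 11} × {X : Subgroup M // Nat.card X = 11} //
    p.1 ≠ p.2}
  have hsq : ∀ {x : M}, orderOf x = 2 → x * x = 1 := fun {x} hx => by
    rw [← pow_two, ← hx, pow_orderOf_eq_one]
  let f : {i : M // orderOf i = 2} × {X : Subgroup M // Nat.card X = 11} → Pairs := fun p =>
    ⟨(p.2, ⟨cj p.1 p.2, (card_cj _ _).trans p.2.2⟩),
      fun e => hM.invol_free p.1.2 p.2.2 (congrArg Subtype.val e).symm⟩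
  have hfib : ∀ P : Pairs, Nat.card {p // f p = P} = 5 := by
    rintro ⟨⟨⟨A, hA⟩, ⟨B, hB⟩⟩, hne⟩
    have hAB : A ≠ B := fun e => hne (Subtype.ext e)
    obtain ⟨u, s, hu, -, -, huA, huB, -, hgen⟩ := hM.exists_torus hA hB hAB
    obtain ⟨i, hiA, hiB, hii⟩ := hM.exists_swap hA hB hAB
    have hinvol : ∀ t : zpowers u, orderOf (i * (t : M)) = 2 := fun t => by
      have htA : cj (i * (t : M)) A = B ∧ cj (i * (t : M)) B = A := by
        obtain ⟨k, hk⟩ := t.2
        constructor <;> rw [cj_mul, ← hk, cj_eq_self_iff.2 (zpow_mem (cj_eq_self_iff.1 (by assumption)) k)]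
        exacts [hiA, hiB]
      have hinv := hM.swap_inverts hA hB hAB hu huA huB hiA hiB
      obtain ⟨k, hk⟩ := t.2
      change u ^ k = (t : M) at hk
      refine orderOf_eq_prime ?_ fun e => hAB ?_
      · have h : SemiconjBy i (u ^ k) (u⁻¹ ^ k) := by
          refine SemiconjBy.zpow_right ?_ k
          show i * u = u⁻¹ * i
          rw [← hinv, inv_mul_cancel_right]
        rw [pow_two, ← hk, show i * u ^ k * (i * u ^ k) = (i * u ^ k) * i * u ^ k by group, h.eq,
          mul_assoc, mul_assoc, ← mul_assoc i i, hii, one_mul, inv_zpow, inv_mul_cancel]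
      · rw [← htA.1, e, cj_one]
    refine (Nat.card_congr (Equiv.ofBijective
      (fun t : zpowers u => (⟨(⟨i * t, hinvol t⟩, ⟨A, hA⟩), ?_⟩ : {p // f p = _})) ⟨?_, ?_⟩)).symm.trans
        (by rw [Nat.card_zpowers, hu])
    · refine Subtype.ext (Prod.ext rfl (Subtype.ext ?_))
      obtain ⟨k, hk⟩ := t.2
      show cj (i * (t : M)) A = B
      rw [cj_mul, ← hk, cj_eq_self_iff.2 (zpow_mem (cj_eq_self_iff.1 huA) k), hiA]
    · intro t t' e
      exact Subtype.ext (mul_left_cancel
        (congrArg (fun p : {p // f p = _} => ((p.1.1 : {i : M // orderOf i = 2}) : M)) e))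
    · rintro ⟨⟨⟨j, hj⟩, ⟨X, hX⟩⟩, hp⟩
      have hX' : X = A := congrArg (fun q : Pairs => (q.1.1 : Subgroup M)) hp
      subst hX'
      have hjA : cj j X = B := congrArg (fun q : Pairs => (q.1.2 : Subgroup M)) hp
      have hjB : cj j B = X := by rw [← hjA, ← cj_mul, hsq hj, cj_one]
      have hi : i⁻¹ = i := inv_eq_of_mul_eq_one_right hii
      exact ⟨⟨i⁻¹ * j, hgen _ (by rw [cj_mul, hjA, hi, hiB]) (by rw [cj_mul, hjB, hi, hiA])⟩,
        Subtype.ext (Prod.ext (Subtype.ext (mul_inv_cancel_left i j)) rfl)⟩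
  have h12 := hM.card_el
  have hpairs : Nat.card Pairs = 132 := by
    rw [Nat.card_eq_fintype_card, Fintype.card_subtype_compl]
    rw [Nat.card_eq_fintype_card] at h12
    have hdiag : Fintype.card {p : {X : Subgroup M // Nat.card X = 11} × {X : Subgroup M // Nat.card X = 11} //
        p.1 = p.2} = 12 := by
      rw [← h12]
      exact Fintype.card_congr
        { toFun := fun p => p.1.1
          invFun := fun X => ⟨(X, X), rfl⟩
          left_inv := fun p => Subtype.ext (Prod.ext rfl p.2)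
          right_inv := fun _ => rfl }
    rw [Fintype.card_prod, h12, hdiag]
  have htot := Nat.card_congr (Equiv.sigmaFiberEquiv f)
  rw [Nat.card_sigma, Finset.sum_congr rfl (fun P _ => hfib P), Finset.sum_const, Finset.card_univ,
    ← Nat.card_eq_fintype_card, hpairs, Nat.card_prod, h12, smul_eq_mul] at htot
  omega

theorem card_centralizer_invol {i : M} (hi : orderOf i = 2) :
    Nat.card (centralizer ({i} : Set M)) = 12 := by
  have := hM.finite
  have h := MulAction.index_stabilizer (ConjAct M) i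
  have hset : MulAction.orbit (ConjAct M) i = {j : M | orderOf j = 2} := by
    ext j
    simp only [MulAction.mem_orbit_iff, Set.mem_setOf_eq, ConjAct.smul_def]
    constructor
    · rintro ⟨g, rfl⟩
      rw [← MulAut.conj_apply, MulEquiv.orderOf_eq, hi]
    · intro hj
      obtain ⟨g, hg⟩ := hM.isConj_invol hi hj
      exact ⟨ConjAct.toConjAct g, by simpa using hg⟩
  rw [hset, ← Nat.card_coe_set_eq, show Nat.card ({j : M | orderOf j = 2} : Set M) = 55 from hM.card_invol] at h
  have h' := (MulAction.stabilizer (ConjAct M) i).card_mul_index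
  rw [h, show Nat.card (ConjAct M) = 660 from hM.card] at h'
  have hc : Nat.card (MulAction.stabilizer (ConjAct M) i) = Nat.card (centralizer ({i} : Set M)) :=
    Nat.card_congr
      { toFun := fun g => ⟨ConjAct.ofConjAct g.1, mem_centralizer_singleton_iff.2
          (mul_inv_eq_iff_eq_mul.1 ((ConjAct.smul_def g.1 i).symm.trans g.2))⟩
        invFun := fun g => ⟨ConjAct.toConjAct (g.1 : M), (ConjAct.smul_def _ i).trans (by
          rw [ConjAct.ofConjAct_toConjAct, mul_inv_eq_iff_eq_mul]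
          exact mem_centralizer_singleton_iff.1 g.2)⟩
        left_inv := fun g => Subtype.ext (ConjAct.toConjAct_ofConjAct g.1)
        right_inv := fun g => Subtype.ext (ConjAct.ofConjAct_toConjAct (g.1 : M)) }
  omega

/-- A four-group around each involution, with non-central normaliser. -/
theorem exists_four {i : M} (hi : orderOf i = 2) :
    ∃ j g : M, orderOf j = 2 ∧ j ≠ i ∧ Commute i j ∧
      (∀ x ∈ closure ({i, j} : Set M), g * x * g⁻¹ ∈ closure ({i, j} : Set M)) ∧
      ¬ (g * i = i * g ∧ g * j = j * g) := by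
  have := hM.finite
  have := Fact.mk Nat.prime_two
  obtain ⟨S, hS⟩ := (IsPGroup.of_card (n := 1) (by rw [Nat.card_zpowers, hi, pow_one]) :
    IsPGroup 2 (zpowers i)).exists_le_sylow
  have h4 : Nat.card (S : Subgroup M) = 4 := by
    rw [S.card_eq_multiplicity, hM.card, show (660 : ℕ) = 2 ^ 2 * 165 by norm_num,
      Nat.factorization_mul (by norm_num) (by norm_num), Finsupp.add_apply,
      Nat.factorization_eq_zero_of_not_dvd (show ¬ 2 ∣ 165 by norm_num),
      Nat.Prime.factorization_pow Nat.prime_two, Finsupp.single_eq_same]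
    norm_num
  have hcomm : ∀ x ∈ (S : Subgroup M), ∀ y ∈ (S : Subgroup M), x * y = y * x := fun x hx y hy => by
    have hc := IsPGroup.isMulCommutative_of_card_eq_prime_sq (p := 2) (G := (S : Subgroup M)) h4
    exact congrArg Subtype.val (hc.is_comm.comm ⟨x, hx⟩ ⟨y, hy⟩)
  have hncyc : ¬ IsCyclic (S : Subgroup M) := fun hc => by
    have hle := IsCyclic.normalizer_le_centralizer (p := 2) (P := S)
      (by rw [hM.card]; norm_num) hc
    have h := (MonoidHom.ker_transferSylow_isComplement' S hle).card_mul_card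
    rw [h4, hM.card] at h
    refine hM.not_normal ?_ ?_ (MonoidHom.normal_ker (MonoidHom.transferSylow S hle)) <;> omega
  obtain ⟨j, hjS, hj⟩ : ∃ j ∈ (S : Subgroup M), j ∉ zpowers i := by
    by_contra h
    push Not at h
    have := Nat.card_mono (Set.toFinite _) h
    rw [SetLike.coe_sort_coe, SetLike.coe_sort_coe, h4, Nat.card_zpowers, hi] at this
    omega
  have hj2 : orderOf j = 2 := by
    have hd := Subgroup.orderOf_dvd_natCard _ hjS
    rw [h4] at hd
    obtain ⟨k, hk, hk'⟩ := (Nat.dvd_prime_pow Nat.prime_two (m := 2)).1 (by simpa using hd)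
    interval_cases k
    · rw [pow_zero, orderOf_eq_one_iff] at hk'
      exact absurd (hk' ▸ one_mem _) hj
    · simpa using hk'
    · exfalso
      refine hncyc (isCyclic_of_orderOf_eq_card (⟨j, hjS⟩ : (S : Subgroup M)) ?_)
      rw [orderOf_mk, hk', h4]
      norm_num
  have hij : j ≠ i := fun e => hj (e ▸ mem_zpowers i)
  have hiS : i ∈ (S : Subgroup M) := hS (mem_zpowers i)
  have hVS : closure ({i, j} : Set M) = (S : Subgroup M) := by
    refine le_antisymm ((closure_le _).2 ?_) ?_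
    · rintro x (rfl | rfl)
      exacts [hiS, hjS]
    intro x hx
    by_contra hxV
    have hsub : zpowers i < closure ({i, j} : Set M) := lt_of_le_of_ne
      (zpowers_le.2 (subset_closure (Set.mem_insert _ _)))
      fun e => hj (e ▸ subset_closure (Set.mem_insert_of_mem _ rfl))
    have hle : closure ({i, j} : Set M) ≤ (S : Subgroup M) := (closure_le _).2 (by
      rintro x (rfl | rfl)
      exacts [hiS, hjS])
    have h1 := card_dvd_of_le hle
    have h2 := card_dvd_of_le hsub.le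
    rw [h4] at h1
    rw [Nat.card_zpowers, hi] at h2
    have hle4 := Nat.le_of_dvd (by norm_num) h1
    have hne2 : Nat.card (closure ({i, j} : Set M)) ≠ 2 := fun e => hsub.ne
      (Subgroup.eq_of_le_of_card_ge hsub.le (by rw [e, Nat.card_zpowers, hi]))
    have key : ∀ n ≤ 4, 2 ∣ n → n ∣ 4 → n ≠ 2 → n = 4 := by decide
    have e4 := key _ hle4 h2 h1 hne2
    exact hxV (Subgroup.eq_of_le_of_card_ge hle (by rw [h4, e4]) ▸ hx)
  refine ⟨j, ?_⟩
  by_contra hnone
  push Not at hnone
  have hle : normalizer ((S : Subgroup M) : Set M) ≤ centralizer ((S : Subgroup M) : Set M) := by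
    intro g hg
    obtain ⟨hgi, hgj⟩ := hnone g hj2 hij (hcomm i hiS j hjS) fun x hx => by
      rw [hVS] at hx ⊢
      exact (mem_normalizer_iff.1 hg x).1 hx
    rw [← hVS, mem_centralizer_iff]
    intro x hx
    induction hx using closure_induction with
    | mem y hy => rcases hy with rfl | rfl; exacts [hgi.symm, hgj.symm]
    | one => simp
    | mul y z _ _ h1 h2 => rw [mul_assoc, h2, ← mul_assoc, h1, mul_assoc]
    | inv y _ h1 => exact (Commute.inv_left h1).eq
  have h := (MonoidHom.ker_transferSylow_isComplement' S hle).card_mul_card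
  rw [h4, hM.card] at h
  refine hM.not_normal ?_ ?_ (MonoidHom.normal_ker (MonoidHom.transferSylow S hle)) <;> omega

theorem five_fix {u : M} (hu : orderOf u = 5) : ∃ A B : Subgroup M,
    Nat.card A = 11 ∧ Nat.card B = 11 ∧ A ≠ B ∧ cj u A = A ∧ cj u B = B := by
  have := hM.finite
  have : Fact (Nat.Prime 5) := ⟨by norm_num⟩
  obtain ⟨a₀, ha₀⟩ := exists_prime_orderOf_dvd_card' (G := M) 11 (by rw [hM.card]; norm_num)
  have hA : Nat.card (zpowers a₀) = 11 := by rw [Nat.card_zpowers, ha₀]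
  obtain ⟨B, hB, hBA⟩ := hM.exists_el_ne (zpowers a₀)
  obtain ⟨u₀, s, hu₀, -, -, huA, huB, -, -⟩ := hM.exists_torus hA hB hBA.symm
  have hfac : (660 : ℕ).factorization 5 = 1 := by
    rw [show (660 : ℕ) = 5 ^ 1 * 132 by norm_num, Nat.factorization_mul (by norm_num) (by norm_num),
      Finsupp.add_apply, Nat.factorization_eq_zero_of_not_dvd (show ¬ 5 ∣ 132 by norm_num),
      Nat.Prime.factorization_pow (by norm_num), Finsupp.single_eq_same]
  let P : Sylow 5 M := Sylow.ofCard (zpowers u₀) (by rw [Nat.card_zpowers, hu₀, hM.card, hfac, pow_one])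
  let Q : Sylow 5 M := Sylow.ofCard (zpowers u) (by rw [Nat.card_zpowers, hu, hM.card, hfac, pow_one])
  obtain ⟨g, hg⟩ := MulAction.exists_smul_eq M P Q
  have hz : zpowers u = cj g (zpowers u₀) := by
    have := congrArg (fun R : Sylow 5 M => (R : Subgroup M)) hg
    simp only [Sylow.coe_subgroup_smul] at this
    exact this.symm
  obtain ⟨k, hk⟩ := mem_cj.1 (hz ▸ mem_zpowers u : u ∈ cj g (zpowers u₀))
  have hu' : u = g * u₀ ^ k * g⁻¹ := by rw [show u₀ ^ k = g⁻¹ * u * g from hk]; group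
  have hfix : ∀ X : Subgroup M, cj u₀ X = X → cj u (cj g X) = cj g X := fun X hX => by
    rw [← cj_mul, hu', inv_mul_cancel_right, cj_mul,
      cj_eq_self_iff.2 (zpow_mem (cj_eq_self_iff.1 hX) k)]
  exact ⟨cj g (zpowers a₀), cj g B, (card_cj _ _).trans hA, (card_cj _ _).trans hB,
    fun e => hBA.symm (by rw [← cj_inv_cj g (zpowers a₀), e, cj_inv_cj]), hfix _ huA, hfix _ huB⟩

/-- Subgroups of order `60` are simple. -/
theorem simple_sixty {H : Subgroup M} (hH : Nat.card H = 60) : IsSimpleGroup H := by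
  have := hM.finite
  have h5 : ∀ N : Subgroup H, N.Normal → Nat.card N ≠ 5 := by
    intro N hN hN5
    have : Fact (Nat.Prime 5) := ⟨by norm_num⟩
    obtain ⟨⟨u, huN⟩, hu⟩ := exists_prime_orderOf_dvd_card' (G := N) 5 (by rw [hN5])
    rw [orderOf_mk] at hu
    have hu' : orderOf (u : M) = 5 := by rw [orderOf_coe]; exact hu
    have hzu : zpowers u = N := Subgroup.eq_of_le_of_card_ge (zpowers_le.2 huN)
      (by rw [hN5, Nat.card_zpowers, hu])
    obtain ⟨A, B, hA, hB, hAB, huA, huB⟩ := hM.five_fix hu'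
    obtain ⟨c, -, hc⟩ := exists_acts (φ := MulAut.conj (u : M)) hA huA
    have hc1 : c ≠ 1 := fun e => by
      have := hM.conj_eq_one (hM.sign hA hB hAB (e ▸ hc) huB)
      rw [this, orderOf_one] at hu'
      norm_num at hu'
    obtain ⟨u₀, s, hu₀, -, -, -, -, -, hgen⟩ := hM.exists_torus hA hB hAB
    obtain ⟨i, hiA, hiB, -⟩ := hM.exists_swap hA hB hAB
    -- every element of `H` stabilises the fixed pair
    have hsub : ∀ h ∈ H, h ∈ zpowers u₀ ∨ i⁻¹ * h ∈ zpowers u₀ := by
      intro h hh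
      obtain ⟨k, hk⟩ : ∃ k : ℤ, u ^ k = (⟨h, hh⟩ : H)⁻¹ * u * ⟨h, hh⟩ := by
        have := hN.conj_mem u huN (⟨h, hh⟩ : H)⁻¹
        rw [inv_inv, ← hzu] at this
        exact this
      have hk' : (u : M) ^ k = h⁻¹ * u * h := by
        have := congrArg (fun x : H => (x : M)) hk
        simpa using this
      have hn : ∀ X : Subgroup M, Nat.card X = 11 → cj (u : M) X = X → cj h X = A ∨ cj h X = B := by
        intro X hX hXu
        refine hM.fix_cases hA hB hAB hc hc1 huB ((card_cj h X).trans hX) ?_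
        rw [mv_conj, ← cj_mul, show (u : M) * h = h * (u : M) ^ k by rw [hk']; group, cj_mul,
          cj_eq_self_iff.2 (zpow_mem (cj_eq_self_iff.1 hXu) k)]
      rcases hn A hA huA with h1 | h1
      · refine Or.inl (hgen h h1 ((hn B hB huB).resolve_left fun h2 => hAB ?_))
        rw [← cj_inv_cj h A, h1, ← h2, cj_inv_cj]
      · have h2 : cj h B = A := (hn B hB huB).resolve_right fun h2 => hAB (by
          rw [← cj_inv_cj h A, h1]; conv_lhs => rw [← h2]
          rw [cj_inv_cj])
        refine Or.inr (hgen _ ?_ ?_) <;> rw [cj_mul]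
        · rw [h1, ← hiA, cj_inv_cj]
        · rw [h2, ← hiB, cj_inv_cj]
    classical
    let g : H → Bool × zpowers u₀ := fun h =>
      if hc : (h : M) ∈ zpowers u₀ then (true, ⟨h, hc⟩)
      else (false, ⟨i⁻¹ * h, (hsub h h.2).resolve_left hc⟩)
    have hg : Function.Injective g := by
      intro a b e
      simp only [g] at e
      split_ifs at e with h1 h2 h3 <;> simp only [Prod.mk.injEq, Subtype.mk.injEq] at e
      · exact Subtype.ext e.2
      · exact absurd e.1 (by simp)
      · exact absurd e.1 (by simp)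
      · exact Subtype.ext (mul_left_cancel e.2)
    have := Nat.card_le_card_of_injective g hg
    rw [hH, Nat.card_prod, Nat.card_zpowers, hu₀] at this
    simp at this
  have h2 : ∀ N : Subgroup H, N.Normal → Nat.card N ≠ 2 := by
    intro N hN hN2
    obtain ⟨⟨⟨x, hx⟩, hxN⟩, hne, huniq⟩ := (Nat.card_eq_two_iff' (1 : N)).1 hN2
    have hx1 : x ≠ 1 := fun e => hne (Subtype.ext (Subtype.ext e))
    have hx2 : orderOf x = 2 := by
      have := Subgroup.orderOf_dvd_natCard _ hxN
      rw [hN2, orderOf_mk] at this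
      exact ((Nat.dvd_prime Nat.prime_two).1 this).resolve_left fun e => hx1 (orderOf_eq_one_iff.1 e)
    have hle : H ≤ centralizer ({x} : Set M) := by
      intro h hh
      rw [mem_centralizer_singleton_iff]
      have hc := hN.conj_mem _ hxN (⟨h, hh⟩ : H)
      have := huniq ⟨_, hc⟩ fun e => hx1 (conj_eq_one_iff.1 (congrArg (fun y : N => ((y : H) : M)) e))
      have e : h * x * h⁻¹ = x := congrArg (fun y : N => ((y : H) : M)) this
      exact mul_inv_eq_iff_eq_mul.1 e
    have := Nat.le_of_dvd (by rw [hM.card_centralizer_invol hx2]; norm_num) (card_dvd_of_le hle)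
    rw [hM.card_centralizer_invol hx2, hH] at this
    omega
  obtain ⟨η⟩ := DicksonId.nonempty_alt_five hH h5 h2
  have : IsSimpleGroup (alternatingGroup (Fin 5)) := alternatingGroup.isSimpleGroup_five
  exact η.isSimpleGroup

end Cfsg.Agent.Lib.OrdElevenPairs.IsL
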