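import Cfsg.Agent.Lib.OrdElevenPairs.Basic
import Cfsg.Agent.Lib.OrdElevenPairs.LineInv
import Cfsg.Agent.Lib.OrdElevenPairs.JanTorus
import Cfsg.Agent.Lib.OrdElevenPairs.Groups

/-!
# Blocks: pairs generating a simple group of order `175560`
-/

set_option autoImplicit false
set_option linter.unusedSectionVars false

namespace Cfsg.Agent.Lib.OrdElevenPairs

open Cfsg.Agent.Lib.PairOdd Subgroup

universe u

variable {G : Type u} [Group G]

theorem IsK.of_equiv {M : Type u} {N : Type u} [Group M] [Group N] (e : M ≃* N) (h : IsK M) :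
    IsK N :=
  have := h.simple
  ⟨e.symm.isSimpleGroup, (Nat.card_congr e.toEquiv).symm.trans h.card⟩

theorem IsK.cj_of (g : G) {M : Subgroup G} (h : IsK M) : IsK ↥(cj g M) :=
  h.of_equiv (M.equivMapOfInjective (MulAut.conj g).toMonoidHom (MulAut.conj g).injective)

theorem map_subgroupOf {M : Subgroup G} (Y : Subgroup M) : (Y.map M.subtype).subgroupOf M = Y :=
  comap_map_eq_self_of_injective M.subtype_injective Y

theorem aut_sq {g : G} {M : Subgroup G} (h : cj g M = M) (hg : g * g = 1) : aut h * aut h = 1 := by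
  refine MulEquiv.ext fun x => Subtype.ext ?_
  show g * (g * (x : G) * g⁻¹) * g⁻¹ = x
  calc g * (g * (x : G) * g⁻¹) * g⁻¹ = g * g * x * (g * g)⁻¹ := by group
    _ = x := by rw [hg, inv_one, one_mul, mul_one]

namespace Sys

variable (S : Sys G)

/-- The standing hypotheses. -/
structure Ctx : Prop where
  small : S.Small
  center : center G = ⊥
  notDone : ¬ S.Done

/-- A block. -/
structure Blk (M : Subgroup G) : Prop where
  isK : IsK M
  mem : ∀ X : Subgroup G, Nat.card X = 11 → X ≤ M → X ∈ S.D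
  gen : ∃ A ∈ S.D, ∃ B ∈ S.D, A ≠ B ∧ M = A ⊔ B

variable {S} [Finite G]

theorem blk_of_pair {A B : Subgroup G} (hA : A ∈ S.D) (hB : B ∈ S.D) (hAB : A ≠ B)
    (h : IsK ↥(A ⊔ B)) : S.Blk (A ⊔ B) :=
  ⟨h, fun _ hX hXM => mem_D hA le_sup_left h.not_sq hX hXM, A, hA, B, hB, hAB, rfl⟩

namespace Blk

variable {M : Subgroup G} (hM : S.Blk M)
include hM

theorem card : Nat.card M = 175560 := hM.isK.card

theorem cj_blk (g : G) : S.Blk (cj g M) := by
  refine ⟨hM.isK.cj_of g, fun X hX hXM => ?_, ?_⟩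
  · have h := hM.mem (cj g⁻¹ X) ((card_cj _ _).trans hX)
      (cj_le_iff.2 (by rwa [inv_inv]))
    have := S.conj g _ h
    rwa [cj_cj_inv] at this
  · obtain ⟨A, hA, B, hB, hAB, rfl⟩ := hM.gen
    exact ⟨cj g A, S.conj g A hA, cj g B, S.conj g B hB,
      fun e => hAB (by rw [← cj_inv_cj g A, e, cj_inv_cj]), cj_sup g A B⟩

theorem eq_of_le {N : Subgroup G} (hN : S.Blk N) (h : N ≤ M) : N = M :=
  Subgroup.eq_of_le_of_card_ge h (by rw [hN.card, hM.card])

theorem eq_of_pair {A B : Subgroup G} (hA : A ∈ S.D) (hB : B ∈ S.D) (hAB : A ≠ B)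
    (hAM : A ≤ M) (hBM : B ≤ M) (h : IsK ↥(A ⊔ B)) : A ⊔ B = M :=
  hM.eq_of_le (blk_of_pair hA hB hAB h) (sup_le hAM hBM)

theorem exists_member : ∃ A ∈ S.D, A ≤ M := by
  obtain ⟨A, hA, B, -, -, rfl⟩ := hM.gen
  exact ⟨A, hA, le_sup_left⟩

theorem exists_outside (hX : S.Ctx) : ∃ X ∈ S.D, ¬ X ≤ M := by
  by_contra h
  push Not at h
  obtain ⟨A, hA, B, hB, hAB, rfl⟩ := hM.gen
  refine hX.notDone ⟨A, hA, B, hB, hAB, top_le_iff.1 ?_⟩
  rw [← S.gen]
  exact iSup₂_le h

theorem line_max (hX : S.Ctx) {w : G} (hw1 : w ≠ 1) (hw : w ∈ centralizer (M : Set G))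
    {X : Subgroup G} (hXD : X ∈ S.D) (hwX : w ∈ centralizer (X : Set G)) : X ≤ M := by
  obtain ⟨A, hA, B, hB, hAB, rfl⟩ := hM.gen
  obtain ⟨C, hC, E, hE, hCE, hle, -, hmax⟩ := exists_line hX.small hX.center hw1 hA hB hAB
    (centralizer_le (SetLike.coe_subset_coe.2 le_sup_left) hw)
    (centralizer_le (SetLike.coe_subset_coe.2 le_sup_right) hw)
  have hd := card_dvd_of_le hle
  rw [hM.card] at hd
  rcases S.pair C hC E hE hCE with h | h
  · rw [h.card] at hd
    norm_num at hd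
  · have he : A ⊔ B = C ⊔ E := Subgroup.eq_of_le_of_card_ge hle (by rw [hM.card, h.card])
    rw [he]
    exact hmax X hXD hwX

/-- An element commuting with a nontrivial element of `C(M)` normalises `M`. -/
theorem cj_of_commute (hX : S.Ctx) {w g : G} (hw1 : w ≠ 1) (hw : w ∈ centralizer (M : Set G))
    (hg : Commute g w) : cj g M = M := by
  obtain ⟨A, hA, B, hB, hAB, rfl⟩ := hM.gen
  have key : ∀ Y ∈ S.D, Y ≤ A ⊔ B → cj g Y ≤ A ⊔ B := fun Y hY hYM => by
    refine hM.line_max hX hw1 hw (S.conj g Y hY) (mem_centralizer_iff.2 ?_)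
    rintro _ ⟨y, hy, rfl⟩
    show g * y * g⁻¹ * w = w * (g * y * g⁻¹)
    calc g * y * g⁻¹ * w = g * (y * w) * g⁻¹ := by
          rw [mul_assoc (g * y) g⁻¹ w, hg.inv_left.eq]; group
      _ = g * (w * y) * g⁻¹ := by rw [mem_centralizer_iff.1 hw y (hYM hy)]
      _ = w * (g * y * g⁻¹) := by rw [← mul_assoc g w, hg.eq]; group
  refine cj_eq_of_le ?_
  rw [cj_sup]
  exact sup_le (key A hA le_sup_left) (key B hB le_sup_right)

theorem cent_trivial {m : G} (hm : m ∈ M) (hc : m ∈ centralizer (M : Set G)) : m = 1 := by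
  obtain ⟨A, hA, B, hB, hAB, rfl⟩ := hM.gen
  have h : (⟨m, hm⟩ : ↥(A ⊔ B)) ∈ Subgroup.center ↥(A ⊔ B) :=
    mem_center_iff.2 fun x => Subtype.ext (mem_centralizer_iff.1 hc x x.2)
  rw [(simple_pair hA hB hAB).2.1, mem_bot] at h
  exact congrArg Subtype.val h

theorem exists_split {g : G} (hg : cj g M = M) : ∃ m ∈ M, m⁻¹ * g ∈ centralizer (M : Set G) := by
  obtain ⟨m, hm⟩ := hM.isK.exists_inner (aut hg)
  exact ⟨m, m.2, aut_eq_conj hg hm⟩

theorem split_pow {g m : G} (hm : m ∈ M) (hc : m⁻¹ * g ∈ centralizer (M : Set G)) {n : ℕ}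
    (hg : g ^ n = 1) : m ^ n = 1 ∧ (m⁻¹ * g) ^ n = 1 := by
  have hcomm : Commute m (m⁻¹ * g) := mem_centralizer_iff.1 hc m hm
  have h1 : m ^ n * (m⁻¹ * g) ^ n = 1 := by rw [← hcomm.mul_pow, mul_inv_cancel_left, hg]
  have h2 : m ^ n ∈ centralizer (M : Set G) := by
    rw [eq_inv_of_mul_eq_one_left h1]
    exact inv_mem (pow_mem hc n)
  have h3 := hM.cent_trivial (pow_mem hm n) h2
  rw [h3, one_mul] at h1
  exact ⟨h3, h1⟩

theorem acts_invol {t : G} (htM : t ∈ M) (ht : orderOf t = 2) {A : Subgroup G} (hA : A ∈ S.D)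
    (hAM : A ≤ M) (htA : cj t A = A) : Acts (MulAut.conj t) A (-1) := by
  have h := hM.isK.acts_invol (A := A.subgroupOf M) (by rw [card_subgroupOf hAM, S.card A hA])
    (t := ⟨t, htM⟩) (by rwa [orderOf_mk]) (by rw [cj_subgroupOf, htA])
  exact (conj_acts_iff hAM ⟨t, htM⟩).1 h

theorem exists_inverted {t : G} (htM : t ∈ M) (ht : orderOf t = 2) :
    ∃ A ∈ S.D, A ≤ M ∧ Acts (MulAut.conj t) A (-1) := by
  obtain ⟨Y, hY, hact⟩ := hM.isK.exists_inverted (t := ⟨t, htM⟩) (by rwa [orderOf_mk])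
  have hc : Nat.card (Y.map M.subtype) = 11 := by
    rw [card_map_of_injective M.subtype_injective, hY]
  have hle : Y.map M.subtype ≤ M := map_subtype_le Y
  refine ⟨_, hM.mem _ hc hle, hle, (conj_acts_iff hle ⟨t, htM⟩).1 ?_⟩
  rwa [map_subgroupOf]

/-- An element of `C(M)` inverts no member. -/
theorem cent_no_invert {z : G} (hz : z ∈ centralizer (M : Set G)) {Y : Subgroup G} (hY : Y ∈ S.D)
    (h : Acts (MulAut.conj z) Y (-1)) : False := by
  obtain ⟨A, hA, hAM⟩ := hM.exists_member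
  exact absurd (acts_eq_one hA hY (centralizer_le (SetLike.coe_subset_coe.2 hAM) hz) h) (by decide)

set_option maxHeartbeats 1000000 in
/-- The centraliser of a block has odd order. -/
theorem odd_cent (hX : S.Ctx) {z : G} (hz : z ∈ centralizer (M : Set G)) : orderOf z ≠ 2 := by
  intro ho
  obtain ⟨X, hXD, hXM⟩ := hM.exists_outside hX
  obtain ⟨A, hA, hAM⟩ := hM.exists_member
  have hzA : z ∈ centralizer (A : Set G) := centralizer_le (SetLike.coe_subset_coe.2 hAM) hz
  have hz1 : z ≠ 1 := fun e => by rw [e, orderOf_one] at ho; norm_num at ho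
  have hzz : z * z = 1 := by rw [← pow_two, ← ho, pow_orderOf_eq_one]
  have hzX : z ∉ centralizer (X : Set G) := fun h => hXM (hM.line_max hX hz1 hz hXD h)
  have hne : cj z X ≠ X := fun h => hzX (cent_fixed hA hXD hzA h)
  have hX'D : cj z X ∈ S.D := S.conj z X hXD
  have hzN : cj z (X ⊔ cj z X) = X ⊔ cj z X := by
    rw [cj_sup, ← cj_mul, hzz, cj_one, sup_comm]
  have hφ2 := aut_sq hzN hzz
  have hφ1 : aut hzN ≠ 1 := fun e =>
    hzX (centralizer_le (SetLike.coe_subset_coe.2 le_sup_left) ((aut_eq_one hzN).1 e))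
  -- no member of the line is inverted by `z`
  have hnot : ∀ Y : Subgroup ↥(X ⊔ cj z X), Nat.card Y = 11 → ¬ Acts (aut hzN) Y (-1) := by
    intro Y hY h
    have hle : Y.map (X ⊔ cj z X).subtype ≤ X ⊔ cj z X := map_subtype_le Y
    have hc : Nat.card (Y.map (X ⊔ cj z X).subtype) = 11 := by
      rw [card_map_of_injective (X ⊔ cj z X).subtype_injective, hY]
    refine hM.cent_no_invert hz (mem_D hXD le_sup_left
      (simple_pair hXD hX'D hne.symm).2.2 hc hle) ((acts_aut hzN hle).1 ?_)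
    rwa [map_subgroupOf]
  rcases S.pair X hXD _ hX'D hne.symm with h | h
  swap
  · -- a block
    have hN := blk_of_pair hXD hX'D hne.symm h
    obtain ⟨k, hk⟩ := h.exists_inner (aut hzN)
    have hk1 : k ≠ 1 := fun e => hφ1 (by rw [hk, e, map_one])
    have hkk : k * k = 1 := by
      have : MulAut.conj (k * k) = 1 := by rw [map_mul, ← hk, hφ2]
      refine Subtype.ext (hN.cent_trivial (k * k).2 (mem_centralizer_iff.2 fun x hx => ?_))
      have e := congrArg Subtype.val (DFunLike.congr_fun this ⟨x, hx⟩)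
      simp only [MulAut.conj_apply, MulAut.one_apply, Subgroup.coe_mul, InvMemClass.coe_inv] at e
      exact (mul_inv_eq_iff_eq_mul.1 e).symm
    obtain ⟨Y, hY, hact⟩ := h.exists_inverted
      (orderOf_eq_prime (by rw [pow_two, hkk]) hk1 : orderOf k = 2)
    exact hnot Y hY (hk ▸ hact)
  -- a line without a block
  by_cases hfix : ∃ Y : Subgroup ↥(X ⊔ cj z X), Nat.card Y = 11 ∧ mv (aut hzN) Y = Y
  · obtain ⟨Y, hY, hfix⟩ := hfix
    obtain ⟨-, -, -, -, hneg, -, -⟩ := h.fixed_pair hY hφ2 hφ1 hfix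
    exact hnot Y hY hneg
  obtain ⟨m, hm, hφm⟩ := h.free_inner hφ2 fun Y hY hfix' => hfix ⟨Y, hY, hfix'⟩
  set w : G := (m : G)⁻¹ * z with hw
  have hwN : w ∈ centralizer ((X ⊔ cj z X : Subgroup G) : Set G) := aut_eq_conj hzN hφm
  have hwX : w ∈ centralizer (X : Set G) := centralizer_le (SetLike.coe_subset_coe.2 le_sup_left) hwN
  have hmm : (m : G) * m = 1 := by
    rw [← Subgroup.coe_mul, ← pow_two, ← hm, pow_orderOf_eq_one, Subgroup.coe_one]
  have hmz : Commute z (m : G) := by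
    have e := congrArg Subtype.val (DFunLike.congr_fun hφm m)
    rw [aut_val] at e
    simp only [MulAut.conj_apply, mul_inv_cancel_right] at e
    exact mul_inv_eq_iff_eq_mul.1 e
  by_cases hw1 : w ≠ 1
  · have hwz : Commute z w := hmz.inv_right.mul_right (Commute.refl z)
    have hww : w ^ 2 = 1 := by
      rw [hw, hmz.symm.inv_left.mul_pow, pow_two, pow_two, hzz, mul_one, ← mul_inv_rev, hmm, inv_one]
    obtain ⟨k, hk, hc⟩ := hM.exists_split (hM.cj_of_commute hX hz1 hz hwz.symm)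
    obtain ⟨hk2, -⟩ := hM.split_pow hk hc hww
    by_cases hk1 : k = 1
    · rw [hk1, inv_one, one_mul] at hc
      exact hXM (hM.line_max hX hw1 hc hXD hwX)
    · obtain ⟨Y, hY, hYM, hneg⟩ := hM.exists_inverted hk (orderOf_eq_prime hk2 hk1)
      have hc' : Acts (MulAut.conj (k⁻¹ * w)) Y 1 :=
        acts_conj_iff.2 (centralizer_le (SetLike.coe_subset_coe.2 hYM) hc)
      have := hneg.mul (S.card Y hY) hc'
      rw [← map_mul, mul_inv_cancel_left, mul_one] at this
      exact absurd (acts_eq_one hXD hY hwX this) (by decide)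
  push Not at hw1
  have hzm : z = (m : G) := by rw [hw, inv_mul_eq_one] at hw1; exact hw1.symm
  -- involutions commuting with `z` centralise `M`
  have hinv : ∀ j : ↥(X ⊔ cj z X), orderOf j = 2 → Commute m j →
      (j : G) ∈ centralizer (M : Set G) := by
    intro j hj hmj
    have hjz : Commute (j : G) z := by
      show (j : G) * z = z * (j : G)
      exact ((congrArg ((j : G) * ·) hzm).trans (congrArg Subtype.val hmj.eq).symm).trans
        (congrArg (· * (j : G)) hzm).symm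
    obtain ⟨k, hk, hc⟩ := hM.exists_split (hM.cj_of_commute hX hz1 hz hjz)
    have hj2 : (j : G) ^ 2 = 1 := by
      rw [← orderOf_coe] at hj
      rw [← hj, pow_orderOf_eq_one]
    obtain ⟨hk2, -⟩ := hM.split_pow hk hc hj2
    by_cases hk1 : k = 1
    · rwa [hk1, inv_one, one_mul] at hc
    exfalso
    obtain ⟨Y, hY, hYM, hneg⟩ := hM.exists_inverted hk (orderOf_eq_prime hk2 hk1)
    have hc' : Acts (MulAut.conj (k⁻¹ * (j : G))) Y 1 :=
      acts_conj_iff.2 (centralizer_le (SetLike.coe_subset_coe.2 hYM) hc)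
    have hjY := hneg.mul (S.card Y hY) hc'
    rw [← map_mul, mul_inv_cancel_left, mul_one] at hjY
    obtain ⟨g, hg⟩ := h.isConj_invol hm hj
    have hjA : (j : G) ∈ centralizer ((cj (g : G) A : Subgroup G) : Set G) := by
      rw [← hg, mem_centralizer_iff]
      rintro _ ⟨a, ha, rfl⟩
      simp only [Subgroup.coe_mul, InvMemClass.coe_inv, ← hzm]
      show (g : G) * a * (g : G)⁻¹ * ((g : G) * z * (g : G)⁻¹) =
        (g : G) * z * (g : G)⁻¹ * ((g : G) * a * (g : G)⁻¹)
      calc _ = (g : G) * (a * z) * (g : G)⁻¹ := by group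
        _ = (g : G) * (z * a) * (g : G)⁻¹ := by rw [mem_centralizer_iff.1 hzA a ha]
        _ = _ := by group
    exact absurd (acts_eq_one (S.conj _ A hA) hY hjA hjY) (by decide)
  obtain ⟨j, g, hj, hjm, hmj, hgV, hgc⟩ := h.exists_four hm
  set V : Subgroup ↥(X ⊔ cj z X) := closure ({m, j} : Set _) with hV
  have hVC : V ≤ (centralizer (M : Set G)).comap (X ⊔ cj z X).subtype := (closure_le _).2 (by
    rintro x (rfl | rfl)
    · exact hinv _ hm (Commute.refl _)
    · exact hinv _ hj hmj)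
  have hgV' : cj g V = V := cj_eq_of_le (by
    rintro _ ⟨x, hx, rfl⟩
    exact hgV x hx)
  have hgm : g⁻¹ * m * g ∈ V := by
    have hmV : m ∈ cj g V := hgV'.symm ▸ subset_closure (Set.mem_insert _ _)
    exact mem_cj.1 hmV
  have hgM : cj (g : G) M = M := by
    obtain ⟨P, hP, Q, hQ, hPQ, rfl⟩ := hM.gen
    refine cj_eq_of_le ?_
    rw [cj_sup]
    have key : ∀ Y ∈ S.D, Y ≤ P ⊔ Q → cj (g : G) Y ≤ P ⊔ Q := fun Y hY hYM => by
      refine hM.line_max hX hz1 hz (S.conj _ Y hY) (mem_centralizer_iff.2 ?_)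
      rintro _ ⟨y, hy, rfl⟩
      have hc := mem_centralizer_iff.1 (hVC hgm) y (hYM hy)
      simp only [Subgroup.coe_subtype, Subgroup.coe_mul, InvMemClass.coe_inv, ← hzm] at hc
      show (g : G) * y * (g : G)⁻¹ * z = z * ((g : G) * y * (g : G)⁻¹)
      calc (g : G) * y * (g : G)⁻¹ * z = (g : G) * (y * ((g : G)⁻¹ * z * g)) * (g : G)⁻¹ := by group
        _ = (g : G) * ((g : G)⁻¹ * z * g * y) * (g : G)⁻¹ := by rw [hc]
        _ = _ := by group
    exact sup_le (key P hP le_sup_left) (key Q hQ le_sup_right)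
  set H : Subgroup ↥(X ⊔ cj z X) := (normalizer (M : Set G)).subgroupOf (X ⊔ cj z X) with hH
  have hgH : g ∈ H := cj_eq_self_iff.1 hgM
  have hCH : ∀ v ∈ V, v ≠ 1 → centralizer ({v} : Set ↥(X ⊔ cj z X)) ≤ H := fun v hv hv1 x hx =>
    cj_eq_self_iff.1 (hM.cj_of_commute hX (fun e => hv1 (Subtype.ext e)) (hVC hv)
      (congrArg Subtype.val (mem_centralizer_singleton_iff.1 hx)))
  have hm1 : m ≠ 1 := fun e => by rw [e, orderOf_one] at hm; norm_num at hm
  have hj1 : j ≠ 1 := fun e => by rw [e, orderOf_one] at hj; norm_num at hj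
  have hCm := hCH m (subset_closure (Set.mem_insert _ _)) hm1
  have hCj := hCH j (subset_closure (Set.mem_insert_of_mem _ rfl)) hj1
  have hbig : 12 < Nat.card H := by
    by_contra hle
    push Not at hle
    refine hgc ⟨?_, ?_⟩
    · have e := Subgroup.eq_of_le_of_card_ge hCm (by rw [h.card_centralizer_invol hm]; omega)
      exact mem_centralizer_singleton_iff.1 (e.symm ▸ hgH)
    · have e := Subgroup.eq_of_le_of_card_ge hCj (by rw [h.card_centralizer_invol hj]; omega)
      exact mem_centralizer_singleton_iff.1 (e.symm ▸ hgH)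
  have h11 : ¬ 11 ∣ Nat.card H := by
    intro hd
    obtain ⟨⟨y, hyH⟩, hy⟩ := exists_prime_orderOf_dvd_card' (G := H) 11 hd
    rw [orderOf_mk] at hy
    set Y' : Subgroup ↥(X ⊔ cj z X) := zpowers y with hY'
    have hY'c : Nat.card Y' = 11 := by rw [hY', Nat.card_zpowers, hy]
    set Y := Y'.map (X ⊔ cj z X).subtype with hYdef
    have hYc : Nat.card Y = 11 := by
      rw [hYdef, card_map_of_injective (X ⊔ cj z X).subtype_injective, hY'c]
    have hYD : Y ∈ S.D :=
      mem_D hXD le_sup_left (simple_pair hXD hX'D hne.symm).2.2 hYc (map_subtype_le Y')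
    have hyY : (y : G) ∈ Y := ⟨y, mem_zpowers y, rfl⟩
    have hy1 : (y : G) ≠ 1 := fun e => by
      rw [show y = 1 from Subtype.ext e, orderOf_one] at hy
      norm_num at hy
    have hy11 : (y : G) ^ 11 = 1 := by
      rw [← orderOf_coe] at hy
      rw [← hy, pow_orderOf_eq_one]
    obtain ⟨k, hk, hc⟩ := hM.exists_split (cj_eq_self_iff.2 hyH)
    obtain ⟨hk11, -⟩ := hM.split_pow hk hc hy11
    have hYM : Y ≤ M := by
      by_cases hk1 : k = 1
      · rw [hk1, inv_one, one_mul] at hc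
        rw [Sys.eq_of_fix hYD hA hyY hy1 (cj_eq_self_of_commute fun x hx =>
          ((mem_centralizer_iff.1 hc x (hAM hx))).symm)]
        exact hAM
      · have hX0 : Nat.card (zpowers k) = 11 := by
          rw [Nat.card_zpowers, orderOf_eq_prime hk11 hk1]
        have hX0M : zpowers k ≤ M := zpowers_le.2 hk
        rw [Sys.eq_of_fix hYD (hM.mem _ hX0 hX0M) hyY hy1 (cj_eq_self_of_commute fun x hx => by
          obtain ⟨i, rfl⟩ := hx
          have hck : Commute k (k⁻¹ * (y : G)) := mem_centralizer_iff.1 hc k hk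
          have := (Commute.refl k).mul_right hck
          rw [mul_inv_cancel_left] at this
          exact (this.zpow_left i).symm.eq)]
        exact hX0M
    have hmY : m ∈ centralizer (Y' : Set ↥(X ⊔ cj z X)) := by
      rw [mem_centralizer_iff]
      intro x hx
      refine Subtype.ext ?_
      rw [Subgroup.coe_mul, Subgroup.coe_mul, ← hzm]
      exact mem_centralizer_iff.1 hz x (hYM ⟨x, hx, rfl⟩)
    rw [h.centralizer_eq hY'c] at hmY
    have := Subgroup.orderOf_dvd_natCard _ hmY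
    rw [hm, hY'c] at this
    norm_num at this
  have hH60 : Nat.card H = 60 := by
    have h12 : 12 ∣ Nat.card H := h.card_centralizer_invol hm ▸ card_dvd_of_le hCm
    have h660 : Nat.card H ∣ 660 := h.card ▸ Subgroup.card_subgroup_dvd_card H
    have key : ∀ n ∈ Nat.divisors 660, 12 < n → 12 ∣ n → ¬ 11 ∣ n → n = 60 := by decide +kernel
    exact key _ (Nat.mem_divisors.2 ⟨h660, by norm_num⟩) hbig h12 h11
  have hsimp := h.simple_sixty hH60
  let K₁ : Subgroup H := (centralizer (M : Set G)).comap ((X ⊔ cj z X).subtype.comp H.subtype)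
  have hK₁ : K₁.Normal := ⟨fun x hx y => by
    have hyN : ((y : ↥(X ⊔ cj z X)) : G) ∈ normalizer (M : Set G) := y.2
    show _ ∈ centralizer (M : Set G)
    simp only [MonoidHom.coe_comp, Function.comp_apply, Subgroup.coe_subtype, Subgroup.coe_mul,
      InvMemClass.coe_inv]
    rw [mem_centralizer_iff]
    intro a ha
    have ha' : ((y : ↥(X ⊔ cj z X)) : G)⁻¹ * a * ((y : ↥(X ⊔ cj z X)) : G) ∈ M :=
      (mem_normalizer_iff''.1 hyN a).1 ha
    have hc := mem_centralizer_iff.1 (show ((x : ↥(X ⊔ cj z X)) : G) ∈ centralizer (M : Set G) from hx)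
      _ ha'
    generalize ((y : ↥(X ⊔ cj z X)) : G) = Y at hc ⊢
    generalize ((x : ↥(X ⊔ cj z X)) : G) = Z at hc ⊢
    calc a * (Y * Z * Y⁻¹) = Y * (Y⁻¹ * a * Y * Z) * Y⁻¹ := by group
      _ = Y * (Z * (Y⁻¹ * a * Y)) * Y⁻¹ := by rw [hc]
      _ = Y * Z * Y⁻¹ * a := by group⟩
  have hmH : m ∈ H := hCm (mem_centralizer_singleton_iff.2 rfl)
  have hK₁top : K₁ = ⊤ := by
    refine hK₁.eq_bot_or_eq_top.resolve_left fun e => hm1 ?_
    have : (⟨m, hmH⟩ : H) ∈ K₁ := hinv m hm (Commute.refl _)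
    rw [e, mem_bot] at this
    exact congrArg Subtype.val this
  have : Fact (Nat.Prime 5) := ⟨by norm_num⟩
  obtain ⟨⟨u, huH⟩, hu⟩ := exists_prime_orderOf_dvd_card' (G := H) 5 (by rw [hH60]; norm_num)
  rw [orderOf_mk] at hu
  obtain ⟨P, Q, hP, hQ, hPQ, huP, huQ⟩ := h.five_fix hu
  obtain ⟨c, -, hc⟩ := exists_acts (φ := MulAut.conj u) hP huP
  have hc1 : c ≠ 1 := fun e => by
    have := h.conj_eq_one (h.sign hP hQ hPQ (e ▸ hc) huQ)
    rw [this, orderOf_one] at hu
    norm_num at hu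
  have huM : (u : G) ∈ centralizer (M : Set G) :=
    (show (⟨u, huH⟩ : H) ∈ K₁ from hK₁top ▸ mem_top _)
  have hle : P.map (X ⊔ cj z X).subtype ≤ X ⊔ cj z X := map_subtype_le P
  have hPD : P.map (X ⊔ cj z X).subtype ∈ S.D :=
    mem_D hXD le_sup_left (simple_pair hXD hX'D hne.symm).2.2
      (by rw [card_map_of_injective (X ⊔ cj z X).subtype_injective, hP]) hle
  exact hc1 (acts_eq_one hA hPD (centralizer_le (SetLike.coe_subset_coe.2 hAM) huM)
    ((conj_acts_iff hle u).1 (by rwa [map_subgroupOf])))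

/-- An involution normalising a block lies in it. -/
theorem invol_mem (hX : S.Ctx) {z : G} (hz : orderOf z = 2) (hzM : cj z M = M) : z ∈ M := by
  obtain ⟨m, hm, hc⟩ := hM.exists_split hzM
  obtain ⟨-, hc2⟩ := hM.split_pow hm hc (n := 2) (by rw [← hz, pow_orderOf_eq_one])
  by_cases h1 : m⁻¹ * z = 1
  · rw [inv_mul_eq_one] at h1
    exact h1 ▸ hm
  · exact absurd (orderOf_eq_prime hc2 h1) (hM.odd_cent hX hc)

end Blk

end Sys

end Cfsg.Agent.Lib.OrdElevenPairs
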