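import Cfsg.Agent.S1534
import Cfsg.Agent.Lib.Zassenhaus.CoherentChars
import Cfsg.Agent.Lib.Characters.Kernel

/-!
# No perfect group with a CC subgroup of index five and this number of conjugates
-/

set_option autoImplicit false

namespace Cfsg.Agent.Lib.OrdElevenPairs.CC

open Cfsg Cfsg.Agent.Lib.Characters.Basic Cfsg.Agent.Lib.Isometry
open scoped ComplexConjugate

universe u

variable {G : Type u} [Group G] [Finite G]

/-- A normal subgroup containing the TI subgroup is the whole group. -/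
theorem eq_top_of_le {Y H : Subgroup G} [H.Normal] (hperf : commutator G = ⊤)
    (hTI : Cfsg.IsTISubset (Y : Set G)) (hidx : Y.relIndex (Subgroup.normalizer (Y : Set G)) = 5)
    (hbig : 291 ≤ Nat.card Y) (hle : Y ≤ H) : H = ⊤ := by
  classical
  set N := Subgroup.normalizer (Y : Set G) with hN
  -- the conjugates of the nonidentity elements
  let f : (G ⧸ N) × {y : Y // y ≠ 1} → {x : H // x ≠ 1} := fun p =>
    ⟨⟨p.1.out * (p.2.1 : G) * p.1.out⁻¹,
      Subgroup.Normal.conj_mem inferInstance _ (hle p.2.1.2) _⟩, fun e => p.2.2 (Subtype.ext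
        (conj_eq_one_iff.1 (congrArg Subtype.val e)))⟩
  have hinj : Function.Injective f := by
    rintro ⟨p, ⟨y, hy⟩⟩ ⟨q, ⟨z, hz⟩⟩ h
    have e : p.out * (y : G) * p.out⁻¹ = q.out * (z : G) * q.out⁻¹ :=
      congrArg (fun x : {x : H // x ≠ 1} => ((x : H) : G)) h
    have hpq : p = q := by
      by_contra hne
      refine hy (Subtype.ext (hTI (q.out⁻¹ * p.out) (fun hm => hne ?_) y y.2 ?_))
      · rw [← Quotient.out_eq p, ← Quotient.out_eq q]
        exact (QuotientGroup.eq.2 hm).symm
      · rw [show q.out⁻¹ * p.out * (y : G) * (q.out⁻¹ * p.out)⁻¹ =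
          q.out⁻¹ * (p.out * (y : G) * p.out⁻¹) * q.out by group, e,
          show q.out⁻¹ * (q.out * (z : G) * q.out⁻¹) * q.out = (z : G) by group]
        exact z.2
    subst hpq
    obtain rfl : y = z := Subtype.ext (mul_left_cancel (mul_right_cancel e))
    rfl
  have hlt := Nat.card_le_card_of_injective f hinj
  rw [Nat.card_prod, ← Subgroup.index_eq_card] at hlt
  have := Fintype.ofFinite H
  have := Fintype.ofFinite Y
  rw [Nat.card_eq_fintype_card (α := {x : H // x ≠ 1}), Fintype.card_subtype_compl,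
    Nat.card_eq_fintype_card (α := {y : Y // y ≠ 1}), Fintype.card_subtype_compl,
    Fintype.card_subtype_eq, Fintype.card_subtype_eq, ← Nat.card_eq_fintype_card,
    ← Nat.card_eq_fintype_card] at hlt
  have hG : Nat.card G = 5 * Nat.card Y * N.index := by
    rw [← hidx, mul_comm (Y.relIndex N), mul_assoc, Subgroup.relIndex_mul_index Subgroup.le_normalizer,
      Subgroup.card_mul_index]
  have hmul := H.card_mul_index
  have h6 : H.index ≤ 5 := by
    by_contra hn
    push Not at hn
    have hH : 0 < Nat.card H := Nat.card_pos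
    have hNi : 0 < N.index := Nat.pos_of_ne_zero Subgroup.index_ne_zero_of_finite
    obtain ⟨r, hr⟩ : ∃ r, Nat.card Y = r + 1 := ⟨Nat.card Y - 1, by omega⟩
    rw [hr] at hlt hG hbig
    simp only [add_tsub_cancel_right] at hlt
    have h1 : Nat.card H * 6 ≤ Nat.card H * H.index := Nat.mul_le_mul_left _ hn
    rw [hmul, hG] at h1
    have h2 : N.index * r + 1 ≤ Nat.card H := by omega
    nlinarith
  -- the quotient is perfect and abelian
  have hcard : Nat.card (G ⧸ H) = H.index := rfl
  have hpos : 0 < H.index := Nat.pos_of_ne_zero Subgroup.index_ne_zero_of_finite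
  have hcomm : ∀ a b : G ⧸ H, a * b = b * a := by
    rcases (by omega : H.index = 1 ∨ H.index = 2 ∨ H.index = 3 ∨ H.index = 4 ∨ H.index = 5) with
      h | h | h | h | h
    · have := (Nat.card_eq_one_iff_unique.1 (hcard.trans h)).1
      exact fun a b => Subsingleton.elim _ _
    · have := Fact.mk Nat.prime_two
      exact fun a b => (@isCyclic_of_prime_card _ _ 2 _ (hcard.trans h)).commGroup.mul_comm a b
    · have := Fact.mk Nat.prime_three
      exact fun a b => (@isCyclic_of_prime_card _ _ 3 _ (hcard.trans h)).commGroup.mul_comm a b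
    · have := Fact.mk Nat.prime_two
      exact (IsPGroup.isMulCommutative_of_card_eq_prime_sq (p := 2) (hcard.trans h)).is_comm.comm
    · have := Fact.mk (by norm_num : Nat.Prime 5)
      exact fun a b => (@isCyclic_of_prime_card _ _ 5 _ (hcard.trans h)).commGroup.mul_comm a b
  rw [← top_le_iff, ← hperf, commutator_def, Subgroup.commutator_le]
  intro a _ b _
  rw [← QuotientGroup.eq_one_iff, ← QuotientGroup.mk'_apply, map_commutatorElement]
  exact commutatorElement_eq_one_iff_mul_comm.2 (hcomm _ _)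

set_option maxHeartbeats 2000000 in
/-- There is no perfect group with a nilpotent CC subgroup of odd order `r ≥ 291` and index five
in its normaliser, which has index `1 + 11 r`. -/
theorem no_cc (Y : Subgroup G) (hperf : commutator G = ⊤) (hnil : Group.IsNilpotent Y)
    (hTI : Cfsg.IsTISubset (Y : Set G))
    (hC : ∀ k ∈ Y, k ≠ 1 → Subgroup.centralizer ({k} : Set G) ≤ Y)
    (hidx : Y.relIndex (Subgroup.normalizer (Y : Set G)) = 5) (hodd : ¬ 2 ∣ Nat.card Y)
    (hbig : 291 ≤ Nat.card Y)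
    (hG : (Subgroup.normalizer (Y : Set G)).index = 1 + 11 * Nat.card Y) : False := by
  classical
  have := Fintype.ofFinite G
  set N := Subgroup.normalizer (Y : Set G) with hN
  have := Fintype.ofFinite N
  have := Fintype.ofFinite (Cfsg.IrrCharacter G)
  set KN := Y.subgroupOf N with hKN
  have : KN.Normal := Subgroup.normal_in_normalizer
  have := Fintype.ofFinite KN
  set r := Nat.card Y with hr
  have hcK : Nat.card KN = r := NormalizerBridge.card_eq Y
  have hidx' : KN.index = 5 := hidx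
  have hY1 : Y ≠ ⊥ := fun e => by rw [hr, e, Subgroup.card_bot] at hbig; omega
  have hlt : Y < N := lt_of_le_of_ne Subgroup.le_normalizer fun e => by
    rw [← e, Subgroup.relIndex_self] at hidx
    omega
  have hTI' : ∀ g : G, g ∉ N → ∀ k ∈ Y, g * k * g⁻¹ ∈ Y → k = 1 := hTI
  have hC' := NormalizerBridge.centralizer_le Y hC
  have hr0 : (r : ℂ) ≠ 0 := Nat.cast_ne_zero.2 (by omega)
  -- coherence
  obtain ⟨⟨α₀, hα₀, hα₀0⟩, hco⟩ : Cfsg.IsCoherent (Zassenhaus.CoherentChars.relSet Y)
      ({1}ᶜ : Set N) (fun α => Cfsg.indFun N α) := by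
    rcases Cfsg.Agent.S1534.result Y hY1 hnil hTI hlt hC with ⟨-, hc, -⟩ | ⟨h2, -⟩ | h
    · rw [hidx'] at hc
      omega
    · exfalso
      rcases Nat.eq_zero_or_pos ((Nat.card G).factorization 2) with h0 | h0
      · rw [h0, pow_zero] at h2
        omega
      · exact hodd (hr ▸ h2 ▸ dvd_pow_self 2 h0.ne')
    · exact h
  have hlay : Zassenhaus.CoherentChars.relSet Y = (↑(Inflate.layer KN ⊥) : Set (N → ℂ)) :=
    NormalizerBridge.setOf_eq_layer Y
  -- a member of degree five
  obtain ⟨ζ, hζ, hζ5⟩ : ∃ ζ ∈ Inflate.layer KN ⊥, ζ (1 : N) = 5 := by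
    set D := ⁅KN, KN⁆ with hD
    have : D.Normal := Subgroup.commutator_normal KN KN
    have : Group.IsNilpotent KN :=
      Group.nilpotent_of_mulEquiv (Subgroup.subgroupOfEquivOfLe Subgroup.le_normalizer).symm
    have : Nontrivial KN := (Subgroup.nontrivial_iff_ne_bot _).2 (NormalizerBridge.ne_bot Y hY1)
    have hlt' : D < KN := lt_of_le_of_ne (Subgroup.commutator_le_left KN KN) fun h => by
      have h1 := Group.IsSolvable.commutator_lt_top_of_nontrivial KN
      refine h1.ne (Subgroup.map_injective KN.subtype_injective ?_)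
      rw [map_commutator_eq, Subgroup.range_subtype, ← MonoidHom.range_eq_map,
        Subgroup.range_subtype]
      exact h
    obtain ⟨ζ, hζ⟩ := Inflate.layer_nonempty hlt'
    have hζ' : ζ ∈ Inflate.layer KN ⊥ := Layers.layer_subset le_rfl hζ
    refine ⟨ζ, hζ', ?_⟩
    have h2 := Layers.mdeg_sq_le hC' hlt'.le le_rfl le_rfl hζ
    rw [Subgroup.relIndex_self] at h2
    have h3 := Layers.mdeg_spec hC' hζ'
    have h4 : Layers.mdeg KN ζ = 1 := by
      have := h3.2.1
      nlinarith
    rw [h3.1, h4, hidx']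
    norm_num
  have hζrel : ζ ∈ Zassenhaus.CoherentChars.relSet Y := by rw [hlay]; exact hζ
  obtain ⟨ξ, hξ, hξne⟩ : ∃ ξ ∈ Zassenhaus.CoherentChars.relSet Y, ξ ≠ ζ := by
    by_contra! hall
    refine hα₀0 ?_
    have hmem : α₀ ∈ Submodule.span ℤ ({ζ} : Set (N → ℂ)) :=
      Submodule.span_mono (fun x hx => hall x hx) hα₀.1
    obtain ⟨z, rfl⟩ := Submodule.mem_span_singleton.1 hmem
    have h1 := hα₀.2 1 (by simp)
    rw [Pi.smul_apply, hζ5, zsmul_eq_mul, mul_eq_zero] at h1
    rcases h1 with h1 | h1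
    · rw [Int.cast_eq_zero] at h1
      rw [h1, zero_smul]
    · norm_num at h1
  obtain ⟨E⟩ := Zassenhaus.CoherentChars.exists_exc Y hTI' hlt hC
    ⟨ξ, hξ, ζ, hζrel, hξne⟩ ⟨⟨α₀, hα₀, hα₀0⟩, hco⟩
  have := Fintype.ofFinite (Zassenhaus.AbelianChars.RelChar Y)
  set r₀ : Zassenhaus.AbelianChars.RelChar Y := ⟨⟨ζ, hζrel.1⟩, hζrel.2⟩ with hr₀
  have hw : E.w r₀ = 1 := by
    have h := E.deg r₀
    rw [show (r₀.1 : N → ℂ) 1 = 5 from hζ5, show ((Y.subgroupOf N).index : ℂ) = 5 by
      rw [← hKN, hidx']; norm_num] at h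
    exact mul_left_cancel₀ (show (5 : ℂ) ≠ 0 by norm_num) (by rw [mul_one]; exact h.symm)
  -- an element of the kernel
  obtain ⟨u, hu, hu1⟩ : ∃ u : N, (u : G) ∈ Y ∧ u ≠ 1 := by
    obtain ⟨y, hy, hy1⟩ := (Subgroup.bot_or_exists_ne_one Y).resolve_left hY1
    exact ⟨⟨y, Subgroup.le_normalizer hy⟩, hy, fun e => hy1 (congrArg Subtype.val e)⟩
  have huG : (u : G) ≠ 1 := fun e => hu1 (Subtype.ext e)
  -- sums over the kernel
  have hint : ∀ χ : Cfsg.IrrCharacter G, ∃ n : ℤ, ∑ k : KN, (χ : G → ℂ) ((k : N) : G) = (r : ℂ) * n := by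
    intro χ
    obtain ⟨n, hn⟩ := exists_classInner_nat
      (isCharacter_comp KN.subtype (isCharacter_comp N.subtype (isCharacter_irr χ)))
      (isCharacter_one (G := KN))
    refine ⟨n, ?_⟩
    rw [Int.cast_natCast, ← hn, Cfsg.classInner, hcK, ← mul_assoc, mul_inv_cancel₀ hr0, one_mul]
    simp
  have hsum : ∀ F : N → ℂ, ∑ k : KN, F k = F 1 + ∑ k ∈ Finset.univ.erase (1 : KN), F k := fun F =>
    (Finset.add_sum_erase _ (fun k : KN => F k) (Finset.mem_univ 1)).symm
  have hne1 : ∀ {k : KN}, k ∈ Finset.univ.erase (1 : KN) → (k : N) ≠ 1 := fun hk e =>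
    Finset.ne_of_mem_erase hk (Subtype.ext e)
  have hcard1 : ((Finset.univ.erase (1 : KN)).card : ℂ) = (r : ℂ) - 1 := by
    rw [Finset.card_erase_of_mem (Finset.mem_univ _), Finset.card_univ, ← Nat.card_eq_fintype_card,
      hcK, Nat.cast_sub (by omega), Nat.cast_one]
  have hζsum : ∑ k : KN, ζ k = 0 :=
    Clifford.KernelChars.sum_kernel KN ⟨ζ, hζrel.1⟩ hζrel.2
  obtain ⟨D, hDpos, hD⟩ := exists_degree_pos (E.f r₀)
  have hx : E.x = (D : ℂ) := by rw [← hD, E.degf r₀, hw, mul_one]
  obtain ⟨e, he, hεe⟩ : ∃ e : ℤ, (e = 1 ∨ e = -1) ∧ E.ε = e := by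
    rcases E.hε with h | h
    · exact ⟨1, Or.inl rfl, by rw [h]; norm_num⟩
    · exact ⟨-1, Or.inr rfl, by rw [h]; norm_num⟩
  obtain ⟨n₀, hn₀⟩ := hint (E.f r₀)
  have hrel : ((r : ℂ) - 1) * E.c = (((r : ℤ) * n₀ - D + 5 * e : ℤ) : ℂ) := by
    rw [hsum (fun k : N => (E.f r₀ : G → ℂ) k), Finset.sum_congr rfl (g := fun k : KN =>
      E.ε * ζ k + E.c) (fun k hk => by
        rw [E.val r₀ k k.2 (hne1 hk), hw, mul_one]), Finset.sum_add_distrib, ← Finset.mul_sum,
      Finset.sum_const, nsmul_eq_mul, hcard1] at hn₀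
    rw [hsum (fun k : N => ζ k), hζ5] at hζsum
    rw [OneMemClass.coe_one, hD] at hn₀
    push_cast
    rw [← hεe]
    linear_combination hn₀ - E.ε * hζsum
  have hcint : IsIntegral ℤ E.c := by
    have h := E.val r₀ u hu hu1
    rw [hw, mul_one] at h
    have h' : E.c = (E.f r₀ : G → ℂ) u - E.ε * ζ u := by linear_combination -h
    rw [h']
    refine (isIntegral_apply (isCharacter_irr _) _).sub (IsIntegral.mul ?_ ?_)
    · rw [hεe]; exact isIntegral_algebraMap
    · exact isIntegral_apply (isCharacter_irr ⟨ζ, hζrel.1⟩) u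
  obtain ⟨c, hc⟩ := Zassenhaus.AbelianChars.exists_int_of_mul_eq hcint (d := (r : ℤ) - 1) (by omega)
    (m := (r : ℤ) * n₀ - D + 5 * e) (by push_cast at hrel ⊢; exact hrel)
  -- the column
  have hexc := Zassenhaus.CoherentChars.exc_column Y hTI' hlt hC E (g := u) hu hu1
  rw [show ((Y.subgroupOf (Zassenhaus.AbelianChars.nrm Y)).index : ℝ) = 5 by
    rw [← hKN, hidx']; norm_num, ← hr, hεe, hc, ← Int.cast_mul, Complex.intCast_re,
    Complex.normSq_intCast] at hexc
  set Im := Finset.univ.image E.f with hIm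
  have hsplit : ∀ F : Cfsg.IrrCharacter G → ℝ, ∑ χ, F χ =
      ∑ r, F (E.f r) + ∑ χ ∈ Finset.univ \ Im, F χ := fun F => by
    rw [← Finset.sum_sdiff (Finset.subset_univ Im), add_comm]
    congr 1
    exact Finset.sum_image fun a _ b _ h => E.inj h
  have hcol : (Nat.card (Subgroup.centralizer ({(u : G)} : Set G)) : ℝ) =
      ∑ r, Complex.normSq ((E.f r : G → ℂ) u) +
        ∑ χ ∈ Finset.univ \ Im, Complex.normSq ((χ : G → ℂ) u) := by
    rw [← hsplit fun χ => Complex.normSq ((χ : G → ℂ) u)]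
    exact (Zassenhaus.CoherentChars.column_eq Y hTI' hlt hC).symm
  have hone : oneChar G ∈ Finset.univ \ Im := by
    refine Finset.mem_sdiff.2 ⟨Finset.mem_univ _, fun hmem => ?_⟩
    obtain ⟨t, -, ht⟩ := Finset.mem_image.1 hmem
    obtain ⟨ν, hν, hνne⟩ : ∃ ν : Cfsg.IrrCharacter N, Clifford.KernelChars.Rel KN (ν : N → ℂ) ∧
        t.1 ≠ ν := by
      by_cases h : t.1 = (⟨ζ, hζrel.1⟩ : Cfsg.IrrCharacter N)
      · exact ⟨⟨ξ, hξ.1⟩, hξ.2, fun e => hξne (congrArg Subtype.val (e.symm.trans h))⟩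
      · exact ⟨⟨ζ, hζrel.1⟩, hζrel.2, h⟩
    refine Clifford.KernelChars.not_const KN (Clifford.TICoherent.self_centralizing Y hC) t.1 ν t.2
      hν hνne (E.ε * (1 - E.c * E.w t)) fun k hk hk1 => ?_
    have h := E.val t k hk hk1
    rw [ht, oneChar_apply] at h
    rcases E.hε with he' | he' <;> rw [he'] at h ⊢
    · linear_combination -h
    · linear_combination h
  have hothers : 1 ≤ ∑ χ ∈ Finset.univ \ Im, Complex.normSq ((χ : G → ℂ) u) := by
    refine le_trans (le_of_eq ?_) (Finset.single_le_sum (fun χ _ => Complex.normSq_nonneg _) hone)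
    rw [oneChar_apply, map_one]
  have hc0 : c = 0 := by
    by_contra hne
    have hec : (e * c) * (e * c) = c * c := by rcases he with h | h <;> rw [h] <;> ring
    have h0 : (1 : ℝ) ≤ ((e * c) * (e * c) : ℤ) := by
      rw [hec]
      exact_mod_cast mul_self_pos.2 hne
    push_cast at h0 hexc
    have hr' : (291 : ℝ) ≤ r := by exact_mod_cast hbig
    nlinarith [sq_nonneg ((e : ℝ) * c - 1), mul_le_mul_of_nonneg_right hr'
      (mul_self_nonneg ((e : ℝ) * c))]
  subst hc0
  rw [Int.cast_zero] at hc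
  rw [mul_zero, Int.cast_zero] at hexc
  have hfive : ∑ χ ∈ Finset.univ \ Im, Complex.normSq ((χ : G → ℂ) u) = 5 := by linarith
  -- the degree
  have hsq : ∑ r, Complex.normSq (E.w r) = ((r : ℝ) - 1) / 5 := by
    obtain ⟨-, -, h3⟩ := Zassenhaus.CoherentChars.rel_columns Y hTI' hlt hC E (g := u) hu hu1
    rw [show ((Y.subgroupOf (Zassenhaus.AbelianChars.nrm Y)).index : ℂ) = 5 by
      rw [← hKN, hidx']; norm_num, ← hr] at h3
    rw [eq_div_iff (by norm_num : (5 : ℝ) ≠ 0)]
    apply Complex.ofReal_injective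
    push_cast
    rw [← h3, mul_comm]
    congr 1
    exact Finset.sum_congr rfl fun t _ => by rw [← Complex.mul_conj, E.wconj t]
  have hdeg : (D : ℝ) ^ 2 * (((r : ℝ) - 1) / 5) ≤ Nat.card G := by
    have h := Zassenhaus.CoherentChars.column_eq Y hTI' hlt hC (g := (1 : G))
    have htop : Subgroup.centralizer ({(1 : G)} : Set G) = ⊤ :=
      eq_top_iff.2 fun x _ => Subgroup.mem_centralizer_singleton_iff.2 (by simp)
    rw [htop, Subgroup.card_top, hsplit] at h
    have h2 : ∑ r, Complex.normSq ((E.f r : G → ℂ) 1) = (D : ℝ) ^ 2 * (((r : ℝ) - 1) / 5) := by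
      rw [← hsq, Finset.mul_sum]
      refine Finset.sum_congr rfl fun t _ => ?_
      rw [E.degf t, map_mul, hx, Complex.normSq_natCast, pow_two]
    rw [← h, ← h2]
    exact le_add_of_nonneg_right (Finset.sum_nonneg fun χ _ => Complex.normSq_nonneg _)
  have hcardG : Nat.card G = 5 * r * (1 + 11 * r) := by
    rw [← hG, ← hidx, hr, mul_comm (Y.relIndex N), mul_assoc,
      Subgroup.relIndex_mul_index Subgroup.le_normalizer, Subgroup.card_mul_index]
  rw [hc, mul_zero] at hrel
  have hDeq : (D : ℤ) = r * n₀ + 5 * e := by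
    have : (((r : ℤ) * n₀ - D + 5 * e : ℤ) : ℂ) = ((0 : ℤ) : ℂ) := by rw [← hrel, Int.cast_zero]
    have := Int.cast_injective this
    linarith
  have hn0 : n₀ = 0 := by
    by_contra hne
    have hge : (r : ℤ) - 5 ≤ D := by
      rcases lt_or_gt_of_ne hne with h | h
      · have : (r : ℤ) * n₀ ≤ -(r : ℤ) := by nlinarith
        rcases he with h' | h' <;> omega
      · have : (r : ℤ) ≤ r * n₀ := by nlinarith
        rcases he with h' | h' <;> omega
    have hge' : (r : ℝ) - 5 ≤ D := by exact_mod_cast hge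
    have hr' : (291 : ℝ) ≤ r := by exact_mod_cast hbig
    rw [hcardG] at hdeg
    push_cast at hdeg
    have hD2 : ((r : ℝ) - 5) ^ 2 ≤ (D : ℝ) ^ 2 := pow_le_pow_left₀ (by linarith) hge' 2
    have h3 := mul_le_mul_of_nonneg_right hD2 (show (0 : ℝ) ≤ ((r : ℝ) - 1) / 5 by linarith)
    have h4 : 0 ≤ ((r : ℝ) - 291) * ((r : ℝ) - 291) * (r : ℝ) := by positivity
    nlinarith [mul_nonneg (show (0 : ℝ) ≤ (r : ℝ) - 291 by linarith) (show (0 : ℝ) ≤ r by linarith)]
  rw [hn0, mul_zero, zero_add] at hDeq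
  obtain rfl : e = 1 := by
    rcases he with h | h
    · exact h
    · rw [h] at hDeq; omega
  have hD5 : D = 5 := by omega
  -- the product with its conjugate
  set χ : G → ℂ := (E.f r₀ : G → ℂ) with hχ
  have hχc : Cfsg.IsCharacter G χ := isCharacter_irr _
  have hval : ∀ k : KN, χ ((k : N) : G) = ζ k := by
    intro k
    by_cases hk : (k : N) = 1
    · rw [hk, OneMemClass.coe_one, hD, hD5, hζ5]
      norm_num
    · rw [hχ, E.val r₀ k k.2 hk, hεe, hc]
      simp [r₀]
  set P : G → ℂ := fun g => χ g * conj (χ g) with hP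
  have hPc : Cfsg.IsCharacter G P := isCharacter_mul hχc (isCharacter_conj hχc)
  choose k hk using fun ψ : Cfsg.IrrCharacter G => exists_classInner_nat hPc (isCharacter_irr ψ)
  choose d hdpos hd using fun ψ : Cfsg.IrrCharacter G => exists_degree_pos ψ
  have hPexp : ∀ g, P g = ∑ ψ, (k ψ : ℂ) * (ψ : G → ℂ) g := by
    intro g
    have h := congrFun (Characters.Complete.classFunction_eq_sum (isClassFunction_of_isCharacter hPc)) g
    rw [h, Finset.sum_apply]
    exact Finset.sum_congr rfl fun ψ _ => by rw [Pi.smul_apply, smul_eq_mul, hk]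
  have h25 : ∑ ψ, k ψ * d ψ = 25 := by
    have h := hPexp 1
    simp only [hP, hd] at h
    rw [show χ 1 = (5 : ℂ) by rw [hD, hD5]; norm_num] at h
    have h' : ((∑ ψ, k ψ * d ψ : ℕ) : ℂ) = ((25 : ℕ) : ℂ) := by
      push_cast
      rw [← h]
      simp [map_ofNat]
      norm_num
    exact_mod_cast h'
  have hk1 : k (oneChar G) = 1 := by
    have h := hk (oneChar G)
    rw [show Cfsg.classInner P (oneChar G : G → ℂ) = Cfsg.classInner χ χ by
      simp [Cfsg.classInner, hP, oneChar_apply], hχ, classInner_self_irr] at h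
    exact_mod_cast h.symm
  have hconst : ∀ ψ : Cfsg.IrrCharacter G, k ψ ≠ 0 → ψ ≠ oneChar G →
      ∑ x : KN, (ψ : G → ℂ) ((x : N) : G) = 0 := by
    intro ψ hψ hψ1
    by_cases hmem : ∃ t, E.f t = ψ
    · obtain ⟨t, rfl⟩ := hmem
      rw [hsum (fun x : N => (E.f t : G → ℂ) x), OneMemClass.coe_one, E.degf t, hx, hD5,
        Finset.sum_congr rfl (g := fun x : KN => E.ε * (t.1 : N → ℂ) x) (fun x hx => by
          rw [E.val t x x.2 (hne1 hx), hc, zero_mul, add_zero]), ← Finset.mul_sum, hεe]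
      have h := Clifford.KernelChars.sum_kernel KN t.1 t.2
      rw [hsum (fun x : N => (t.1 : N → ℂ) x), E.deg t] at h
      rw [show ((Y.subgroupOf (Zassenhaus.AbelianChars.nrm Y)).index : ℂ) = 5 by
        rw [← hKN, hidx']; norm_num] at h
      push_cast
      linear_combination h
    · exfalso
      push Not at hmem
      set a : ℂ := (ψ : G → ℂ) u with ha
      have hψY : ∀ x : KN, (x : N) ≠ 1 → (ψ : G → ℂ) ((x : N) : G) = a := fun x hx =>
        E.other ψ hmem _ x.2 _ hu (fun e => hx (Subtype.ext e)) huG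
      obtain ⟨n, hn⟩ := hint ψ
      rw [hsum (fun x : N => (ψ : G → ℂ) x), OneMemClass.coe_one, hd ψ,
        Finset.sum_congr rfl (fun x hx => hψY x (hne1 hx)), Finset.sum_const, nsmul_eq_mul,
        hcard1] at hn
      obtain ⟨a', ha'⟩ := Zassenhaus.AbelianChars.exists_int_of_mul_eq
        (isIntegral_apply (isCharacter_irr ψ) (u : G)) (d := (r : ℤ) - 1) (by omega)
        (m := (r : ℤ) * n - d ψ) (by push_cast; rw [← ha]; linear_combination hn)
      rw [← ha] at ha'
      have hsmall : (a' : ℝ) ^ 2 ≤ 5 := by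
        rw [← hfive]
        refine le_trans (le_of_eq ?_) (Finset.single_le_sum (fun χ _ => Complex.normSq_nonneg _)
          (Finset.mem_sdiff.2 ⟨Finset.mem_univ ψ, fun h => by
            obtain ⟨t, -, ht⟩ := Finset.mem_image.1 h
            exact hmem t ht⟩))
        rw [← ha, ha', Complex.normSq_intCast, pow_two]
      have hsmall' : a' ^ 2 ≤ 5 := by exact_mod_cast hsmall
      have hd25 : d ψ ≤ 25 := by
        have : k ψ * d ψ ≤ 25 := h25 ▸ Finset.single_le_sum (fun φ _ => Nat.zero_le (k φ * d φ))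
          (Finset.mem_univ ψ)
        exact le_trans (Nat.le_mul_of_pos_left _ (Nat.pos_of_ne_zero hψ)) this
      have heq : (d ψ : ℤ) + ((r : ℤ) - 1) * a' = r * n := by
        have : (((d ψ : ℤ) + ((r : ℤ) - 1) * a' : ℤ) : ℂ) = (((r : ℤ) * n : ℤ) : ℂ) := by
          push_cast
          rw [← ha']
          exact hn
        exact Int.cast_injective this
      have hb : -2 ≤ a' ∧ a' ≤ 2 := by constructor <;> nlinarith
      have hda : (d ψ : ℤ) = a' := by
        have h1 : (d ψ : ℤ) - a' = r * (n - a') := by linarith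
        rcases lt_trichotomy (n - a') 0 with h | h | h
        · exfalso
          have : (r : ℤ) * (n - a') ≤ -(r : ℤ) := by nlinarith
          omega
        · rw [h, mul_zero] at h1
          linarith
        · exfalso
          have : (r : ℤ) ≤ r * (n - a') := by nlinarith
          omega
      have hker : Y ≤ Characters.Kernel.charKer (isCharacter_irr ψ) := by
        intro y hy
        rw [Characters.Kernel.mem_charKer, hd]
        by_cases hy1 : y = 1
        · rw [hy1, hd]
        · rw [show (y : G) = (((⟨⟨y, Subgroup.le_normalizer hy⟩, hy⟩ : KN) : N) : G) from rfl,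
            hψY _ (fun e => hy1 (congrArg Subtype.val e)), ha', ← Int.cast_natCast, hda]
      have := Characters.Kernel.charKer_normal (isCharacter_irr ψ)
      have htop := eq_top_of_le hperf hTI hidx hbig hker
      have hψc : ∀ g, (ψ : G → ℂ) g = (d ψ : ℂ) := fun g => by
        rw [(Characters.Kernel.mem_charKer (isCharacter_irr ψ) g).1 (htop ▸ Subgroup.mem_top g), hd]
      have h1 := classInner_irr_of_ne hψ1
      simp only [Cfsg.classInner, hψc, oneChar_apply, map_one, mul_one, Finset.sum_const,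
        Finset.card_univ, nsmul_eq_mul, ← Nat.card_eq_fintype_card] at h1
      rw [inv_mul_cancel_left₀ (Nat.cast_ne_zero.2 Nat.card_pos.ne'), Nat.cast_eq_zero] at h1
      exact (hdpos ψ).ne' h1
  have hleft : ∑ x : KN, P ((x : N) : G) = r := by
    simp only [hPexp]
    rw [Finset.sum_comm, Finset.sum_eq_single (oneChar G)]
    · simp [hk1, oneChar_apply, ← hcK]
    · intro ψ _ hψ
      rw [← Finset.mul_sum]
      by_cases h : k ψ = 0
      · rw [h, Nat.cast_zero, zero_mul]
      · rw [hconst ψ h hψ, mul_zero]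
    · exact fun h => absurd (Finset.mem_univ _) h
  have hright : ∑ x : KN, P ((x : N) : G) = Nat.card N := by
    simp only [hP, hval]
    have h := classInner_self_irr (⟨ζ, hζrel.1⟩ : Cfsg.IrrCharacter N)
    rw [Cfsg.classInner, inv_mul_eq_iff_eq_mul₀ (Nat.cast_ne_zero.2 Nat.card_pos.ne'), mul_one] at h
    rw [← h, ← Finset.sum_subtype (Finset.univ.filter (· ∈ KN)) (fun x => by simp)
      (fun x : N => ζ x * conj (ζ x))]
    refine Finset.sum_filter_of_ne fun x _ hne => ?_
    by_contra hx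
    exact hne (by
      show ζ x * conj (ζ x) = 0
      have h0 : ζ x = 0 := Clifford.KernelChars.vanish KN
        (Clifford.TICoherent.self_centralizing Y hC) ⟨ζ, hζrel.1⟩ hζrel.2 hx
      rw [h0, zero_mul])
  rw [hleft] at hright
  have h := (Nat.cast_injective hright : r = Nat.card N)
  rw [← KN.card_mul_index, hcK, hidx'] at h
  omega

end Cfsg.Agent.Lib.OrdElevenPairs.CC
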