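import Cfsg.Agent.Lib.H80.ClassMult
import Cfsg.Agent.Lib.Characters.Linear
import Cfsg.Agent.Lib.Characters.Generalized
import Cfsg.Agent.Lib.Characters.Diag
import Cfsg.Agent.Lib.Induced.Basic

/-!
# A linear character of a stabiliser in a doubly transitive perfect group
-/

set_option autoImplicit false

namespace Cfsg.Agent.Lib.OrdElevenPairs.Char

open Cfsg.Agent.Lib.Characters.Basic Cfsg.Agent.Lib.Characters.Linear
  Cfsg.Agent.Lib.Characters.Complete Cfsg.Agent.Lib.Induced.Basic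
open scoped ComplexConjugate

universe u

/-- The arithmetic endgame. -/
theorem arith {v d k : ℤ} (hd : 2 ≤ d) (hdv : d ≤ v - 2) (hk : |k| ≤ d)
    (hsq : (k * v - d) ^ 2 = d * (v - d) * (v - 1)) (hdvd : v - 1 ∣ k * v - d) : False := by
  obtain ⟨hk1, hk2⟩ := abs_le.1 hk
  have hkd : v - 1 ∣ k - d := by
    have e : k - d = (k * v - d) - (v - 1) * k := by ring
    rw [e]
    exact dvd_sub hdvd (dvd_mul_right _ _)
  obtain ⟨c, hc⟩ := hkd
  have hv : 0 < v - 1 := by omega
  have hc1 : c ≤ 0 := by nlinarith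
  have hc2 : -1 ≤ c := by nlinarith
  have hne : (v - 1) ≠ 0 := hv.ne'
  rcases (show c = 0 ∨ c = -1 by omega) with rfl | rfl
  · have hk' : k = d := by linarith
    subst hk'
    have : k * (v - 1) * ((k - 1) * v) = 0 := by linear_combination hsq
    rcases mul_eq_zero.1 this with h | h <;> rcases mul_eq_zero.1 h with h | h <;> omega
  · have hk' : k = d - (v - 1) := by linarith
    subst hk'
    have : (v - d) * (v - 1) * (v * (v - 1 - d)) = 0 := by linear_combination hsq
    rcases mul_eq_zero.1 this with h | h <;> rcases mul_eq_zero.1 h with h | h <;> omega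

variable {G : Type u} [Group G]

/-- Elements of the second double coset on which the linear character extends with value one. -/
def One (N : Subgroup G) (ν : N →* ℂˣ) (i g : G) : Prop :=
  ∃ p q : N, g = p * i * q ∧ ν p * ν q = 1

variable [Fintype G] {N : Subgroup G} {ν : N →* ℂˣ} {i : G}

theorem conj_lin (h : N) : conj ((ν h : ℂˣ) : ℂ) = ((ν h⁻¹ : ℂˣ) : ℂ) := by
  have hpow : ((ν h : ℂˣ) : ℂ) ^ Nat.card N = 1 := by
    rw [← Units.val_pow_eq_pow_val, ← map_pow, pow_card_eq_one', map_one, Units.val_one]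
  rw [Cfsg.Agent.Lib.Characters.Diag.conj_eq_inv_of_pow Nat.card_pos.ne' hpow, map_inv,
    Units.val_inv_eq_inv_val]

theorem lin_mul_conj (h : N) : ((ν h : ℂˣ) : ℂ) * conj ((ν h : ℂˣ) : ℂ) = 1 := by
  rw [conj_lin, map_inv, Units.val_inv_eq_inv_val, mul_inv_cancel₀ (Units.ne_zero _)]

variable (hi : i * i = 1) (hiN : i ∉ N)
  (hdec : ∀ x : G, x ∉ N → ∃ p q : N, x = p * i * q)
  (hfus : ∀ (x : G) (h : N) (hx : x⁻¹ * h * x ∈ N), ν ⟨x⁻¹ * h * x, hx⟩ = ν h)

open scoped Classical in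
include hiN hdec in
theorem count : ∑ h : N, (Finset.univ.filter fun x : G => x⁻¹ * h * x ∈ N).card
    = 2 * (Nat.card N) ^ 2 := by
  have e1 : ∑ h : N, (Finset.univ.filter fun x : G => x⁻¹ * h * x ∈ N).card =
      ∑ x : G, (Finset.univ.filter fun h : N => x⁻¹ * h * x ∈ N).card := by
    simp only [Finset.card_filter]
    exact Finset.sum_comm
  rw [e1, ← Finset.sum_filter_add_sum_filter_not Finset.univ (fun x : G => x ∈ N)]
  have hN : ∑ x ∈ Finset.univ.filter (fun x : G => x ∈ N),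
      (Finset.univ.filter fun h : N => x⁻¹ * h * x ∈ N).card = Nat.card N ^ 2 := by
    rw [Finset.sum_congr rfl (g := fun _ => Nat.card N)]
    · rw [Finset.sum_const, smul_eq_mul, pow_two]
      congr 1
      rw [← Fintype.card_subtype, ← Nat.card_eq_fintype_card]
    · intro x hx
      rw [Finset.filter_true_of_mem, Finset.card_univ, Nat.card_eq_fintype_card]
      intro h _
      have hxN := (Finset.mem_filter.1 hx).2
      exact N.mul_mem (N.mul_mem (N.inv_mem hxN) h.2) hxN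
  have hpi : ∀ p q : N, (p : G) * i * q ∉ N := fun p q h => hiN (by
    have := N.mul_mem (N.mul_mem (N.inv_mem p.2) h) (N.inv_mem q.2)
    simpa [mul_assoc] using this)
  have hout : ∑ x ∈ Finset.univ.filter (fun x : G => ¬ x ∈ N),
      (Finset.univ.filter fun h : N => x⁻¹ * h * x ∈ N).card = Nat.card N ^ 2 := by
    rw [pow_two, ← Nat.card_prod, Nat.card_eq_fintype_card, ← Finset.card_univ,
      Finset.card_eq_sum_card_fiberwise (s := (Finset.univ : Finset (N × N)))
        (f := fun pq => (pq.1 : G) * i * pq.2) (t := Finset.univ.filter fun x : G => ¬ x ∈ N)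
        (fun pq _ => Finset.mem_coe.2 (Finset.mem_filter.2 ⟨Finset.mem_univ _, hpi _ _⟩))]
    refine Finset.sum_congr rfl fun x hx => ?_
    obtain ⟨p₀, q₀, e₀⟩ := hdec x (Finset.mem_filter.1 hx).2
    refine Finset.card_bij' (fun h hh => (h⁻¹ * p₀, q₀ * ⟨x⁻¹ * h * x, (Finset.mem_filter.1 hh).2⟩))
      (fun pq _ => p₀ * pq.1⁻¹) ?_ ?_ ?_ ?_
    · intro h hh
      refine Finset.mem_filter.2 ⟨Finset.mem_univ _, ?_⟩
      simp only [Subgroup.coe_mul, InvMemClass.coe_inv]
      calc (h : G)⁻¹ * p₀ * i * (q₀ * (x⁻¹ * h * x))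
          = (h : G)⁻¹ * ((p₀ : G) * i * q₀) * (x⁻¹ * h * x) := by group
        _ = x := by rw [← e₀]; group
    · intro pq hpq
      refine Finset.mem_filter.2 ⟨Finset.mem_univ _, ?_⟩
      have e := (Finset.mem_filter.1 hpq).2
      have : x⁻¹ * ((p₀ * pq.1⁻¹ : N) : G) * x = (q₀ : G)⁻¹ * pq.2 := by
        simp only [Subgroup.coe_mul, InvMemClass.coe_inv]
        rw [show x⁻¹ = ((p₀ : G) * i * q₀)⁻¹ by rw [← e₀]]
        conv_lhs => arg 2; rw [← e]
        group
      rw [this]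
      exact N.mul_mem (N.inv_mem q₀.2) pq.2.2
    · intro h hh
      simp
    · intro pq hpq
      have e := (Finset.mem_filter.1 hpq).2
      refine Prod.ext (by simp) (Subtype.ext ?_)
      simp only [Subgroup.coe_mul, InvMemClass.coe_inv]
      rw [show x⁻¹ = ((p₀ : G) * i * q₀)⁻¹ by rw [← e₀]]
      conv_lhs => arg 2; arg 2; rw [← e]
      group
  rw [hN, hout, two_mul]

open scoped Classical in
include hiN hdec hfus in
theorem norm_two : Cfsg.classInner (Cfsg.indFun N fun h => ((ν h : ℂˣ) : ℂ))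
    (Cfsg.indFun N fun h => ((ν h : ℂˣ) : ℂ)) = 2 := by
  rw [frobenius_reciprocity N _ (isClassFunction_indFun N _)]
  have hval : ∀ h : N, Cfsg.indFun N (fun h => ((ν h : ℂˣ) : ℂ)) (h : G) =
      (Nat.card N : ℂ)⁻¹ *
        (((Finset.univ.filter fun x : G => x⁻¹ * h * x ∈ N).card : ℂ) * ((ν h : ℂˣ) : ℂ)) := by
    intro h
    rw [indFun_apply]
    congr 1
    rw [Finset.sum_congr rfl (g := fun x : G => if x⁻¹ * h * x ∈ N then ((ν h : ℂˣ) : ℂ) else 0)]
    · rw [← Finset.sum_filter, Finset.sum_const, nsmul_eq_mul]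
    · intro x _
      split_ifs with hx
      · rw [hfus x h hx]
      · rfl
  simp only [Cfsg.classInner, hval, map_mul, map_inv₀, map_natCast]
  have hN : (Nat.card N : ℂ) ≠ 0 := Nat.cast_ne_zero.2 Nat.card_pos.ne'
  calc (Nat.card N : ℂ)⁻¹ * ∑ h : N, ((ν h : ℂˣ) : ℂ) * ((Nat.card N : ℂ)⁻¹ *
        (((Finset.univ.filter fun x : G => x⁻¹ * h * x ∈ N).card : ℂ) * conj ((ν h : ℂˣ) : ℂ)))
      = (Nat.card N : ℂ)⁻¹ * ((Nat.card N : ℂ)⁻¹ *
        ∑ h : N, ((Finset.univ.filter fun x : G => x⁻¹ * h * x ∈ N).card : ℂ)) := by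
        congr 1
        rw [Finset.mul_sum]
        refine Finset.sum_congr rfl fun h _ => ?_
        linear_combination ((Nat.card N : ℂ)⁻¹ *
          ((Finset.univ.filter fun x : G => x⁻¹ * h * x ∈ N).card : ℂ)) * lin_mul_conj (ν := ν) h
    _ = 2 := by
        rw [← Nat.cast_sum, count hiN hdec]
        push_cast
        field_simp

open scoped Classical in
include hiN hdec hfus in
theorem exists_constituent (hperf : commutator G = ⊤) (hν : ν ≠ 1) :
    ∃ (χ : Cfsg.IrrCharacter G) (d : ℕ), 2 ≤ d ∧ d + 2 ≤ N.index ∧ (χ : G → ℂ) 1 = d ∧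
      Cfsg.classInner (fun h : N => (χ : G → ℂ) h) (fun h => ((ν h : ℂˣ) : ℂ)) = 1 := by
  classical
  have := Fintype.ofFinite (Cfsg.IrrCharacter G)
  set θ : N → ℂ := fun h => ((ν h : ℂˣ) : ℂ) with hθ
  have hθl : θ = ((linChar ν : Cfsg.IrrCharacter N) : N → ℂ) :=
    funext fun h => (linChar_apply ν h).symm
  have hc : ∀ χ : Cfsg.IrrCharacter G, ∃ c : ℕ,
      Cfsg.classInner (fun h : N => (χ : G → ℂ) h) θ = c := fun χ => by
    rw [hθl]
    exact exists_classInner_nat (isCharacter_comp N.subtype (isCharacter_irr χ)) (isCharacter_irr _)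
  choose c hc using hc
  choose d hdpos hd using fun χ : Cfsg.IrrCharacter G => exists_degree_pos χ
  set Θ := Cfsg.indFun N θ with hΘ
  have hcoef : ∀ χ : Cfsg.IrrCharacter G, Cfsg.classInner Θ χ = c χ := fun χ => by
    rw [hΘ, frobenius_reciprocity N _ (isClassFunction_irr χ), ← classInner_conj_symm, hc χ,
      map_natCast]
  have hexp : Θ = ∑ χ, (c χ : ℂ) • (χ : G → ℂ) := by
    refine (classFunction_eq_sum (isClassFunction_indFun N θ : Cfsg.IsClassFunction G Θ)).trans ?_
    exact Finset.sum_congr rfl fun χ _ => by rw [hcoef]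
  have hsum : ∑ χ, c χ * d χ = N.index := by
    have h1 := congrFun hexp 1
    rw [hΘ, indFun_one, hθ] at h1
    simp only [map_one, Units.val_one, mul_one, Finset.sum_apply, Pi.smul_apply, smul_eq_mul, hd]
      at h1
    exact_mod_cast h1.symm
  have hsq : ∑ χ, c χ * c χ = 2 := by
    have h1 := norm_two hiN hdec hfus
    rw [← hθ, ← hΘ] at h1
    conv_lhs at h1 => arg 1; rw [hexp]
    rw [classInner_sum_left] at h1
    simp only [classInner_smul_left] at h1
    rw [Finset.sum_congr rfl (g := fun χ => (c χ : ℂ) * c χ) (fun χ _ => by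
      rw [← classInner_conj_symm, hcoef, map_natCast])] at h1
    exact_mod_cast h1
  have hc1 : ∀ χ, c χ ≤ 1 := fun χ => by
    have : c χ * c χ ≤ 2 := hsq ▸ Finset.single_le_sum (f := fun χ => c χ * c χ)
      (fun _ _ => Nat.zero_le _) (Finset.mem_univ χ)
    nlinarith
  have hd2 : ∀ χ, c χ ≠ 0 → 2 ≤ d χ := by
    intro χ hne
    by_contra hlt
    have hd1 : (χ : G → ℂ) 1 = 1 := by
      rw [hd χ, show d χ = 1 by have := hdpos χ; omega, Nat.cast_one]
    set lam := degOneHom (isCharacter_irr χ) hd1 with hlam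
    have hker : lam = 1 := MonoidHom.ext fun g =>
      (Abelianization.commutator_subset_ker lam) (hperf ▸ Subgroup.mem_top g)
    have hone : (fun h : N => (χ : G → ℂ) h) =
        ((linChar (1 : N →* ℂˣ) : Cfsg.IrrCharacter N) : N → ℂ) := funext fun h => by
      rw [linChar_apply, MonoidHom.one_apply, ← degOneHom_apply (isCharacter_irr χ) hd1, ← hlam,
        hker, MonoidHom.one_apply]
    have h0 := hc χ
    rw [hone, hθl, classInner_irr_of_ne (fun e => hν (linChar_injective e).symm)] at h0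
    exact hne (by exact_mod_cast h0.symm)
  obtain ⟨χ, hχ⟩ : ∃ χ, c χ ≠ 0 := by
    by_contra h
    push Not at h
    simp [h] at hsq
  obtain ⟨χ', hne, hχ'⟩ : ∃ χ', χ' ≠ χ ∧ c χ' ≠ 0 := by
    by_contra h
    push Not at h
    rw [Fintype.sum_eq_single χ fun x hx => by rw [h x hx, zero_mul]] at hsq
    have := hc1 χ
    nlinarith
  have e1 : c χ = 1 := by have := hc1 χ; omega
  have e2 : c χ' = 1 := by have := hc1 χ'; omega
  refine ⟨χ, d χ, hd2 χ hχ, ?_, hd χ, by rw [hc χ, e1, Nat.cast_one]⟩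
  have hle : c χ * d χ + c χ' * d χ' ≤ ∑ x, c x * d x := by
    rw [← Finset.sum_pair (f := fun x => c x * d x) hne.symm]
    exact Finset.sum_le_sum_of_subset (Finset.subset_univ _)
  have := hd2 χ' hχ'
  rw [hsum, e1, e2] at hle
  omega

open scoped Classical in
include hi hiN hdec hfus in
/-- The final contradiction. -/
theorem false_of (hperf : commutator G = ⊤) (hν : ν ≠ 1) {A : Subgroup G}
    (hA : Nat.card A = 11)
    (hAin : ∀ a ∈ A, a ≠ 1 → ∀ x ∈ N, ∃ hm : x * a * x⁻¹ ∈ N, ν ⟨_, hm⟩ = 1)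
    (hAout : ∀ a ∈ A, a ≠ 1 → ∀ x, x ∉ N → One N ν i (x * a * x⁻¹))
    (hend : (∀ n : ℕ, N.index - 1 ∣ n * n → N.index - 1 ∣ n) ∨
      ∃ t : G, ∀ x : G, One N ν i (x * t * x⁻¹)) : False := by
  obtain ⟨χ, d, hd2, hdv, hd, hone⟩ := exists_constituent hiN hdec hfus hperf hν
  set v := N.index with hv
  have hNc : (Nat.card N : ℂ) ≠ 0 := Nat.cast_ne_zero.2 Nat.card_pos.ne'
  have hGc : (Nat.card G : ℂ) ≠ 0 := natCard_ne_zero
  have hd0 : (d : ℂ) ≠ 0 := Nat.cast_ne_zero.2 (by omega)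
  have hcl := isClassFunction_irr χ
  have hcomm : ∀ a b : G, (χ : G → ℂ) (a * b) = (χ : G → ℂ) (b * a) := fun a b => by
    rw [← hcl (b * a) a]; group
  set φ : G → ℂ := fun g => (Nat.card N : ℂ)⁻¹ *
    ∑ h : N, (χ : G → ℂ) (g * h) * conj ((ν h : ℂˣ) : ℂ) with hφ
  have hright : ∀ (g : G) (h : N), φ (g * h) = ((ν h : ℂˣ) : ℂ) * φ g := by
    intro g h
    simp only [hφ, Finset.mul_sum]
    refine Fintype.sum_equiv (Equiv.mulLeft h) _ _ fun k => ?_
    simp only [Equiv.coe_mulLeft, Subgroup.coe_mul, map_mul, Units.val_mul]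
    rw [← mul_assoc g]
    linear_combination (-((Nat.card N : ℂ)⁻¹ * (χ : G → ℂ) (g * h * k) *
      conj ((ν k : ℂˣ) : ℂ))) * lin_mul_conj (ν := ν) h
  have hleft : ∀ (g : G) (h : N), φ (h * g) = ((ν h : ℂˣ) : ℂ) * φ g := by
    intro g h
    simp only [hφ, Finset.mul_sum]
    refine Fintype.sum_equiv (Equiv.mulRight h) _ _ fun k => ?_
    simp only [Equiv.coe_mulRight, Subgroup.coe_mul, map_mul, Units.val_mul]
    rw [mul_assoc (h : G) g k, hcomm (h : G) (g * k), ← mul_assoc g]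
    linear_combination (-((Nat.card N : ℂ)⁻¹ * (χ : G → ℂ) (g * k * h) *
      conj ((ν k : ℂˣ) : ℂ))) * lin_mul_conj (ν := ν) h
  have hφ1 : φ 1 = 1 := by
    refine Eq.trans ?_ hone
    simp [hφ, Cfsg.classInner]
  set β := φ i with hβ
  have hin : ∀ h : N, φ h = ((ν h : ℂˣ) : ℂ) := fun h => by
    have := hright 1 h
    rwa [one_mul, hφ1, mul_one] at this
  have hOne : ∀ g, One N ν i g → φ g = β := by
    rintro g ⟨p, q, rfl, hpq⟩
    rw [hright, hleft, ← mul_assoc, mul_comm ((ν q : ℂˣ) : ℂ), ← Units.val_mul, hpq, Units.val_one,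
      one_mul]
  -- the class sums
  have hclass : ∀ y : G, ∑ x : G, φ (x * y * x⁻¹) = (Nat.card G : ℂ) * (χ : G → ℂ) y / d := by
    intro y
    simp only [hφ, ← Finset.mul_sum]
    rw [Finset.sum_comm, Finset.sum_congr rfl (g := fun h : N => ((Nat.card G : ℂ) * (χ : G → ℂ) y / d)
      * ((χ : G → ℂ) h * conj ((ν h : ℂˣ) : ℂ)))]
    · rw [← Finset.mul_sum, mul_comm (_ / _ : ℂ), ← mul_assoc,
        show (Nat.card N : ℂ)⁻¹ * ∑ h : N, (χ : G → ℂ) h * conj ((ν h : ℂˣ) : ℂ) = 1 from hone,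
        one_mul]
    · intro h _
      rw [← Finset.sum_mul, Finset.sum_congr rfl fun x _ => hcomm (x * y * x⁻¹) h,
        Cfsg.Agent.Lib.H80.ClassMult.sum_apply_mul_conj, hd]
      ring
  -- the norm
  have hnorm : ∑ g : G, φ g * conj (φ g) = (Nat.card G : ℂ) / d := by
    have hpair : ∑ g : G, φ g * conj ((χ : G → ℂ) g) = (Nat.card G : ℂ) / d := by
      have h1 : ∑ y : G, conj ((χ : G → ℂ) y) * ∑ x : G, φ (x * y * x⁻¹) =
          (Nat.card G : ℂ) * ∑ g : G, φ g * conj ((χ : G → ℂ) g) := by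
        simp only [Finset.mul_sum]
        rw [Finset.sum_comm, Finset.sum_congr rfl (g := fun _ : G =>
          ∑ g : G, φ g * conj ((χ : G → ℂ) g))]
        · rw [Finset.sum_const, nsmul_eq_mul, Finset.card_univ, ← Nat.card_eq_fintype_card,
            Finset.mul_sum]
        · intro x _
          refine Fintype.sum_equiv (MulAut.conj x).toEquiv _ _ fun y => ?_
          simp [hcl y x, mul_comm]
      have h2 : ∑ y : G, conj ((χ : G → ℂ) y) * ∑ x : G, φ (x * y * x⁻¹) =
          (Nat.card G : ℂ) / d * (Nat.card G : ℂ) := by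
        simp only [hclass]
        have h3 := classInner_self_irr χ
        rw [Cfsg.classInner, inv_mul_eq_iff_eq_mul₀ hGc, mul_one] at h3
        calc ∑ y : G, conj ((χ : G → ℂ) y) * ((Nat.card G : ℂ) * (χ : G → ℂ) y / d)
            = (Nat.card G : ℂ) / d * ∑ y : G, (χ : G → ℂ) y * conj ((χ : G → ℂ) y) := by
              rw [Finset.mul_sum]; exact Finset.sum_congr rfl fun y _ => by ring
          _ = _ := by rw [h3]
      rw [h1, mul_comm ((Nat.card G : ℂ) / d)] at h2
      exact mul_left_cancel₀ hGc h2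
    rw [← hpair]
    calc ∑ g : G, φ g * conj (φ g)
        = (Nat.card N : ℂ)⁻¹ * ∑ h : N, ∑ g : G,
          φ g * (conj ((χ : G → ℂ) (g * h)) * ((ν h : ℂˣ) : ℂ)) := by
          rw [Finset.sum_comm, Finset.mul_sum]
          refine Finset.sum_congr rfl fun g _ => ?_
          have e : conj (φ g) = (Nat.card N : ℂ)⁻¹ *
              ∑ h : N, conj ((χ : G → ℂ) (g * h)) * ((ν h : ℂˣ) : ℂ) := by
            simp only [hφ, map_mul, map_inv₀, map_natCast, map_sum, Complex.conj_conj]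
          rw [e, ← Finset.mul_sum]
          ring
      _ = (Nat.card N : ℂ)⁻¹ * ∑ _h : N, ∑ g : G, φ g * conj ((χ : G → ℂ) g) := by
          congr 1
          refine Finset.sum_congr rfl fun h _ => ?_
          refine Fintype.sum_equiv (Equiv.mulRight (h : G)) _ _ fun g => ?_
          simp only [Equiv.coe_mulRight, hright]
          ring
      _ = _ := by
          rw [Finset.sum_const, nsmul_eq_mul, Finset.card_univ, ← Nat.card_eq_fintype_card,
            ← mul_assoc, inv_mul_cancel₀ hNc, one_mul]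
  have hreal : conj β = β := by
    simp only [hβ, hφ, map_mul, map_inv₀, map_natCast, map_sum, Complex.conj_conj]
    congr 1
    refine Fintype.sum_equiv (Equiv.inv N) _ _ fun h => ?_
    obtain ⟨n, ρ, -, hρ⟩ := exists_rep χ
    rw [← hρ, ← Cfsg.Agent.Lib.Characters.Diag.char_inv_eq_conj, hρ, Equiv.inv_apply,
      InvMemClass.coe_inv, mul_inv_rev, inv_eq_of_mul_eq_one_right hi, hcomm, conj_lin, inv_inv]
  -- sums over the two cosets
  set M : ℕ := (Finset.univ.filter fun x : G => ¬ x ∈ N).card with hM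
  have hvN : v * Nat.card N = Nat.card G := N.index_mul_card
  have hMN : Nat.card N + M = Nat.card G := by
    rw [hM, Nat.card_eq_fintype_card (α := G), ← Finset.card_univ,
      ← Finset.card_filter_add_card_filter_not (s := (Finset.univ : Finset G)) (fun x => x ∈ N),
      ← Fintype.card_subtype (fun x : G => x ∈ N), Nat.card_eq_fintype_card]
  have hMv : (M : ℂ) = (Nat.card N : ℂ) * ((v : ℂ) - 1) := by
    have h1 : ((Nat.card N + M : ℕ) : ℂ) = ((v * Nat.card N : ℕ) : ℂ) := by rw [hMN, hvN]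
    push_cast at h1
    linear_combination h1
  have hsplit : ∀ (f : G → ℂ) (a b : ℂ), (∀ x ∈ N, f x = a) → (∀ x, x ∉ N → f x = b) →
      ∑ x : G, f x = (Nat.card N : ℂ) * (a + ((v : ℂ) - 1) * b) := by
    intro f a b ha hb
    rw [← Finset.sum_filter_add_sum_filter_not Finset.univ (fun x : G => x ∈ N),
      Finset.sum_congr rfl (g := fun _ => a) (fun x hx => ha x (Finset.mem_filter.1 hx).2),
      Finset.sum_congr rfl (g := fun _ => b) (fun x hx => hb x (Finset.mem_filter.1 hx).2),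
      Finset.sum_const, Finset.sum_const, nsmul_eq_mul, nsmul_eq_mul, ← hM, hMv,
      ← Fintype.card_subtype, ← Nat.card_eq_fintype_card]
    ring
  have hGv : (Nat.card G : ℂ) = (Nat.card N : ℂ) * v := by
    rw [← hvN, Nat.cast_mul, mul_comm]
  have hB : (d : ℂ) * (1 + ((v : ℂ) - 1) * (β * β)) = v := by
    have h1 := hnorm
    rw [hsplit _ 1 (β * β) (fun x hx => by rw [hin ⟨x, hx⟩, lin_mul_conj]) (fun x hx => by
      obtain ⟨p, q, rfl⟩ := hdec x hx
      rw [hright, hleft, map_mul, map_mul, hreal]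
      linear_combination (β * β) * lin_mul_conj (ν := ν) p * ((ν q : ℂˣ) : ℂ) * conj ((ν q : ℂˣ) : ℂ)
        + (β * β) * lin_mul_conj (ν := ν) q), hGv, eq_div_iff hd0] at h1
    exact mul_left_cancel₀ hNc (by linear_combination h1)
  obtain ⟨n, ρ, -, hρ⟩ := exists_rep χ
  have hint : ∀ g : G, IsIntegral ℤ ((χ : G → ℂ) g) := fun g =>
    hρ ▸ Cfsg.Agent.Lib.Characters.Diag.isIntegral_char ρ g
  have hbound : ∀ g : G, ‖(χ : G → ℂ) g‖ ≤ d := fun g => by
    have h1 : ((Module.finrank ℂ (Fin n → ℂ) : ℕ) : ℂ) = d := by rw [← hd, ← hρ, Representation.char_one]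
    rw [← hρ, ← show Module.finrank ℂ (Fin n → ℂ) = d by exact_mod_cast h1]
    exact Cfsg.Agent.Lib.Characters.Diag.norm_char_le ρ g
  have hrat : ∀ (g : G) (q : ℚ), (χ : G → ℂ) g = q → ∃ z : ℤ, (χ : G → ℂ) g = z := by
    intro g q hq
    have h1 : IsIntegral ℤ (algebraMap ℚ ℂ q) := by
      rw [eq_ratCast]
      exact hq ▸ hint g
    obtain ⟨z, hz⟩ := IsIntegrallyClosed.algebraMap_eq_of_integral
      (isIntegral_algebraMap_iff (algebraMap ℚ ℂ).injective |>.1 h1)
    refine ⟨z, ?_⟩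
    rw [hq, ← hz]
    simp
  -- the value on `A`
  obtain ⟨a₀, ha₀, ha₀1⟩ := A.bot_or_exists_ne_one.resolve_left
    (fun e => by rw [e, Subgroup.card_bot] at hA; norm_num at hA)
  have hka : ∀ a ∈ A, a ≠ 1 →
      (χ : G → ℂ) a * v = (d : ℂ) * (1 + ((v : ℂ) - 1) * β) := by
    intro a ha ha1
    have h1 := hclass a
    rw [hsplit _ 1 β (fun x hx => by
        obtain ⟨hm, e⟩ := hAin a ha ha1 x hx
        rw [hin ⟨_, hm⟩, e, Units.val_one])
      (fun x hx => hOne _ (hAout a ha ha1 x hx)), hGv, eq_div_iff hd0] at h1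
    exact mul_left_cancel₀ hNc (by linear_combination -h1)
  have hv0 : (v : ℂ) ≠ 0 := Nat.cast_ne_zero.2 (by omega)
  obtain ⟨z, hz⟩ := Cfsg.Agent.Lib.Characters.Generalized.exists_classInner_int
    (Cfsg.Agent.Lib.Characters.Generalized.of_isCharacter
      (isCharacter_comp A.subtype (isCharacter_irr χ)))
    (Cfsg.Agent.Lib.Characters.Generalized.of_isCharacter (isCharacter_irr (linChar (1 : A →* ℂˣ))))
  have hAsum : (d : ℂ) + 10 * (χ : G → ℂ) a₀ = 11 * z := by
    rw [← hz, Cfsg.classInner, hA, Nat.cast_ofNat, mul_inv_cancel_left₀ (by norm_num)]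
    rw [← Finset.add_sum_erase _ _ (Finset.mem_univ (1 : A))]
    rw [Finset.sum_congr rfl (g := fun _ => (χ : G → ℂ) a₀)]
    · rw [Finset.sum_const, Finset.card_erase_of_mem (Finset.mem_univ _), Finset.card_univ,
        ← Nat.card_eq_fintype_card, hA]
      simp [linChar_apply, hd]
    · intro a ha
      simp only [linChar_apply, MonoidHom.one_apply, Units.val_one, map_one, mul_one,
        Function.comp_apply, Subgroup.coe_subtype]
      refine mul_right_cancel₀ hv0 ?_
      rw [hka a a.2 fun e => (Finset.mem_erase.1 ha).1 (Subtype.ext e), hka a₀ ha₀ ha₀1]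
  obtain ⟨k, hk⟩ := hrat a₀ ((11 * z - d) / 10) (by
    push_cast
    linear_combination hAsum / 10)
  have hkv := hka a₀ ha₀ ha₀1
  rw [hk] at hkv
  have hkabs : |k| ≤ (d : ℤ) := by
    have h1 := hbound a₀
    rw [hk, Complex.norm_intCast] at h1
    exact_mod_cast h1
  have hsq : (k * (v : ℤ) - d) ^ 2 = (d : ℤ) * ((v : ℤ) - d) * ((v : ℤ) - 1) := by
    have : ((k : ℂ) * v - d) ^ 2 = (d : ℂ) * ((v : ℂ) - d) * ((v : ℂ) - 1) := by
      linear_combination ((k : ℂ) * v - d + d * ((v : ℂ) - 1) * β) * hkv +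
        (d : ℂ) * ((v : ℂ) - 1) * hB
    exact_mod_cast this
  refine arith (v := (v : ℤ)) (d := (d : ℤ)) (by exact_mod_cast hd2) (by omega) hkabs hsq ?_
  have hv1 : ((v - 1 : ℕ) : ℤ) = (v : ℤ) - 1 := by omega
  rcases hend with hrad | ⟨t, ht⟩
  · have h1 : ((v - 1 : ℕ) : ℤ) ∣ (k * (v : ℤ) - d) ^ 2 := by
      rw [hsq, hv1]
      exact dvd_mul_left _ _
    rw [Int.natCast_dvd, pow_two, Int.natAbs_mul] at h1
    rw [← hv1, Int.natCast_dvd]
    exact hrad _ h1
  · have h1 := hclass t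
    rw [hsplit _ β β (fun x _ => hOne _ (ht x)) (fun x _ => hOne _ (ht x)), hGv, eq_div_iff hd0] at h1
    have hG : (χ : G → ℂ) t = (d : ℂ) * β := by
      refine mul_left_cancel₀ (mul_ne_zero hNc hv0) ?_
      linear_combination -h1
    have hv1' : ((v : ℂ) - 1) ≠ 0 := by
      rw [sub_ne_zero]
      exact_mod_cast (show v ≠ 1 by omega)
    obtain ⟨γ, hγ⟩ := hrat t ((k * v - d) / (v - 1)) (by
      push_cast
      rw [eq_div_iff hv1', hG]
      linear_combination -hkv)
    refine ⟨γ, ?_⟩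
    have : (k : ℂ) * v - d = ((v : ℂ) - 1) * γ := by
      rw [← hγ, hG]
      linear_combination hkv
    exact_mod_cast this

end Cfsg.Agent.Lib.OrdElevenPairs.Char
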