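import Cfsg.Agent.Lib.OrdElevenPairs.Cover

/-!
# Counting blocks
-/

set_option autoImplicit false
set_option linter.unusedSectionVars false

namespace Cfsg.Agent.Lib.OrdElevenPairs.Sys

open Cfsg.Agent.Lib.PairOdd Subgroup

universe u

variable {G : Type u} [Group G]

/-- The members fixed by `t`. -/
abbrev Fx (S : Sys G) (t : G) : Type u := {X : Subgroup G // X ∈ S.D ∧ cj t X = X}

/-- The blocks containing `t`. -/
abbrev BlT (S : Sys G) (t : G) : Type u := {M : Subgroup G // S.Blk M ∧ t ∈ M}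

/-- The blocks containing `A`. -/
abbrev BlA (S : Sys G) (A : Subgroup G) : Type u := {M : Subgroup G // S.Blk M ∧ A ≤ M}

/-- The blocks containing `A` and `t`. -/
abbrev BlAT (S : Sys G) (A : Subgroup G) (t : G) : Type u :=
  {M : Subgroup G // S.Blk M ∧ A ≤ M ∧ t ∈ M}

/-- A sum of constant size. -/
theorem card_sigma_const {ι : Type*} [Finite ι] {F : ι → Type*} [∀ i, Finite (F i)] {n : ℕ}
    (h : ∀ i, Nat.card (F i) = n) : Nat.card (Σ i, F i) = Nat.card ι * n := by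
  classical
  have := Fintype.ofFinite ι
  rw [Nat.card_sigma, Finset.sum_congr rfl (fun i _ => h i), Finset.sum_const, Finset.card_univ,
    smul_eq_mul, Nat.card_eq_fintype_card]

theorem card_remove {α : Type*} [Finite α] (p : α → Prop) {a : α} (ha : p a) :
    Nat.card {x : α // p x} = Nat.card {x : α // p x ∧ x ≠ a} + 1 := by
  classical
  have := Fintype.ofFinite α
  rw [Nat.card_eq_fintype_card, Nat.card_eq_fintype_card, Fintype.card_subtype, Fintype.card_subtype,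
    ← Finset.card_erase_add_one (Finset.mem_filter.2 ⟨Finset.mem_univ a, ha⟩)]
  congr 2
  ext x
  simp [and_comm]

variable [Finite G] {S : Sys G}

theorem Blk.card_members {M : Subgroup G} (hM : S.Blk M) :
    Nat.card {X : Subgroup G // X ∈ S.D ∧ X ≤ M} = 1596 := by
  rw [← hM.isK.card_el]
  exact Nat.card_congr
    { toFun := fun X => ⟨X.1.subgroupOf M, by rw [card_subgroupOf X.2.2, S.card _ X.2.1]⟩
      invFun := fun Y => ⟨Y.1.map M.subtype, hM.mem _
        (by rw [card_map_of_injective M.subtype_injective, Y.2]) (map_subtype_le _), map_subtype_le _⟩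
      left_inv := fun X => Subtype.ext (by
        show (X.1.subgroupOf M).map M.subtype = X.1
        rw [subgroupOf_map_subtype, inf_eq_left.2 X.2.2])
      right_inv := fun Y => Subtype.ext (map_subgroupOf Y.1) }

theorem Blk.card_fixed {M : Subgroup G} (hM : S.Blk M) {t : G} (htM : t ∈ M) (ht : orderOf t = 2) :
    Nat.card {X : Subgroup G // X ∈ S.D ∧ X ≤ M ∧ cj t X = X} = 12 := by
  obtain ⟨A, hA, htA⟩ := hM.isK.exists_fixed (t := ⟨t, htM⟩) (by rwa [orderOf_mk])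
  rw [← hM.isK.card_fixed_invol hA (t := ⟨t, htM⟩) (by rwa [orderOf_mk]) htA]
  exact Nat.card_congr
    { toFun := fun X => ⟨X.1.subgroupOf M, by rw [card_subgroupOf X.2.2.1, S.card _ X.2.1],
        by rw [cj_subgroupOf, X.2.2.2]⟩
      invFun := fun Y => ⟨Y.1.map M.subtype, hM.mem _
        (by rw [card_map_of_injective M.subtype_injective, Y.2.1]) (map_subtype_le _), map_subtype_le _,
        subgroupOf_inj (cj_le_of_mem (cj_self htM) (map_subtype_le _)) (map_subtype_le _) (by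
          rw [← cj_subgroupOf ⟨t, htM⟩, map_subgroupOf, Y.2.2])⟩
      left_inv := fun X => Subtype.ext (by
        show (X.1.subgroupOf M).map M.subtype = X.1
        rw [subgroupOf_map_subtype, inf_eq_left.2 X.2.2.1])
      right_inv := fun Y => Subtype.ext (map_subgroupOf Y.1) }

theorem Blk.card_invol_fix {M : Subgroup G} (hM : S.Blk M) {A : Subgroup G} (hA : A ∈ S.D)
    (hAM : A ≤ M) : Nat.card {t : G // orderOf t = 2 ∧ cj t A = A ∧ t ∈ M} = 11 := by
  rw [← hM.isK.card_invol_stab (hM.card_sub hA hAM)]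
  exact Nat.card_congr
    { toFun := fun t => ⟨⟨t.1, t.2.2.2⟩, by rw [orderOf_mk]; exact t.2.1,
        by rw [cj_subgroupOf, t.2.2.1]⟩
      invFun := fun t => ⟨t.1, by rw [orderOf_coe]; exact t.2.1,
        subgroupOf_inj (cj_le_of_mem (cj_self t.1.2) hAM) hAM (by rw [← cj_subgroupOf, t.2.2]), t.1.2⟩
      left_inv := fun t => rfl
      right_inv := fun t => rfl }

variable (hS : S.Ctx) {M₀ : Subgroup G} (hM₀ : S.Blk M₀)
include hS hM₀

theorem card_fx_eq {A : Subgroup G} (hA : A ∈ S.D) {t : G} (ht : orderOf t = 2) (htA : cj t A = A) :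
    Nat.card (Fx S t) = Nat.card (BlAT S A t) * 11 + 1 := by
  classical
  have h1 : Nat.card (Fx S t) =
      Nat.card {X : Subgroup G // (X ∈ S.D ∧ cj t X = X) ∧ X ≠ A} + 1 :=
    card_remove (fun X : Subgroup G => X ∈ S.D ∧ cj t X = X) ⟨hA, htA⟩
  rw [h1, ← card_sigma_const (ι := BlAT S A t)
    (F := fun M => {X : Subgroup G // (X ∈ S.D ∧ X ≤ M.1 ∧ cj t X = X) ∧ X ≠ A}) (n := 11) fun M => by
      have := card_remove (fun X : Subgroup G => X ∈ S.D ∧ X ≤ M.1 ∧ cj t X = X) ⟨hA, M.2.2.1, htA⟩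
      rw [M.2.1.card_fixed M.2.2.2 ht] at this
      omega]
  congr 1
  refine (Nat.card_congr (Equiv.ofBijective
    (fun p : Σ M : BlAT S A t, {X : Subgroup G // (X ∈ S.D ∧ X ≤ M.1 ∧ cj t X = X) ∧ X ≠ A} =>
      (⟨p.2.1, ⟨p.2.2.1.1, p.2.2.1.2.2⟩, p.2.2.2⟩ :
        {X : Subgroup G // (X ∈ S.D ∧ cj t X = X) ∧ X ≠ A})) ⟨?_, ?_⟩)).symm
  · rintro ⟨⟨M, hM, hAM, htM⟩, ⟨X, ⟨hX, hXM, htX⟩, hne⟩⟩ ⟨⟨M', hM', hAM', htM'⟩, ⟨X', ⟨hX', hXM', htX'⟩, hne'⟩⟩ e
    simp only [Subtype.mk.injEq] at e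
    subst e
    obtain rfl := block_unique hS hM' hM hA hX (Ne.symm hne) hAM' hXM' hAM hXM
    rfl
  · rintro ⟨X, ⟨hX, htX⟩, hne⟩
    obtain ⟨M, hM, hAM, hXM, htM⟩ :=
      block_normalized hS hM₀ hA hX (Ne.symm hne) ht (Or.inl ⟨htA, htX⟩)
    exact ⟨⟨⟨M, hM, hAM, htM⟩, ⟨X, ⟨hX, hXM, htX⟩, hne⟩⟩, rfl⟩

theorem card_D_eq {A : Subgroup G} (hA : A ∈ S.D) :
    Nat.card S.D = Nat.card (BlA S A) * 1595 + 1 := by
  classical
  have h1 : Nat.card S.D = Nat.card {X : Subgroup G // X ∈ S.D ∧ X ≠ A} + 1 :=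
    card_remove (fun X : Subgroup G => X ∈ S.D) hA
  rw [h1, ← card_sigma_const (ι := BlA S A)
    (F := fun M => {X : Subgroup G // (X ∈ S.D ∧ X ≤ M.1) ∧ X ≠ A}) (n := 1595) fun M => by
      have := card_remove (fun X : Subgroup G => X ∈ S.D ∧ X ≤ M.1) ⟨hA, M.2.2⟩
      rw [M.2.1.card_members] at this
      omega]
  congr 1
  refine (Nat.card_congr (Equiv.ofBijective
    (fun p : Σ M : BlA S A, {X : Subgroup G // (X ∈ S.D ∧ X ≤ M.1) ∧ X ≠ A} =>
      (⟨p.2.1, p.2.2.1.1, p.2.2.2⟩ : {X : Subgroup G // X ∈ S.D ∧ X ≠ A})) ⟨?_, ?_⟩)).symm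
  · rintro ⟨⟨M, hM, hAM⟩, ⟨X, ⟨hX, hXM⟩, hne⟩⟩ ⟨⟨M', hM', hAM'⟩, ⟨X', ⟨hX', hXM'⟩, hne'⟩⟩ e
    simp only [Subtype.mk.injEq] at e
    subst e
    obtain rfl := block_unique hS hM' hM hA hX (Ne.symm hne) hAM' hXM' hAM hXM
    rfl
  · rintro ⟨X, hX, hne⟩
    obtain ⟨M, hM, hAM, hXM⟩ := exists_block hS hM₀ hA hX (Ne.symm hne)
    exact ⟨⟨⟨M, hM, hAM⟩, ⟨X, ⟨hX, hXM⟩, hne⟩⟩, rfl⟩

/-- The involution `t` moves every member outside its fixed set within one block. -/
theorem card_moved {t : G} (ht : orderOf t = 2) :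
    Nat.card S.D = Nat.card (Fx S t) + Nat.card (BlT S t) * 1584 := by
  classical
  have := Fintype.ofFinite (Subgroup G)
  have h1 : Nat.card S.D = Nat.card (Fx S t) + Nat.card {X : Subgroup G // X ∈ S.D ∧ cj t X ≠ X} := by
    rw [← Nat.card_sum]
    refine Nat.card_congr (Equiv.ofBijective (fun X : S.D =>
      if h : cj t X.1 = X.1 then Sum.inl (⟨X.1, X.2, h⟩ : Fx S t)
      else Sum.inr (⟨X.1, X.2, h⟩ : {X : Subgroup G // X ∈ S.D ∧ cj t X ≠ X})) ⟨?_, ?_⟩)
    · intro a b e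
      simp only at e
      split_ifs at e with h h' h' <;> simp only [Sum.inl.injEq, Sum.inr.injEq,
        Subtype.mk.injEq] at e <;> exact Subtype.ext e
    · rintro (⟨X, hX, h⟩ | ⟨X, hX, h⟩)
      · exact ⟨⟨X, hX⟩, dif_pos h⟩
      · exact ⟨⟨X, hX⟩, dif_neg h⟩
  rw [h1, ← card_sigma_const (ι := BlT S t)
    (F := fun M => {X : Subgroup G // X ∈ S.D ∧ X ≤ M.1 ∧ cj t X ≠ X}) (n := 1584) fun M => by
      have h : Nat.card {X : Subgroup G // X ∈ S.D ∧ X ≤ M.1} =
          Nat.card {X : Subgroup G // X ∈ S.D ∧ X ≤ M.1 ∧ cj t X = X} +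
            Nat.card {X : Subgroup G // X ∈ S.D ∧ X ≤ M.1 ∧ cj t X ≠ X} := by
        rw [Nat.card_eq_fintype_card, Nat.card_eq_fintype_card, Nat.card_eq_fintype_card,
          Fintype.card_subtype, Fintype.card_subtype, Fintype.card_subtype,
          ← Finset.card_filter_add_card_filter_not (s := Finset.univ.filter
            fun X : Subgroup G => X ∈ S.D ∧ X ≤ M.1) (fun X => cj t X = X),
          Finset.filter_filter, Finset.filter_filter]
        congr 2 <;> ext X <;> simp [and_assoc]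
      rw [M.2.1.card_members, M.2.1.card_fixed M.2.2 ht] at h
      omega]
  congr 1
  refine (Nat.card_congr (Equiv.ofBijective
    (fun p : Σ M : BlT S t, {X : Subgroup G // X ∈ S.D ∧ X ≤ M.1 ∧ cj t X ≠ X} =>
      (⟨p.2.1, p.2.2.1, p.2.2.2.2⟩ : {X : Subgroup G // X ∈ S.D ∧ cj t X ≠ X})) ⟨?_, ?_⟩)).symm
  · rintro ⟨⟨M, hM, htM⟩, ⟨X, hX, hXM, hne⟩⟩ ⟨⟨M', hM', htM'⟩, ⟨X', hX', hXM', hne'⟩⟩ e
    simp only [Subtype.mk.injEq] at e
    subst e
    obtain rfl := block_unique hS hM' hM hX (S.conj t X hX) (Ne.symm hne) hXM'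
      (cj_le_of_mem (cj_self htM') hXM') hXM (cj_le_of_mem (cj_self htM) hXM)
    rfl
  · rintro ⟨X, hX, hne⟩
    have htt : t * t = 1 := by rw [← pow_two, ← ht, pow_orderOf_eq_one]
    obtain ⟨M, hM, hXM, -, htM⟩ := block_normalized hS hM₀ hX (S.conj t X hX) (Ne.symm hne) ht
      (Or.inr ⟨rfl, by rw [← cj_mul, htt, cj_one]⟩)
    exact ⟨⟨⟨M, hM, htM⟩, ⟨X, hX, hXM, hne⟩⟩, rfl⟩

theorem card_incidence {t : G} (ht : orderOf t = 2) {r : ℕ}
    (hr : ∀ A : Fx S t, Nat.card (BlAT S A.1 t) = r) :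
    Nat.card (BlT S t) * 12 = Nat.card (Fx S t) * r := by
  rw [← card_sigma_const (ι := BlT S t)
      (F := fun M => {X : Subgroup G // X ∈ S.D ∧ X ≤ M.1 ∧ cj t X = X}) (n := 12)
      (fun M => M.2.1.card_fixed M.2.2 ht),
    ← card_sigma_const (ι := Fx S t) (F := fun A => BlAT S A.1 t) (n := r) hr]
  exact Nat.card_congr
    { toFun := fun p => ⟨⟨p.2.1, p.2.2.1, p.2.2.2.2⟩, ⟨p.1.1, p.1.2.1, p.2.2.2.1, p.1.2.2⟩⟩
      invFun := fun p => ⟨⟨p.2.1, p.2.2.1, p.2.2.2.2⟩, ⟨p.1.1, p.1.2.1, p.2.2.2.1, p.1.2.2⟩⟩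
      left_inv := fun p => rfl
      right_inv := fun p => rfl }

/-- The number of members in terms of the blocks at a fixed member. -/
theorem card_D_r {A : Subgroup G} (hA : A ∈ S.D) {t : G} (ht : orderOf t = 2) (htA : cj t A = A) :
    Nat.card S.D = (1 + 11 * Nat.card (BlAT S A t)) * (1 + 132 * Nat.card (BlAT S A t)) := by
  set r := Nat.card (BlAT S A t) with hr
  have hf := card_fx_eq hS hM₀ hA ht htA
  have hb := card_incidence hS hM₀ ht (r := r) fun B => by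
    have := card_fx_eq hS hM₀ B.2.1 ht B.2.2
    omega
  have hv := card_moved hS hM₀ ht
  rw [← hr] at hf
  rw [hv, hf]
  rw [hf] at hb
  linear_combination 132 * hb

/-- The count: `r` is `1` modulo `145`, at least `291`, and determines the number of fixed members. -/
theorem exists_r {A : Subgroup G} (hA : A ∈ S.D) {t : G} (ht : orderOf t = 2) (htA : cj t A = A) :
    ∃ r, Nat.card (BlAT S A t) = r ∧ Nat.card (Fx S t) = 1 + 11 * r ∧ 291 ≤ r := by
  classical
  set r := Nat.card (BlAT S A t) with hr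
  set R := Nat.card (BlA S A) with hR
  set J := Nat.card {s : G // orderOf s = 2 ∧ cj s A = A} with hJ
  have hv := card_D_r hS hM₀ hA ht htA
  have hvA := card_D_eq hS hM₀ hA
  rw [← hr] at hv
  rw [← hR] at hvA
  have hJR : J * r = R * 11 := by
    rw [hR, hJ, ← card_sigma_const (ι := {s : G // orderOf s = 2 ∧ cj s A = A})
        (F := fun s => BlAT S A s.1) (n := r) (fun s => ?_),
      ← card_sigma_const (ι := BlA S A)
        (F := fun M => {s : G // orderOf s = 2 ∧ cj s A = A ∧ s ∈ M.1}) (n := 11)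
        (fun M => M.2.1.card_invol_fix hA M.2.2)]
    · exact Nat.card_congr
        { toFun := fun p => ⟨⟨p.2.1, p.2.2.1, p.2.2.2.1⟩, ⟨p.1.1, p.1.2.1, p.1.2.2, p.2.2.2.2⟩⟩
          invFun := fun p => ⟨⟨p.2.1, p.2.2.1, p.2.2.2.1⟩, ⟨p.1.1, p.1.2.1, p.1.2.2, p.2.2.2.2⟩⟩
          left_inv := fun p => rfl
          right_inv := fun p => rfl }
    · have h := card_D_r hS hM₀ hA s.2.1 s.2.2
      set r' := Nat.card (BlAT S A s.1)
      by_contra hne
      rw [h] at hv
      rcases Nat.lt_or_ge r' r with hlt | hge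
      · exact absurd hv (Nat.mul_lt_mul_of_lt_of_lt (by omega) (by omega)).ne
      · exact absurd hv (Nat.mul_lt_mul_of_lt_of_lt (by omega) (by omega)).ne'
  have hRr : R * 1595 = 11 * r * (13 + 132 * r) := by
    have h := hvA.symm.trans hv
    nlinarith
  have hr0 : 0 < r := by
    rcases Nat.eq_zero_or_pos r with h0 | h0
    · exfalso
      rw [h0] at hv
      replace hv : Nat.card S.D = 1 := hv.trans (by norm_num)
      obtain ⟨B, hB, C, hC, hBC⟩ := S.two
      have := (Nat.card_eq_one_iff_unique.1 hv).1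
      exact hBC (congrArg Subtype.val (Subsingleton.elim (⟨B, hB⟩ : S.D) ⟨C, hC⟩))
    · exact h0
  have hJ145 : 145 * J = 143 + 1452 * r := by
    have e : 145 * (J * r) = (143 + 1452 * r) * r := by
      rw [hJR]
      nlinarith
    exact Nat.eq_of_mul_eq_mul_right hr0 (by rw [mul_assoc, e])
  refine ⟨r, rfl, by rw [card_fx_eq hS hM₀ hA ht htA, ← hr]; ring, ?_⟩
  have hmod : r % 145 = 1 := by omega
  by_contra hlt
  push Not at hlt
  rcases (by omega : r = 1 ∨ r = 146) with h1 | h1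
  · rw [h1] at hv
    replace hv : Nat.card S.D = 1596 := hv.trans (by norm_num)
    obtain ⟨X, hX, hXM⟩ := hM₀.exists_outside hS
    have hsub : ∀ Y : Subgroup G, Y ∈ S.D → Y ≤ M₀ := by
      intro Y hY
      have hinj : Function.Injective (fun Z : {Z : Subgroup G // Z ∈ S.D ∧ Z ≤ M₀} =>
          (⟨Z.1, Z.2.1⟩ : S.D)) := fun a b e => Subtype.ext (congrArg (fun w : S.D => w.1) e)
      obtain ⟨Z, hZ⟩ := ((Nat.bijective_iff_injective_and_card _).2
        ⟨hinj, by rw [hM₀.card_members, hv]⟩).2 ⟨Y, hY⟩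
      exact (show Z.1 = Y from congrArg Subtype.val hZ) ▸ Z.2.2
    exact hXM (hsub X hX)
  · have hb := card_incidence hS hM₀ ht (r := r) fun B => by
      have h2 := card_fx_eq hS hM₀ B.2.1 ht B.2.2
      have h3 := card_fx_eq hS hM₀ hA ht htA
      omega
    rw [card_fx_eq hS hM₀ hA ht htA, ← hr, h1] at hb
    omega

end Cfsg.Agent.Lib.OrdElevenPairs.Sys
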