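import Cfsg.Agent.Lib.OrdElevenPairs.Five

/-!
# Every pair lies in exactly one block
-/

set_option autoImplicit false
set_option linter.unusedSectionVars false

namespace Cfsg.Agent.Lib.OrdElevenPairs.Sys

open Cfsg.Agent.Lib.PairOdd Subgroup

universe u

variable {G : Type u} [Group G] [Finite G] {S : Sys G} (hS : S.Ctx)
include hS

theorem unique_of_five {M M' : Subgroup G} (hM : S.Blk M) (hM' : S.Blk M') {A : Subgroup G}
    (hA : A ∈ S.D) (hAM : A ≤ M) (hAM' : A ≤ M') {g : G} (hgM : cj g M = M) (hgM' : cj g M' = M')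
    (hg : orderOf g = 5) {s : ZMod 11} (hs : Acts (MulAut.conj g) A s) (hs1 : s ≠ 1) : M' = M := by
  obtain ⟨k, hk, hk5, hc, hkA⟩ := five_split hS hM' hA hAM' hgM' hg hs hs1
  obtain ⟨γ, hγk, hγA⟩ := hM'.isK.exists_same_mult (hM'.card_sub hA hAM') (u := ⟨k, hk⟩)
    (by rwa [orderOf_mk]) (by rw [cj_subgroupOf, show cj k A = A from hkA.mv_eq (S.card A hA)])
  have hγg : Commute (γ : G) g := by
    have h1 : Commute (γ : G) k := (congrArg Subtype.val hγk.eq).symm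
    have h2 : Commute (γ : G) (k⁻¹ * g) := mem_centralizer_iff.1 hc _ γ.2
    have := h1.mul_right h2
    rwa [mul_inv_cancel_left] at this
  have hXA : cj (γ : G) A ≠ A := fun e => hγA (by rw [cj_subgroupOf, e])
  have hXD := S.conj (γ : G) A hA
  have hXs : Acts (MulAut.conj g) (cj (γ : G) A) s := by
    have := hs.transport (MulAut.conj (γ : G))
    rwa [mv_conj, ← map_inv, ← map_mul, ← map_mul, hγg.eq, mul_inv_cancel_right] at this
  have hK := same_mult_K hS hA hg hs hs1 hXD (Ne.symm hXA) hXs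
  rw [← hM'.eq_of_pair hA hXD (Ne.symm hXA) hAM' (cj_le_of_mem (cj_self γ.2) hAM') hK,
    hM.eq_of_pair hA hXD (Ne.symm hXA) hAM
      (five_fixed hS hM hA hAM hgM hg hs hs1 hXD (hXs.mv_eq (S.card _ hXD))) hK]

theorem torus_of_L {A X : Subgroup G} (hA : A ∈ S.D) (hX : X ∈ S.D) (hAX : A ≠ X)
    (h : IsL ↥(A ⊔ X)) : ∃ (v : G) (s : ZMod 11), v ∈ A ⊔ X ∧ orderOf v = 5 ∧ s ≠ 1 ∧
      Acts (MulAut.conj v) A s ∧ cj v X = X := by
  obtain ⟨v, s, hv, hs1, -, -, hvX, hs, -⟩ := h.exists_torus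
    (A := A.subgroupOf (A ⊔ X)) (B := X.subgroupOf (A ⊔ X))
    (by rw [card_subgroupOf le_sup_left, S.card A hA]) (by rw [card_subgroupOf le_sup_right, S.card X hX])
    (fun e => hAX (subgroupOf_inj le_sup_left le_sup_right e))
  rw [cj_subgroupOf] at hvX
  exact ⟨v, s, v.2, by rwa [orderOf_coe], hs1, (conj_acts_iff le_sup_left v).1 hs,
    subgroupOf_inj (cj_le_of_mem (cj_self v.2) le_sup_right) le_sup_right hvX⟩

theorem block_unique {M M' : Subgroup G} (hM : S.Blk M) (hM' : S.Blk M') {A X : Subgroup G}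
    (hA : A ∈ S.D) (hX : X ∈ S.D) (hAX : A ≠ X) (hAM : A ≤ M) (hXM : X ≤ M) (hAM' : A ≤ M')
    (hXM' : X ≤ M') : M' = M := by
  rcases S.pair A hA X hX hAX with h | h
  · obtain ⟨v, s, hv, hv5, hs1, hs, -⟩ := torus_of_L hS hA hX hAX h
    exact unique_of_five hS hM hM' hA hAM hAM' (cj_self (sup_le hAM hXM hv))
      (cj_self (sup_le hAM' hXM' hv)) hv5 hs hs1
  · rw [← hM.eq_of_pair hA hX hAX hAM hXM h, hM'.eq_of_pair hA hX hAX hAM' hXM' h]

theorem exists_block {M₀ : Subgroup G} (hM₀ : S.Blk M₀) {A X : Subgroup G} (hA : A ∈ S.D)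
    (hX : X ∈ S.D) (hAX : A ≠ X) : ∃ M, S.Blk M ∧ A ≤ M ∧ X ≤ M := by
  rcases S.pair A hA X hX hAX with h | h
  swap
  · exact ⟨_, blk_of_pair hA hX hAX h, le_sup_left, le_sup_right⟩
  obtain ⟨A₀, hA₀, hA₀M⟩ := hM₀.exists_member
  obtain ⟨g₀, hg₀⟩ := exists_conj hA₀ hA
  have hM := hM₀.cj_blk g₀
  have hAM : A ≤ cj g₀ M₀ := hg₀ ▸ cj_mono hA₀M
  obtain ⟨t, htM, ht, htA⟩ := hM.exists_invol hA hAM
  obtain ⟨u, s, huM, hu, -, hs1, -, hs⟩ := hM.exists_torus hA hAM htM ht htA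
  obtain ⟨v, s', hv, hv5, hs'1, hs', hvX⟩ := torus_of_L hS hA hX hAX h
  have := Fact.mk (by norm_num : Nat.Prime 5)
  obtain ⟨g, hgA, hgv⟩ := exists_conj_into (p := 5) (H := normalizer (A : Set G))
    (K := normalizer ((cj g₀ M₀ : Subgroup G) : Set G)) (u := u)
    (cj_eq_self_iff.1 (hs.mv_eq (S.card A hA))) (cj_eq_self_iff.1 (cj_self huM))
    (n := 1) (by rw [pow_one, ← hu, pow_orderOf_eq_one])
    (fun h hh hhu => cj_eq_self_iff.1 (unique_of_five hS hM (hM.cj_blk h) hA hAM (by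
        calc A = cj h A := (cj_eq_self_iff.2 hh).symm
          _ ≤ cj h (cj g₀ M₀) := cj_mono hAM)
      (cj_self huM) (by
        have e := cj_eq_self_iff.2 hhu
        rw [cj_mul, cj_mul] at e
        rw [← cj_cj_inv h (cj u (cj h (cj g₀ M₀))), e])
      hu hs hs1))
    (x := v) (cj_eq_self_iff.1 (hs'.mv_eq (S.card A hA)))
    (m := 1) (by rw [pow_one, ← hv5, pow_orderOf_eq_one])
  have hgA' : cj g A = A := cj_eq_self_iff.2 hgA
  have hact : Acts (MulAut.conj (g * v * g⁻¹)) A s' := by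
    have := hs'.transport (MulAut.conj g)
    rw [mv_conj, hgA'] at this
    simpa using this
  have hle := five_fixed hS hM hA hAM (cj_eq_self_iff.2 hgv)
    (by rw [show g * v * g⁻¹ = MulAut.conj g v from rfl, MulEquiv.orderOf_eq, hv5]) hact hs'1
    (S.conj g X hX) (by rw [← cj_mul, inv_mul_cancel_right, cj_mul, hvX])
  exact ⟨cj g⁻¹ (cj g₀ M₀), hM.cj_blk g⁻¹,
    (cj_eq_self_iff.2 (inv_mem hgA)).symm.le.trans (cj_mono hAM), cj_le_iff.1 hle⟩

/-- The block of two members. -/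
theorem block_normalized {M₀ : Subgroup G} (hM₀ : S.Blk M₀) {A X : Subgroup G} (hA : A ∈ S.D)
    (hX : X ∈ S.D) (hAX : A ≠ X) {t : G} (ht : orderOf t = 2)
    (ht' : (cj t A = A ∧ cj t X = X) ∨ (cj t A = X ∧ cj t X = A)) :
    ∃ M, S.Blk M ∧ A ≤ M ∧ X ≤ M ∧ t ∈ M := by
  obtain ⟨M, hM, hAM, hXM⟩ := exists_block hS hM₀ hA hX hAX
  refine ⟨M, hM, hAM, hXM, hM.invol_mem hS ht ?_⟩
  rcases ht' with ⟨h1, h2⟩ | ⟨h1, h2⟩
  · exact block_unique hS hM (hM.cj_blk t) hA hX hAX hAM hXM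
      (h1.symm.le.trans (cj_mono hAM)) (h2.symm.le.trans (cj_mono hXM))
  · exact block_unique hS hM (hM.cj_blk t) hA hX hAX hAM hXM
      (h2.symm.le.trans (cj_mono hXM)) (h1.symm.le.trans (cj_mono hAM))

end Cfsg.Agent.Lib.OrdElevenPairs.Sys
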