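import Cfsg.Agent.Lib.OrdElevenPairs.Pure

/-!
# Involutions centralising a line
-/

set_option autoImplicit false
set_option linter.unusedSectionVars false

namespace Cfsg.Agent.Lib.OrdElevenPairs.Sys

open Cfsg.Agent.Lib.PairOdd Subgroup

universe u

variable {G : Type u} [Group G] {S : Sys G}

/-- Elements centralising a line. -/
def LCent (S : Sys G) (g : G) : Prop :=
  ∃ C ∈ S.D, ∃ E ∈ S.D, C ≠ E ∧ g ∈ centralizer ((C ⊔ E : Subgroup G) : Set G)

theorem LCent.conj {g : G} (h : S.LCent g) (a : G) : S.LCent (a * g * a⁻¹) := by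
  obtain ⟨C, hC, E, hE, hCE, hc⟩ := h
  refine ⟨cj a C, S.conj a C hC, cj a E, S.conj a E hE,
    fun e => hCE (by rw [← cj_inv_cj a C, e, cj_inv_cj]), ?_⟩
  rw [← cj_sup, ← cj_centralizer]
  exact conj_mem_cj hc

variable [Finite G]

theorem orderOf_two {g : G} (h : g * g = 1) (h1 : g ≠ 1) : orderOf g = 2 :=
  orderOf_eq_prime (by rw [pow_two, h]) h1

theorem sq_one {g : G} (h : orderOf g = 2) : g * g = 1 := by
  rw [← pow_two, ← h, pow_orderOf_eq_one]

theorem ne_one_two {g : G} (h : orderOf g = 2) : g ≠ 1 := fun e => by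
  rw [e, orderOf_one] at h; norm_num at h

variable (hP : S.PCtx) {A B : Subgroup G} (hA : A ∈ S.D) (hB : B ∈ S.D) (hAB : A ≠ B)

include hP hA hB hAB in
/-- An element of order five of a line centralises no member. -/
theorem five_not_cent {w : G} (hw : w ∈ A ⊔ B) (h5 : orderOf w = 5) {Y : Subgroup G} (hY : Y ∈ S.D) :
    w ∉ centralizer (Y : Set G) := by
  intro hc
  have hL := hP.pure A hA B hB hAB
  obtain ⟨P, Q, hPc, hQc, hPQ, huP, huQ⟩ := hL.five_fix (u := ⟨w, hw⟩) (by rwa [orderOf_mk])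
  obtain ⟨c, -, hc'⟩ := exists_acts (φ := MulAut.conj (⟨w, hw⟩ : ↥(A ⊔ B))) hPc huP
  have hc1 : c ≠ 1 := fun e => by
    have := hL.conj_eq_one (hL.sign hPc hQc hPQ (e ▸ hc') huQ)
    rw [show w = 1 from congrArg Subtype.val this, orderOf_one] at h5
    norm_num at h5
  exact hc1 (acts_eq_one hY (mem_sub hP hA hB hAB hPc) hc
    ((conj_acts_iff (map_subtype_le P) ⟨w, hw⟩).1 (by rwa [map_subgroupOf])))

include hP hA hB hAB in
/-- An involution centralising a member and normalising a line acts as an element of it. -/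
theorem invol_split {z : G} (hz : z * z = 1) {Y : Subgroup G} (hY : Y ∈ S.D)
    (hzY : z ∈ centralizer (Y : Set G)) (hzL : cj z (A ⊔ B) = A ⊔ B)
    (hne : z ∉ centralizer ((A ⊔ B : Subgroup G) : Set G)) :
    ∃ m c : G, m ∈ A ⊔ B ∧ orderOf m = 2 ∧ c ∈ centralizer ((A ⊔ B : Subgroup G) : Set G) ∧
      z = m * c ∧ Commute m c ∧ c * c = 1 := by
  obtain ⟨X, hX, hXle, hmv⟩ : ∃ X ∈ S.D, X ≤ A ⊔ B ∧ cj z X ≠ X := by
    by_contra h
    push Not at h
    exact hne (cent_pair hA hB hAB (cent_fixed hY hA hzY (h A hA le_sup_left)) (h B hB le_sup_right))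
  obtain ⟨m, c, hm, hmo, hc, e, hmc, hcc⟩ := invol_line hP hY hz hzY hX hmv
  rw [line_eq hP hA hB hAB hX (S.conj z X hX) hmv.symm hXle (cj_le_of_mem hzL hXle)] at hm hc
  exact ⟨m, c, hm, hmo, hc, e, hmc, hcc⟩

include hP hA hB hAB in
/-- Some involution `x` of the line gives an element `x * d` centralising a line. -/
theorem exists_type {z : G} (hz : orderOf z = 2)
    (hzW : z ∈ centralizer ((A ⊔ B : Subgroup G) : Set G)) :
    ∃ x d : G, x ∈ A ⊔ B ∧ orderOf x = 2 ∧ d ∈ centralizer ((A ⊔ B : Subgroup G) : Set G) ∧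
      d * d = 1 ∧ Commute d z ∧ S.LCent (x * d) := by
  have hzz := sq_one hz
  have hz1 := ne_one_two hz
  have hzA : z ∈ centralizer (A : Set G) := centralizer_le (SetLike.coe_subset_coe.2 le_sup_left) hzW
  obtain ⟨X, hX, hXL⟩ := exists_outside hP hA hB hAB
  have hmv : cj z X ≠ X := fun e => hXL (line_max' hP hA hB hAB hz1 hzW hX e)
  obtain ⟨m, c, hm, hmo, hc, e, hmc, hcc⟩ := invol_line hP hA hzz hzA hX hmv
  have hX' := S.conj z X hX
  by_cases hc1 : c = 1
  · rw [hc1, mul_one] at e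
    subst e
    obtain ⟨i, hi, hio, -, -, -⟩ := exists_swap hP hA hB hAB
    obtain ⟨g, hg1, hg2⟩ := exists_pair_conj hP hX hX' hmv.symm hA hB hAB
    have hgm : g * z * g⁻¹ ∈ A ⊔ B := by
      rw [← hg1, ← hg2, ← cj_sup]
      exact conj_mem_cj hm
    have hgo : orderOf (⟨_, hgm⟩ : ↥(A ⊔ B)) = 2 := by
      rw [orderOf_mk, ← MulAut.conj_apply, MulEquiv.orderOf_eq, hmo]
    obtain ⟨l, hl⟩ := (hP.pure A hA B hB hAB).isConj_invol hgo (j := ⟨i, hi⟩) (by rwa [orderOf_mk])
    have hl' : (l : G) * (g * z * g⁻¹) * (l : G)⁻¹ = i := congrArg Subtype.val hl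
    refine ⟨i, 1, hi, hio, one_mem _, mul_one 1, Commute.one_left z, ?_⟩
    rw [mul_one, ← hl']
    exact ((show S.LCent z from ⟨A, hA, B, hB, hAB, hzW⟩).conj g).conj l
  · have hcz : Commute c z := e ▸ hmc.symm.mul_right (Commute.refl c)
    have hcX : c ∈ centralizer (X : Set G) := centralizer_le (SetLike.coe_subset_coe.2 le_sup_left) hc
    obtain ⟨x, d, hx, hxo, hd, e', hxd, hdd⟩ := invol_split hP hA hB hAB hcc hX hcX
      (cj_of_commute hP hA hB hAB hz1 hzW hcz) fun h => hXL (line_max hP hA hB hAB hc1 h hX hcX)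
    refine ⟨x, d, hx, hxo, hd, hdd, ?_, e' ▸ ⟨X, hX, _, hX', hmv.symm, hc⟩⟩
    have hxz : Commute x z := mem_centralizer_iff.1 hzW x hx
    have : d = x⁻¹ * c := by rw [e', inv_mul_cancel_left]
    exact this ▸ hxz.inv_left.mul_left hcz

include hP hA hB hAB in
/-- The type condition holds for all involutions of the line at once. -/
theorem type_all {x d : G} (hx : x ∈ A ⊔ B) (hxo : orderOf x = 2)
    (hd : d ∈ centralizer ((A ⊔ B : Subgroup G) : Set G)) (h : S.LCent (x * d)) {y : G}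
    (hy : y ∈ A ⊔ B) (hyo : orderOf y = 2) : S.LCent (y * d) := by
  obtain ⟨l, hl⟩ := (hP.pure A hA B hB hAB).isConj_invol (i := ⟨x, hx⟩) (by rwa [orderOf_mk])
    (j := ⟨y, hy⟩) (by rwa [orderOf_mk])
  have hl' : (l : G) * x * (l : G)⁻¹ = y := congrArg Subtype.val hl
  have hld : Commute (l : G) d := mem_centralizer_iff.1 hd l l.2
  have : y * d = (l : G) * (x * d) * (l : G)⁻¹ := by
    rw [← hl', mul_assoc (l : G) (x * d), mul_assoc x d, ← hld.inv_left.eq]
    group
  exact this ▸ h.conj _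

include hP hA hB hAB in
theorem prod_ne_one {x d : G} (hx : x ∈ A ⊔ B) (hxo : orderOf x = 2)
    (hd : d ∈ centralizer ((A ⊔ B : Subgroup G) : Set G)) :
    x * d ∉ centralizer ((A ⊔ B : Subgroup G) : Set G) := fun h =>
  ne_one_two hxo (cent_trivial hA hB hAB hx (by
    have := (centralizer ((A ⊔ B : Subgroup G) : Set G)).mul_mem h
      ((centralizer ((A ⊔ B : Subgroup G) : Set G)).inv_mem hd)
    rwa [mul_inv_cancel_right] at this))

include hP hA hB hAB in
/-- An element centralising the line is not in the centraliser of any other. -/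
theorem not_cent_of_type {x d w : G} (hx : x ∈ A ⊔ B) (hxo : orderOf x = 2)
    (hd : d ∈ centralizer ((A ⊔ B : Subgroup G) : Set G)) {C E : Subgroup G} (hC : C ∈ S.D)
    (hE : E ∈ S.D) (hCE : C ≠ E) (hc : x * d ∈ centralizer ((C ⊔ E : Subgroup G) : Set G))
    (hw : w ∈ centralizer ((A ⊔ B : Subgroup G) : Set G)) (hw1 : w ≠ 1) :
    w ∉ centralizer ((C ⊔ E : Subgroup G) : Set G) := fun h => by
  rw [line_unique hP hA hB hAB hw1 hw hC hE hCE h] at hc
  exact prod_ne_one hP hA hB hAB hx hxo hd hc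

set_option maxHeartbeats 800000 in
include hP hA hB hAB in
theorem no_four {x₀ d z z' : G} (hx₀ : x₀ ∈ A ⊔ B) (hx₀o : orderOf x₀ = 2)
    (hz : orderOf z = 2) (hz' : orderOf z' = 2)
    (hzW : z ∈ centralizer ((A ⊔ B : Subgroup G) : Set G))
    (hz'W : z' ∈ centralizer ((A ⊔ B : Subgroup G) : Set G)) (hzz' : Commute z z') (hne : z ≠ z')
    (hd : d = 1 ∨ d = z ∨ d = z') (hLC : S.LCent (x₀ * d)) : False := by
  classical
  have hL := hP.pure A hA B hB hAB
  set W : Subgroup G := centralizer ((A ⊔ B : Subgroup G) : Set G) with hW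
  have hdW : d ∈ W := by rcases hd with rfl | rfl | rfl; exacts [one_mem _, hzW, hz'W]
  have hcl : ∀ l ∈ A ⊔ B, ∀ w ∈ W, Commute l w := fun l hl w hw => mem_centralizer_iff.1 hw l hl
  have hdz : Commute d z := by
    rcases hd with rfl | rfl | rfl; exacts [Commute.one_left _, Commute.refl _, hzz'.symm]
  have hdz' : Commute d z' := by
    rcases hd with rfl | rfl | rfl; exacts [Commute.one_left _, hzz', Commute.refl _]
  have hzA : ∀ w ∈ W, w ∈ centralizer (A : Set G) := fun w hw =>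
    centralizer_le (SetLike.coe_subset_coe.2 le_sup_left) hw
  let dd : Fin 4 → G := ![1, z, z', z * z']
  have hddW : ∀ k, dd k ∈ W := by
    intro k; fin_cases k
    exacts [one_mem _, hzW, hz'W, mul_mem hzW hz'W]
  have hzz'2 : (z * z') * (z * z') = 1 := by
    rw [← pow_two, hzz'.mul_pow, pow_two, pow_two, sq_one hz, sq_one hz', one_mul]
  have hzz'1 : z * z' ≠ 1 := fun e =>
    hne ((inv_eq_of_mul_eq_one_right (sq_one hz)).symm.trans (inv_eq_of_mul_eq_one_right e))
  -- the lines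
  have hall : ∀ x : ↥(A ⊔ B), orderOf x = 2 → ∃ C ∈ S.D, ∃ E ∈ S.D, C ≠ E ∧
      (x : G) * d ∈ centralizer ((C ⊔ E : Subgroup G) : Set G) := fun x hx =>
    type_all hP hA hB hAB hx₀ hx₀o hdW hLC x.2 (by rwa [orderOf_coe])
  choose C hC E hE hCE hcc using hall
  have hnorm : ∀ (x : ↥(A ⊔ B)) (hx : orderOf x = 2), ∀ g : G, Commute g ((x : G) * d) →
      cj g (C x hx ⊔ E x hx) = C x hx ⊔ E x hx := fun x hx g hg =>
    cj_of_commute hP (hC x hx) (hE x hx) (hCE x hx)
      (fun e => prod_ne_one hP hA hB hAB x.2 (by rwa [orderOf_coe]) hdW (by rw [e]; exact one_mem _))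
      (hcc x hx) hg
  -- every involution commuting with `x` acts as one of four elements
  have hkey : ∀ (x : ↥(A ⊔ B)) (hx : orderOf x = 2) (j : ↥(A ⊔ B)), orderOf j = 2 → Commute x j →
      ∃ k, (j : G) * dd k ∈ centralizer ((C x hx ⊔ E x hx : Subgroup G) : Set G) := by
    intro x hx j hj hxj
    have hxo : orderOf (x : G) = 2 := by rwa [orderOf_coe]
    have hL' := hP.pure _ (hC x hx) _ (hE x hx) (hCE x hx)
    have hncent : ∀ w ∈ W, w ≠ 1 → w ∉ centralizer ((C x hx ⊔ E x hx : Subgroup G) : Set G) :=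
      fun w hw hw1 => not_cent_of_type hP hA hB hAB x.2 hxo hdW (hC x hx) (hE x hx) (hCE x hx)
        (hcc x hx) hw hw1
    obtain ⟨m, cm, hm, hmo, hcm, em, -, -⟩ := invol_split hP (hC x hx) (hE x hx) (hCE x hx) (sq_one hz)
      hA (hzA z hzW) (hnorm x hx z ((hcl x x.2 z hzW).symm.mul_right hdz.symm))
      (hncent z hzW (ne_one_two hz))
    obtain ⟨m', cm', hm', hmo', hcm', em', -, -⟩ := invol_split hP (hC x hx) (hE x hx) (hCE x hx)
      (sq_one hz') hA (hzA z' hz'W) (hnorm x hx z' ((hcl x x.2 z' hz'W).symm.mul_right hdz'.symm))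
      (hncent z' hz'W (ne_one_two hz'))
    set K := C x hx ⊔ E x hx with hK
    have hcK : ∀ l ∈ K, ∀ c ∈ centralizer (K : Set G), Commute l c := fun l hl c hc =>
      mem_centralizer_iff.1 hc l hl
    have hmne : m ≠ m' := fun e => by
      refine hncent (z * z') (mul_mem hzW hz'W) hzz'1 ?_
      rw [em, em', ← e, mul_assoc m cm, ← mul_assoc cm m, ← (hcK m hm cm hcm).eq,
        mul_assoc m cm cm', ← mul_assoc, sq_one hmo, one_mul]
      exact mul_mem hcm hcm'
    have hmm' : m * m' = m' * m := by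
      have e1 : z * z' = (m * m') * (cm * cm') := by
        rw [em, em', mul_assoc m cm, ← mul_assoc cm m', ← (hcK m' hm' cm hcm).eq]; group
      have e2 : z' * z = (m' * m) * (cm' * cm) := by
        rw [em, em', mul_assoc m' cm', ← mul_assoc cm' m, ← (hcK m hm cm' hcm').eq]; group
      exact (split_unique hP (hC x hx) (hE x hx) (hCE x hx) (mul_mem hm hm') (mul_mem hm' hm)
        (mul_mem hcm hcm') (mul_mem hcm' hcm) (by rw [← e1, ← e2, hzz'.eq])).1
    have hjK : cj (j : G) K = K := hnorm x hx j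
      ((show Commute (j : G) x from (congrArg Subtype.val hxj.eq).symm).mul_right (hcl j j.2 d hdW))
    have hfix : ∀ n cn w, n ∈ K → cn ∈ centralizer (K : Set G) → w ∈ W → w = n * cn →
        (j : G) * n * (j : G)⁻¹ = n := by
      intro n cn w hn hcn hw e
      refine (split_unique hP (hC x hx) (hE x hx) (hCE x hx) (hjK.le (conj_mem_cj hn)) hn
        ((show cj (j : G) (centralizer (K : Set G)) ≤ centralizer (K : Set G) by
          rw [cj_centralizer, hjK]) (conj_mem_cj hcn)) hcn ?_).1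
      calc (j : G) * n * (j : G)⁻¹ * ((j : G) * cn * (j : G)⁻¹) = (j : G) * (n * cn) * (j : G)⁻¹ := by
            group
        _ = n * cn := by rw [← e, (hcl j j.2 w hw).eq, mul_inv_cancel_right]
    obtain ⟨v, hv, hφ⟩ := hL'.four_cent (x := ⟨m, hm⟩) (y := ⟨m', hm'⟩) (by rwa [orderOf_mk])
      (by rwa [orderOf_mk]) (fun e => hmne (congrArg Subtype.val e)) (Subtype.ext hmm') (φ := aut hjK)
      (aut_sq hjK (sq_one (by rwa [orderOf_coe])))
      (Subtype.ext (hfix m cm z hm hcm hzW em)) (Subtype.ext (hfix m' cm' z' hm' hcm' hz'W em'))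
    have hvj : (v : G)⁻¹ * j ∈ centralizer (K : Set G) := aut_eq_conj hjK hφ
    have hvv : (v : G) * v = 1 := by
      rcases hv with rfl | rfl | rfl | rfl
      · simp
      · exact sq_one hmo
      · exact sq_one hmo'
      · show m * m' * (m * m') = 1
        rw [← pow_two, (show Commute m m' from hmm').mul_pow, pow_two, pow_two, sq_one hmo,
          sq_one hmo', one_mul]
    obtain ⟨k, c, hc, hk⟩ : ∃ k, ∃ c ∈ centralizer (K : Set G), dd k = (v : G) * c := by
      rcases hv with rfl | rfl | rfl | rfl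
      · exact ⟨0, 1, one_mem _, by simp [dd]⟩
      · exact ⟨1, cm, hcm, em⟩
      · exact ⟨2, cm', hcm', em'⟩
      · refine ⟨3, cm * cm', mul_mem hcm hcm', ?_⟩
        show z * z' = m * m' * (cm * cm')
        rw [em, em', mul_assoc m cm, ← mul_assoc cm m', ← (hcK m' hm' cm hcm).eq]; group
    refine ⟨k, ?_⟩
    have e : (j : G) * dd k = ((v : G)⁻¹ * j) * c := by
      rw [hk, inv_eq_of_mul_eq_one_right hvv, ← mul_assoc]
      congr 1
      have h1 := hcK v v.2 _ hvj
      have h2 : (v : G) * ((v : G)⁻¹ * j) = ((v : G)⁻¹ * j) * v := h1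
      rw [mul_inv_cancel_left, inv_eq_of_mul_eq_one_right hvv] at h2
      calc (j : G) * v = (v : G) * j * v * v := h2 ▸ rfl
        _ = (v : G) * j := by rw [mul_assoc _ (v : G) v, hvv, mul_one]
    exact e ▸ mul_mem hvj hc
  -- pigeonhole
  obtain ⟨s, hs, hsp⟩ := hL.five_invol (x := ⟨x₀, hx₀⟩) (by rwa [orderOf_mk])
  have hk' : ∀ x : s, ∃ k, x₀ * dd k ∈
      centralizer ((C x.1 (hsp _ x.2).1 ⊔ E x.1 (hsp _ x.2).1 : Subgroup G) : Set G) := fun x =>
    hkey x.1 (hsp _ x.2).1 ⟨x₀, hx₀⟩ (by rwa [orderOf_mk]) (hsp _ x.2).2.symm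
  choose k hk using hk'
  obtain ⟨x, x', hxx', hkk⟩ := Fintype.exists_ne_map_eq_of_card_lt k
    (by rw [Fintype.card_fin, Fintype.card_coe]; omega)
  have hxo := (hsp _ x.2).1
  have hxo' := (hsp _ x'.2).1
  set C₁ := C x.1 hxo
  set E₁ := E x.1 hxo
  have hLeq : C x'.1 hxo' ⊔ E x'.1 hxo' = C₁ ⊔ E₁ := line_unique hP (hC _ _) (hE _ _) (hCE _ _)
    (fun e => prod_ne_one hP hA hB hAB hx₀ hx₀o (hddW (k x)) (by rw [e]; exact one_mem _)) (hk x)
    (hC _ _) (hE _ _) (hCE _ _) (hkk ▸ hk x')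
  set H : Subgroup ↥(A ⊔ B) :=
    (normalizer ((C₁ ⊔ E₁ : Subgroup G) : Set G)).subgroupOf (A ⊔ B) with hH
  have hCH : ∀ y : ↥(A ⊔ B), ∀ hy : orderOf y = 2, C y hy ⊔ E y hy = C₁ ⊔ E₁ →
      centralizer ({y} : Set ↥(A ⊔ B)) ≤ H := fun y hy e h hh => by
    refine cj_eq_self_iff.1 ?_
    rw [← e]
    exact hnorm y hy h ((show Commute (h : G) y from congrArg Subtype.val
      (mem_centralizer_singleton_iff.1 hh)).mul_right (hcl h h.2 d hdW))
  have h1 := hCH x.1 hxo rfl
  have h2 := hCH x'.1 hxo' hLeq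
  have h12 : 12 ∣ Nat.card H := hL.card_centralizer_invol hxo ▸ card_dvd_of_le h1
  have hne12 : Nat.card H ≠ 12 := fun e => hxx' (Subtype.ext (hL.centralizer_inj hxo hxo'
    ((Subgroup.eq_of_le_of_card_ge h1 (by rw [e, hL.card_centralizer_invol hxo])).trans
      (Subgroup.eq_of_le_of_card_ge h2 (by rw [e, hL.card_centralizer_invol hxo'])).symm)))
  obtain ⟨hsimp, h5⟩ := hL.big_sub h12 hne12
  let K₁ : Subgroup H :=
    (centralizer ((C₁ ⊔ E₁ : Subgroup G) : Set G)).comap ((A ⊔ B).subtype.comp H.subtype)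
  have hK₁ : K₁.Normal := ⟨fun a ha b => by
    have hb : cj ((b : ↥(A ⊔ B)) : G) (C₁ ⊔ E₁) = C₁ ⊔ E₁ := cj_eq_self_iff.2 b.2
    have h := conj_mem_cj (g := ((b : ↥(A ⊔ B)) : G))
      (show ((a : ↥(A ⊔ B)) : G) ∈ centralizer ((C₁ ⊔ E₁ : Subgroup G) : Set G) from ha)
    rw [cj_centralizer, hb] at h
    exact h⟩
  obtain ⟨t, ht, htp⟩ := hL.five_invol hxo
  have hk'' : ∀ j : t, ∃ k, ((j.1 : ↥(A ⊔ B)) : G) * dd k ∈
      centralizer ((C₁ ⊔ E₁ : Subgroup G) : Set G) := fun j =>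
    hkey x.1 hxo j.1 (htp _ j.2).1 (htp _ j.2).2
  choose k' hk' using hk''
  obtain ⟨j, j', hjj', hkk'⟩ := Fintype.exists_ne_map_eq_of_card_lt k'
    (by rw [Fintype.card_fin, Fintype.card_coe]; omega)
  have hjH : ∀ i : t, i.1 ∈ H := fun i =>
    h1 (mem_centralizer_singleton_iff.2 (htp _ i.2).2.symm.eq)
  have htop : K₁ = ⊤ := by
    refine hK₁.eq_bot_or_eq_top.resolve_left fun e => hjj' (Subtype.ext ?_)
    have hmem : (⟨j.1 * j'.1⁻¹, mul_mem (hjH j) (inv_mem (hjH j'))⟩ : H) ∈ K₁ := by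
      show ((j.1 * j'.1⁻¹ : ↥(A ⊔ B)) : G) ∈ centralizer ((C₁ ⊔ E₁ : Subgroup G) : Set G)
      have hmm := hk' j'
      rw [← hkk'] at hmm
      have := (centralizer ((C₁ ⊔ E₁ : Subgroup G) : Set G)).mul_mem (hk' j)
        ((centralizer ((C₁ ⊔ E₁ : Subgroup G) : Set G)).inv_mem hmm)
      rw [mul_inv_rev, ← mul_assoc, mul_inv_cancel_right] at this
      simpa using this
    rw [e, mem_bot] at hmem
    exact mul_inv_eq_one.1 (congrArg Subtype.val hmem)
  have := Fact.mk (by norm_num : Nat.Prime 5)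
  obtain ⟨⟨⟨w, hw⟩, hwH⟩, hwo⟩ := exists_prime_orderOf_dvd_card' (G := H) 5 h5
  rw [orderOf_mk, orderOf_mk] at hwo
  exact five_not_cent hP hA hB hAB hw hwo (hC x.1 hxo)
    (centralizer_le (SetLike.coe_subset_coe.2 le_sup_left)
      (show (⟨⟨w, hw⟩, hwH⟩ : H) ∈ K₁ from htop ▸ mem_top _))

include hP hA hB hAB in
/-- Commuting involutions centralising a line are equal. -/
theorem comm_unique {z z' : G} (hz : orderOf z = 2) (hz' : orderOf z' = 2)
    (hzW : z ∈ centralizer ((A ⊔ B : Subgroup G) : Set G))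
    (hz'W : z' ∈ centralizer ((A ⊔ B : Subgroup G) : Set G)) (hzz' : Commute z z') : z = z' := by
  by_contra hne
  obtain ⟨x, d, hx, hxo, hd, hdd, hdz, hLC⟩ := exists_type hP hA hB hAB hz hzW
  by_cases h : d = 1 ∨ d = z
  · exact no_four hP hA hB hAB hx hxo hz hz' hzW hz'W hzz' hne
      (h.imp_right Or.inl) hLC
  · push Not at h
    exact no_four hP hA hB hAB hx hxo hz (orderOf_two hdd h.1) hzW hd hdz.symm h.2.symm
      (Or.inr (Or.inr rfl)) hLC

set_option maxHeartbeats 800000 in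
include hP hA hB hAB in
/-- An involution centralising a line is self-centralising there. -/
theorem cent_invol {z : G} (hz : orderOf z = 2)
    (hzW : z ∈ centralizer ((A ⊔ B : Subgroup G) : Set G)) {w : G}
    (hw : w ∈ centralizer ((A ⊔ B : Subgroup G) : Set G)) (hwz : Commute w z) : w = 1 ∨ w = z := by
  obtain ⟨x, d, hx, hxo, hd, hdd, hdz, hLC⟩ := exists_type hP hA hB hAB hz hzW
  have hd' : d = 1 ∨ d = z := or_iff_not_imp_left.2 fun h =>
    comm_unique hP hA hB hAB (orderOf_two hdd h) hz hd hzW hdz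
  have hL := hP.pure A hA B hB hAB
  obtain ⟨⟨j, hj⟩, hjo, hjne, hxj⟩ := hL.exists_commuting (x := ⟨x, hx⟩) (by rwa [orderOf_mk])
  rw [orderOf_mk] at hjo
  have hjx : j ≠ x := fun e => hjne (Subtype.ext e)
  have hxj' : Commute x j := congrArg Subtype.val hxj.eq
  set W : Subgroup G := centralizer ((A ⊔ B : Subgroup G) : Set G) with hW
  have hcl : ∀ l ∈ A ⊔ B, ∀ v ∈ W, Commute l v := fun l hl v hv => mem_centralizer_iff.1 hv l hl
  obtain ⟨C', hC', E', hE', hCE', hjd⟩ := type_all hP hA hB hAB hx hxo hd hLC hj hjo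
  obtain ⟨C, hC, E, hE, hCE, hxd⟩ := hLC
  have hzA : z ∈ centralizer (A : Set G) := centralizer_le (SetLike.coe_subset_coe.2 le_sup_left) hzW
  set K := C ⊔ E with hK
  have hcK : ∀ l ∈ K, ∀ c ∈ centralizer (K : Set G), Commute l c := fun l hl c hc =>
    mem_centralizer_iff.1 hc l hl
  have hxd1 : x * d ≠ 1 := fun e => prod_ne_one hP hA hB hAB hx hxo hd (e ▸ one_mem _)
  have hnK : ∀ g : G, Commute g (x * d) → cj g K = K := fun g hg =>
    cj_of_commute hP hC hE hCE hxd1 hxd hg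
  have hdcomm : ∀ v, Commute v z → Commute v d := fun v hv => by
    rcases hd' with rfl | rfl; exacts [Commute.one_right _, hv]
  have hzK : cj z K = K := hnK z ((hcl x hx z hzW).symm.mul_right hdz.symm)
  obtain ⟨m, cm, hm, hmo, hcm, em, -, -⟩ := invol_split hP hC hE hCE (sq_one hz) hA hzA hzK
    (not_cent_of_type hP hA hB hAB hx hxo hd hC hE hCE hxd hzW (ne_one_two hz))
  have hjdc : Commute (j * d) (x * d) :=
    ((hxj'.symm.mul_right (hcl j hj d hd)).mul_left ((hcl x hx d hd).symm.mul_right (Commute.refl d)))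
  have hjd2 : (j * d) * (j * d) = 1 := by
    rw [← pow_two, (hcl j hj d hd).mul_pow, pow_two, pow_two, sq_one hjo, hdd, one_mul]
  have hjdne : j * d ∉ centralizer (K : Set G) := fun h => by
    have e := comm_unique hP hC hE hCE
      (orderOf_two hjd2 fun e => prod_ne_one hP hA hB hAB hj hjo hd (e ▸ one_mem _))
      (orderOf_two (by rw [← pow_two, (hcl x hx d hd).mul_pow, pow_two, pow_two, sq_one hxo, hdd,
        one_mul]) hxd1) h hxd hjdc
    exact hjx (mul_right_cancel e)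
  obtain ⟨n, cn, hn, hno, hcn, en, -, -⟩ := invol_split hP hC hE hCE hjd2 hC'
    (centralizer_le (SetLike.coe_subset_coe.2 le_sup_left) hjd) (hnK _ hjdc) hjdne
  have hzjd : Commute z (j * d) := (hcl j hj z hzW).symm.mul_right hdz.symm
  have hmn : m * n = n * m := by
    have e1 : z * (j * d) = (m * n) * (cm * cn) := by
      rw [em, en, mul_assoc m cm, ← mul_assoc cm n, ← (hcK n hn cm hcm).eq]; group
    have e2 : (j * d) * z = (n * m) * (cn * cm) := by
      rw [em, en, mul_assoc n cn, ← mul_assoc cn m, ← (hcK m hm cn hcn).eq]; group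
    exact (split_unique hP hC hE hCE (mul_mem hm hn) (mul_mem hn hm)
      (mul_mem hcm hcn) (mul_mem hcn hcm) (by rw [← e1, ← e2, hzjd.eq])).1
  have hmne : m ≠ n := fun e => by
    have h1 : z * (j * d) ∈ centralizer (K : Set G) := by
      rw [em, en, ← e, mul_assoc m cm, ← mul_assoc cm m, ← (hcK m hm cm hcm).eq,
        mul_assoc m cm cn, ← mul_assoc, sq_one hmo, one_mul]
      exact mul_mem hcm hcn
    have h2 : (z * (j * d)) * (z * (j * d)) = 1 := by
      rw [← pow_two, hzjd.mul_pow, pow_two, pow_two, sq_one hz, hjd2, one_mul]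
    have hzd : z * d ∈ W := mul_mem hzW hd
    have e3 : z * (j * d) = j * (z * d) := by
      rw [← mul_assoc, ← (hcl j hj z hzW).eq, mul_assoc]
    have hxj2 : Commute (j * (z * d)) (x * d) := by
      refine (hxj'.symm.mul_right (hcl j hj d hd)).mul_left ?_
      exact ((hcl x hx _ hzd).symm).mul_right (hdz.symm.mul_left (Commute.refl d))
    have e := comm_unique hP hC hE hCE
      (orderOf_two h2 fun e => prod_ne_one hP hA hB hAB hj hjo hzd (e3 ▸ e ▸ one_mem _))
      (orderOf_two (by rw [← pow_two, (hcl x hx d hd).mul_pow, pow_two, pow_two, sq_one hxo, hdd,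
        one_mul]) hxd1) h1 hxd (e3 ▸ hxj2)
    rw [e3] at e
    obtain ⟨e4, -⟩ := split_unique hP hA hB hAB hj hx hzd hd e
    exact hjx e4
  -- elements of `W` commuting with `z`
  have hfix : ∀ v ∈ W, Commute v z → ∀ hvK : cj v K = K,
      aut hvK ⟨m, hm⟩ = ⟨m, hm⟩ ∧ aut hvK ⟨n, hn⟩ = ⟨n, hn⟩ := by
    intro v hv hvz hvK
    have key : ∀ a ca b, a ∈ K → ca ∈ centralizer (K : Set G) → Commute v b → b = a * ca →
        v * a * v⁻¹ = a := by
      intro a ca b ha hca hvb e
      refine (split_unique hP hC hE hCE (hvK.le (conj_mem_cj ha)) ha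
        ((show cj v (centralizer (K : Set G)) ≤ centralizer (K : Set G) by
          rw [cj_centralizer, hvK]) (conj_mem_cj hca)) hca ?_).1
      calc v * a * v⁻¹ * (v * ca * v⁻¹) = v * (a * ca) * v⁻¹ := by group
        _ = a * ca := by rw [← e, hvb.eq, mul_inv_cancel_right]
    exact ⟨Subtype.ext (key m cm z hm hcm hvz em),
      Subtype.ext (key n cn (j * d) hn hcn ((hcl j hj v hv).symm.mul_right (hdcomm v hvz)) en)⟩
  have hvK : ∀ v ∈ W, Commute v z → cj v K = K := fun v hv hvz =>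
    hnK v ((hcl x hx v hv).symm.mul_right (hdcomm v hvz))
  have hLK := hP.pure C hC E hE hCE
  have hmn' : Commute (⟨m, hm⟩ : ↥K) ⟨n, hn⟩ := Subtype.ext hmn
  have hne' : (⟨m, hm⟩ : ↥K) ≠ ⟨n, hn⟩ := fun e => hmne (congrArg Subtype.val e)
  have hodd : ∀ v ∈ W, Commute v z → Odd (orderOf v) → v = 1 := by
    intro v hv hvz ho
    obtain ⟨l, hl, hlc⟩ := split_odd hP hC hE hCE (hvK v hv hvz) ho
    obtain ⟨h1, h2⟩ := hfix v hv hvz (hvK v hv hvz)
    have hconj : ∀ a : ↥K, aut (hvK v hv hvz) a = a → Commute (⟨l, hl⟩ : ↥K) a := by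
      intro a ha
      have h3 : v * (a : G) * v⁻¹ = a := congrArg Subtype.val ha
      have h4 : (l⁻¹ * v) * (a : G) * (l⁻¹ * v)⁻¹ = a := by
        rw [← (hcK a a.2 _ hlc).eq, mul_inv_cancel_right]
      refine Subtype.ext (mul_inv_eq_iff_eq_mul.1 ?_)
      show l * (a : G) * l⁻¹ = a
      calc l * (a : G) * l⁻¹ = l * ((l⁻¹ * v) * (a : G) * (l⁻¹ * v)⁻¹) * l⁻¹ := by rw [h4]
        _ = v * (a : G) * v⁻¹ := by group
        _ = a := h3
    have hll := hLK.mem_four_of_commute (x := ⟨m, hm⟩) (y := ⟨n, hn⟩) (by rwa [orderOf_mk])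
      (by rwa [orderOf_mk]) hne' hmn' (hconj _ h1) (hconj _ h2)
    have hll' : l * l = 1 := congrArg Subtype.val hll
    have hcomm : Commute l (l⁻¹ * v) := hcK l hl _ hlc
    have hv2 : v * v ∈ centralizer (K : Set G) := by
      have : v * v = (l⁻¹ * v) * (l⁻¹ * v) := by
        have h := hcomm.mul_pow 2
        rw [mul_inv_cancel_left, pow_two, pow_two, pow_two, hll', one_mul] at h
        exact h
      rw [this]; exact mul_mem hlc hlc
    have hv1 : v * v = 1 := by
      by_contra hne1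
      exact not_cent_of_type hP hA hB hAB hx hxo hd hC hE hCE hxd (mul_mem hv hv) hne1 hv2
    have : orderOf v ∣ 2 := orderOf_dvd_of_pow_eq_one (by rw [pow_two, hv1])
    rcases (Nat.dvd_prime Nat.prime_two).1 this with h | h
    · exact orderOf_eq_one_iff.1 h
    · rw [h] at ho; exact absurd ho (by decide)
  by_contra hcon
  push Not at hcon
  obtain ⟨a, b, hb, hab⟩ := Nat.exists_eq_two_pow_mul_odd (orderOf_pos w).ne'
  have hb1 : b = 1 := by
    by_contra hb1
    have h := hodd (w ^ (2 ^ a)) (pow_mem hw _) (hwz.pow_left _)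
    have ho : orderOf (w ^ (2 ^ a)) = b := by
      rw [orderOf_pow' _ (by positivity), hab, Nat.gcd_eq_right (dvd_mul_right _ _),
        Nat.mul_div_cancel_left _ (by positivity)]
    rw [ho] at h
    rw [h hb, orderOf_one] at ho
    exact hb1 ho.symm
  rw [hb1, mul_one] at hab
  rcases a with _ | _ | a
  · rw [pow_zero, orderOf_eq_one_iff] at hab
    exact hcon.1 hab
  · exact hcon.2 (comm_unique hP hA hB hAB (by rw [hab]; norm_num) hz hw hzW hwz)
  · set q := w ^ (2 ^ a) with hq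
    have hqo : orderOf q = 4 := by
      rw [hq, orderOf_pow' _ (by positivity), hab,
        Nat.gcd_eq_right (pow_dvd_pow 2 (by omega : a ≤ a + 1 + 1)),
        Nat.pow_div (by omega) (by norm_num), show a + 1 + 1 - a = 2 by omega]
    have hqW : q ∈ W := pow_mem hw _
    have hqz : Commute q z := hwz.pow_left _
    have hq2o : orderOf (q * q) = 2 := by
      rw [← pow_two, orderOf_pow' _ two_ne_zero, hqo]; norm_num
    have hqq : q * q = z := comm_unique hP hA hB hAB hq2o hz (mul_mem hqW hqW) hzW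
      (hqz.mul_left hqz)
    have hqK := hvK q hqW hqz
    obtain ⟨h1, h2⟩ := hfix q hqW hqz hqK
    refine hLK.four_sq (x := ⟨m, hm⟩) (y := ⟨n, hn⟩) (by rwa [orderOf_mk]) (by rwa [orderOf_mk])
      hne' hmn' h1 h2 (MulEquiv.ext fun a => Subtype.ext ?_)
    show q * (q * (a : G) * q⁻¹) * q⁻¹ = m * (a : G) * m⁻¹
    calc q * (q * (a : G) * q⁻¹) * q⁻¹ = (q * q) * (a : G) * (q * q)⁻¹ := by group
      _ = m * (cm * (a : G) * cm⁻¹) * m⁻¹ := by rw [hqq, em]; group
      _ = _ := by rw [← (hcK a a.2 cm hcm).eq, mul_inv_cancel_right]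

end Cfsg.Agent.Lib.OrdElevenPairs.Sys
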