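import Cfsg.Agent.Lib.OrdElevenPairs.Block

/-!
# The members fixed by an involution of a block
-/

set_option autoImplicit false
set_option linter.unusedSectionVars false

namespace Cfsg.Agent.Lib.OrdElevenPairs.Sys

open Cfsg.Agent.Lib.PairOdd Subgroup

universe u

variable {G : Type u} [Group G] [Finite G] {S : Sys G}

namespace Blk

variable {M : Subgroup G} (hM : S.Blk M) {A : Subgroup G} (hA : A ∈ S.D) (hAM : A ≤ M)
include hM hA hAM

theorem card_sub : Nat.card (A.subgroupOf M) = 11 := by rw [card_subgroupOf hAM, S.card A hA]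

theorem exists_invol : ∃ t ∈ M, orderOf t = 2 ∧ cj t A = A := by
  obtain ⟨t, ht, htA⟩ := hM.isK.exists_invol_normalizer (hM.card_sub hA hAM)
  refine ⟨t, t.2, by rwa [orderOf_coe], ?_⟩
  rw [cj_subgroupOf] at htA
  exact subgroupOf_inj (cj_le_of_mem (cj_self t.2) hAM) hAM htA

theorem exists_torus {t : G} (htM : t ∈ M) (ht : orderOf t = 2) (htA : cj t A = A) :
    ∃ (u : G) (s : ZMod 11), u ∈ M ∧ orderOf u = 5 ∧ Commute t u ∧ s ≠ 1 ∧ s ^ 5 = 1 ∧
      Acts (MulAut.conj u) A s := by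
  obtain ⟨u, s, hu, htu, hs1, hs5, -, hs⟩ := hM.isK.exists_torus (hM.card_sub hA hAM)
    (t := ⟨t, htM⟩) (by rwa [orderOf_mk]) (by rw [cj_subgroupOf, htA])
  exact ⟨u, s, u.2, by rwa [orderOf_coe], congrArg Subtype.val htu.eq, hs1, hs5,
    (conj_acts_iff hAM u).1 hs⟩

theorem exists_invol_commute {k : G} (hkM : k ∈ M) (hk : orderOf k = 5) (hkA : cj k A = A) :
    ∃ t ∈ M, orderOf t = 2 ∧ cj t A = A ∧ Commute t k := by
  obtain ⟨t, ht, htA, htk⟩ := hM.isK.exists_invol_commute (hM.card_sub hA hAM) (k := ⟨k, hkM⟩)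
    (by rwa [orderOf_mk]) (by rw [cj_subgroupOf, hkA])
  rw [cj_subgroupOf] at htA
  exact ⟨t, t.2, by rwa [orderOf_coe], subgroupOf_inj (cj_le_of_mem (cj_self t.2) hAM) hAM htA,
    congrArg Subtype.val htk.eq⟩

theorem antipode {t u : G} (htM : t ∈ M) (ht : orderOf t = 2) (htA : cj t A = A) (huM : u ∈ M)
    (hu : orderOf u = 5) (htu : Commute t u) {c : ZMod 11} (hc : Acts (MulAut.conj u) A c) :
    ∃ A' ∈ S.D, A' ≤ M ∧ A' ≠ A ∧ cj t A' = A' ∧ Acts (MulAut.conj u) A' c⁻¹ := by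
  have huA : cj u A = A := hc.mv_eq (S.card A hA)
  have ht' : orderOf (⟨t, htM⟩ : M) = 2 := by rwa [orderOf_mk]
  have hu' : orderOf (⟨u, huM⟩ : M) = 5 := by rwa [orderOf_mk]
  have htA' : cj (⟨t, htM⟩ : M) (A.subgroupOf M) = A.subgroupOf M := by rw [cj_subgroupOf, htA]
  have huA' : cj (⟨u, huM⟩ : M) (A.subgroupOf M) = A.subgroupOf M := by rw [cj_subgroupOf, huA]
  have htu' : Commute (⟨t, htM⟩ : M) ⟨u, huM⟩ := Subtype.ext htu.eq
  obtain ⟨Y, hY, hne, htY, huY, -⟩ :=
    hM.isK.antipode (hM.card_sub hA hAM) ht' htA' hu' htu' huA'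
  have hmul := hM.isK.antipode_mult (hM.card_sub hA hAM) ht' htA' hu' htu' huA'
    ((conj_acts_iff hAM ⟨u, huM⟩).2 hc) hY htY huY hne
  have hle : Y.map M.subtype ≤ M := map_subtype_le Y
  have hY' : Nat.card (Y.map M.subtype) = 11 := by
    rw [card_map_of_injective M.subtype_injective, hY]
  refine ⟨_, hM.mem _ hY' hle, hle, fun e => hne (by rw [← map_subgroupOf Y, e]), ?_, ?_⟩
  · refine subgroupOf_inj (cj_le_of_mem (cj_self htM) hle) hle ?_
    rw [← cj_subgroupOf ⟨t, htM⟩, map_subgroupOf, htY]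
  · exact (conj_acts_iff hle ⟨u, huM⟩).1 (by rwa [map_subgroupOf])

end Blk

variable {A X Y : Subgroup G}

theorem acts_neg {t : G} (ht : orderOf t = 2) (hA : A ∈ S.D) (hX : X ∈ S.D)
    (htA : Acts (MulAut.conj t) A (-1)) (htX : cj t X = X) : Acts (MulAut.conj t) X (-1) := by
  obtain ⟨c, -, hc⟩ := exists_acts (φ := MulAut.conj t) (S.card X hX) htX
  have h2 := hc.mul (S.card X hX) hc
  rw [← map_mul, ← pow_two, ← ht, pow_orderOf_eq_one, map_one] at h2
  rcases mul_self_eq_one_iff.1 (h2.unique (S.card X hX) acts_one) with h | h <;> subst h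
  · exact absurd (acts_eq_one hX hA (acts_conj_iff.1 hc) htA) (by decide)
  · exact hc

theorem mult_ne_one {g : G} {s d : ZMod 11} (hA : A ∈ S.D) (hX : X ∈ S.D)
    (hs : Acts (MulAut.conj g) A s) (hs1 : s ≠ 1) (hd : Acts (MulAut.conj g) X d) : d ≠ 1 := by
  rintro rfl
  exact hs1 (acts_eq_one hX hA (acts_conj_iff.1 hd) hs)

theorem five_pow {g : G} {s : ZMod 11} (hA : A ∈ S.D) (hg : orderOf g = 5)
    (hs : Acts (MulAut.conj g) A s) : s ^ 5 = 1 := by
  have := hs.pow (S.card A hA) 5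
  rw [← map_pow, ← hg, pow_orderOf_eq_one, map_one] at this
  rw [hg] at this
  exact this.unique (S.card A hA) acts_one

variable (hS : S.Ctx)
include hS

/-- Two members fixed by commuting elements of order two and five have inverse multipliers. -/
theorem pair_mult {t g : G} (hA : A ∈ S.D) (hX : X ∈ S.D) (hAX : A ≠ X) (ht : orderOf t = 2)
    (htA : Acts (MulAut.conj t) A (-1)) (htX : cj t X = X) (hg : orderOf g = 5) (htg : Commute t g)
    {s : ZMod 11} (hs : Acts (MulAut.conj g) A s) (hs1 : s ≠ 1) (hgX : cj g X = X) :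
    Acts (MulAut.conj g) X s⁻¹ := by
  have hgA : cj g A = A := hs.mv_eq (S.card A hA)
  have hgN := cj_pair hgA hgX
  have hA' : Nat.card (A.subgroupOf (A ⊔ X)) = 11 := by rw [card_subgroupOf le_sup_left, S.card A hA]
  have hX' : Nat.card (X.subgroupOf (A ⊔ X)) = 11 := by rw [card_subgroupOf le_sup_right, S.card X hX]
  have hne : A.subgroupOf (A ⊔ X) ≠ X.subgroupOf (A ⊔ X) := fun e =>
    hAX (subgroupOf_inj le_sup_left le_sup_right e)
  rcases S.pair A hA X hX hAX with h | h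
  · exact (acts_aut hgN le_sup_right).1 (h.acts_inv hA' hX' hne ((acts_aut hgN le_sup_left).2 hs)
      (by rw [mv_aut, hgX]))
  · have hN := blk_of_pair hA hX hAX h
    have htN := hN.invol_mem hS ht (cj_pair (htA.mv_eq (S.card A hA)) htX)
    obtain ⟨k, hk, hc⟩ := hN.exists_split hgN
    obtain ⟨hk5, -⟩ := hN.split_pow hk hc (n := 5) (by rw [← hg, pow_orderOf_eq_one])
    have hcA : Acts (MulAut.conj (k⁻¹ * g)) A 1 :=
      acts_conj_iff.2 (centralizer_le (SetLike.coe_subset_coe.2 le_sup_left) hc)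
    have hkA : Acts (MulAut.conj k) A s := by
      have := hs.mul (S.card A hA) (hcA.inv (S.card A hA))
      rwa [inv_one, mul_one, ← map_inv, ← map_mul, mul_inv_rev, inv_inv, mul_inv_cancel_left] at this
    have hk1 : k ≠ 1 := fun e => hs1 (by
      rw [e, map_one] at hkA
      exact hkA.unique (S.card A hA) acts_one)
    have hkt : Commute t k := by
      have h1 : Commute t (k⁻¹ * g)⁻¹ :=
        (show Commute t (k⁻¹ * g) from mem_centralizer_iff.1 hc t htN).inv_right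
      have := htg.mul_right h1
      rwa [mul_inv_rev, inv_inv, mul_inv_cancel_left] at this
    have hcX : Acts (MulAut.conj (k⁻¹ * g)) X 1 :=
      acts_conj_iff.2 (centralizer_le (SetLike.coe_subset_coe.2 le_sup_right) hc)
    have hkX : cj k X = X := by
      calc cj k X = cj k (cj (k⁻¹ * g) X) := by
            rw [show cj (k⁻¹ * g) X = X from hcX.mv_eq (S.card X hX)]
        _ = X := by rw [← cj_mul, mul_inv_cancel_left, hgX]
    have hm := h.antipode_mult hA' (t := ⟨t, htN⟩) (u := ⟨k, hk⟩) (by rwa [orderOf_mk])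
      (by rw [cj_subgroupOf, show cj t A = A from htA.mv_eq (S.card A hA)])
      (by rw [orderOf_mk]; exact orderOf_eq_prime (hp := ⟨by norm_num⟩) hk5 hk1)
      (Subtype.ext hkt.eq) (by rw [cj_subgroupOf, show cj k A = A from hkA.mv_eq (S.card A hA)])
      ((conj_acts_iff le_sup_left ⟨k, hk⟩).2 hkA) hX' (by rw [cj_subgroupOf, htX])
      (by rw [cj_subgroupOf, hkX]) (Ne.symm hne)
    have := ((conj_acts_iff le_sup_right ⟨k, hk⟩).1 hm).mul (S.card X hX) hcX
    rwa [← map_mul, mul_inv_cancel_left, mul_one] at this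

/-- Commuting elements of order two and five fix at most two members. -/
theorem fix_two {t g : G} (hA : A ∈ S.D) (hX : X ∈ S.D) (hY : Y ∈ S.D) (hXA : X ≠ A) (hYA : Y ≠ A)
    (ht : orderOf t = 2) (htA : Acts (MulAut.conj t) A (-1)) (htX : cj t X = X) (htY : cj t Y = Y)
    (hg : orderOf g = 5) (htg : Commute t g) {s : ZMod 11} (hs : Acts (MulAut.conj g) A s)
    (hs1 : s ≠ 1) (hgX : cj g X = X) (hgY : cj g Y = Y) : X = Y := by
  by_contra hne
  have h1 := pair_mult hS hA hX hXA.symm ht htA htX hg htg hs hs1 hgX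
  have h2 := pair_mult hS hA hY hYA.symm ht htA htY hg htg hs hs1 hgY
  have h3 := pair_mult hS hX hY hne ht (acts_neg ht hA hX htA htX) htY hg htg h1
    (mult_ne_one hA hX hs hs1 h1) hgY
  rw [inv_inv] at h3
  have key : ∀ s : ZMod 11, s ^ 5 = 1 → s = s⁻¹ → s = 1 := by decide +kernel
  exact hs1 (key s (five_pow hA hg hs) (h3.unique (S.card Y hY) h2))

variable {M : Subgroup G} (hM : S.Blk M)
include hM

set_option maxHeartbeats 800000 in
/-- An involution of a block makes blocks of all pairs of its fixed members. -/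
theorem pair_K {t : G} (htM : t ∈ M) (ht : orderOf t = 2) (hA : A ∈ S.D) (hAM : A ≤ M)
    (htA : cj t A = A) (hX : X ∈ S.D) (htX : cj t X = X) (hXA : X ≠ A) : IsK ↥(A ⊔ X) := by
  rcases S.pair A hA X hX hXA.symm with hL | hK
  swap
  · exact hK
  exfalso
  have htt := hM.acts_invol htM ht hA hAM htA
  obtain ⟨u, s, huM, hu, htu, hs1, -, hs⟩ := hM.exists_torus hA hAM htM ht htA
  obtain ⟨A', hA', hA'M, hA'A, htA', hsA'⟩ := hM.antipode hA hAM htM ht htA huM hu htu hs
  -- the antipodal pair generates the block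
  have hK' : IsK ↥(A ⊔ A') := by
    rcases S.pair A hA A' hA' hA'A.symm with h | h
    swap
    · exact h
    exfalso
    have hle : A ⊔ A' ≤ M := sup_le hAM hA'M
    have htL := cj_pair htA htA'
    have h1 : Acts (aut htL) (A.subgroupOf (A ⊔ A')) (-1) := (acts_aut htL le_sup_left).2 htt
    have h2 : Acts (aut htL) (A'.subgroupOf (A ⊔ A')) (-1) :=
      (acts_aut htL le_sup_right).2 (hM.acts_invol htM ht hA' hA'M htA')
    have hc1 : Nat.card (A.subgroupOf (A ⊔ A')) = 11 := by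
      rw [card_subgroupOf le_sup_left, S.card A hA]
    have hc2 : Nat.card (A'.subgroupOf (A ⊔ A')) = 11 := by
      rw [card_subgroupOf le_sup_right, S.card A' hA']
    have hne : A.subgroupOf (A ⊔ A') ≠ A'.subgroupOf (A ⊔ A') := fun e =>
      hA'A.symm (subgroupOf_inj le_sup_left le_sup_right e)
    -- a fixed Sylow two-subgroup
    have := Fact.mk Nat.prime_two
    have := Fintype.ofFinite (Sylow 2 ↥(A ⊔ A'))
    have hφ2 := aut_sq htL (show t * t = 1 by rw [← pow_two, ← ht, pow_orderOf_eq_one])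
    obtain ⟨P, hP⟩ := Equiv.Perm.exists_fixed_point_of_prime (α := Sylow 2 ↥(A ⊔ A')) (p := 2) (n := 1)
      (by
        rw [← Nat.card_eq_fintype_card]
        have := card_sylow_modEq_one 2 ↥(A ⊔ A')
        rw [Nat.ModEq] at this
        omega) (σ := MulAction.toPerm (aut htL)) (by
        ext P
        simp only [pow_one, pow_two, Equiv.Perm.mul_apply, MulAction.toPerm_apply, ← mul_smul, hφ2,
          one_smul, Equiv.Perm.one_apply])
    have hP4 : Nat.card (P : Subgroup ↥(A ⊔ A')) = 4 := by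
      rw [P.card_eq_multiplicity, h.card, show (660 : ℕ) = 2 ^ 2 * 165 by norm_num,
        Nat.factorization_mul (by norm_num) (by norm_num), Finsupp.add_apply,
        Nat.factorization_eq_zero_of_not_dvd (show ¬ 2 ∣ 165 by norm_num),
        Nat.Prime.factorization_pow Nat.prime_two, Finsupp.single_eq_same]
      norm_num
    have hst : ∀ x ∈ (P : Subgroup ↥(A ⊔ A')), aut htL x ∈ (P : Subgroup ↥(A ⊔ A')) := by
      intro x hx
      have hP' : (((aut htL) • P : Sylow 2 ↥(A ⊔ A')) : Subgroup ↥(A ⊔ A')) = P :=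
        congrArg (fun Q : Sylow 2 ↥(A ⊔ A') => (Q : Subgroup ↥(A ⊔ A'))) hP
      rw [Sylow.pointwise_smul_def] at hP'
      exact hP'.le ⟨x, hx, rfl⟩
    set R : Subgroup G := (P : Subgroup ↥(A ⊔ A')).map (A ⊔ A').subtype with hR
    have hRM : R ≤ M := (map_subtype_le _).trans hle
    have hR2 : IsPGroup 2 R := P.2.map _
    have hT2 : IsPGroup 2 (zpowers t) := IsPGroup.of_card (n := 1) (by rw [Nat.card_zpowers, ht, pow_one])
    have htR : zpowers t ≤ normalizer (R : Set G) := zpowers_le.2 (cj_eq_self_iff.1 (cj_eq_of_le (by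
      rintro _ ⟨_, ⟨x, hx, rfl⟩, rfl⟩
      exact ⟨aut htL x, hst x hx, rfl⟩)))
    have hsup : IsPGroup 2 ↥(zpowers t ⊔ R) := hT2.to_sup_of_normal_right' hR2 htR
    have hleM : zpowers t ⊔ R ≤ M := sup_le (zpowers_le.2 htM) hRM
    have hfix : ∀ x ∈ (P : Subgroup ↥(A ⊔ A')), aut htL x = x := by
      intro x hx
      have hxR : ((x : ↥(A ⊔ A')) : G) ∈ zpowers t ⊔ R := le_sup_right (a := zpowers t) ⟨x, hx, rfl⟩
      have ht' : t ∈ zpowers t ⊔ R := le_sup_left (b := R) (mem_zpowers t)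
      have hc := hM.isK.two_group_comm
        (hsup.of_equiv (subgroupOfEquivOfLe hleM).symm) (x := ⟨t, htM⟩) (y := ⟨x, hleM hxR⟩) ht' hxR
      exact Subtype.ext (mul_inv_eq_iff_eq_mul.2 (congrArg Subtype.val hc))
    obtain ⟨u₀, -, hu₀, -, -, -, -, -, hgen⟩ := h.exists_torus hc1 hc2 hne
    have hfixboth : ∀ x ∈ (P : Subgroup ↥(A ⊔ A')),
        cj x (A.subgroupOf (A ⊔ A')) = A.subgroupOf (A ⊔ A') →
        cj x (A'.subgroupOf (A ⊔ A')) = A'.subgroupOf (A ⊔ A') → x = 1 := by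
      intro x hx hxA hxA'
      have hd1 : orderOf x ∣ 4 := hP4 ▸ Subgroup.orderOf_dvd_natCard _ hx
      have hd2 : orderOf x ∣ 5 := by
        rw [← hu₀, ← Nat.card_zpowers u₀]
        exact Subgroup.orderOf_dvd_natCard _ (hgen x hxA hxA')
      exact orderOf_eq_one_iff.1 (Nat.eq_one_of_dvd_coprimes (by norm_num : Nat.Coprime 4 5) hd1 hd2)
    have hswap : ∀ x ∈ (P : Subgroup ↥(A ⊔ A')), x ≠ 1 →
        cj x (A.subgroupOf (A ⊔ A')) = A'.subgroupOf (A ⊔ A') ∧
        cj x (A'.subgroupOf (A ⊔ A')) = A.subgroupOf (A ⊔ A') := fun x hx hx1 =>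
      ((h.fixed_points hc1 hc2 hne h1 h2 x).1 (hfix x hx)).resolve_left
        fun e => hx1 (hfixboth x hx e.1 e.2)
    classical
    have := Fintype.ofFinite (P : Subgroup ↥(A ⊔ A'))
    obtain ⟨x, y, hx1, hy1, hxy⟩ : ∃ x y : (P : Subgroup ↥(A ⊔ A')), x ≠ 1 ∧ y ≠ 1 ∧ x ≠ y := by
      have : 1 < ((Finset.univ : Finset (P : Subgroup ↥(A ⊔ A'))).erase 1).card := by
        rw [Finset.card_erase_of_mem (Finset.mem_univ _), Finset.card_univ,
          ← Nat.card_eq_fintype_card, hP4]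
        norm_num
      obtain ⟨x, hx, y, hy, hne⟩ := Finset.one_lt_card.1 this
      exact ⟨x, y, Finset.ne_of_mem_erase hx, Finset.ne_of_mem_erase hy, hne⟩
    obtain ⟨hxA, hxA'⟩ := hswap x x.2 fun e => hx1 (Subtype.ext e)
    obtain ⟨hyA, hyA'⟩ := hswap y y.2 fun e => hy1 (Subtype.ext e)
    refine hxy (inv_mul_eq_one.1 (Subtype.ext (hfixboth _ ((x⁻¹ * y).2) ?_ ?_)))
    · rw [Subgroup.coe_mul, cj_mul, hyA, InvMemClass.coe_inv, ← hxA, cj_inv_cj]
    · rw [Subgroup.coe_mul, cj_mul, hyA', InvMemClass.coe_inv, ← hxA', cj_inv_cj]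
  -- the torus of the line
  have htN := cj_pair htA htX
  have hc1 : Nat.card (A.subgroupOf (A ⊔ X)) = 11 := by rw [card_subgroupOf le_sup_left, S.card A hA]
  have hc2 : Nat.card (X.subgroupOf (A ⊔ X)) = 11 := by rw [card_subgroupOf le_sup_right, S.card X hX]
  have hne : A.subgroupOf (A ⊔ X) ≠ X.subgroupOf (A ⊔ X) := fun e =>
    hXA.symm (subgroupOf_inj le_sup_left le_sup_right e)
  obtain ⟨v, s', hv, hs'1, -, hvA, hvX, hs', -⟩ := hL.exists_torus hc1 hc2 hne
  have hvt : Commute t (v : G) := by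
    have e := (hL.fixed_points hc1 hc2 hne ((acts_aut htN le_sup_left).2 htt)
      ((acts_aut htN le_sup_right).2 (acts_neg ht hA hX htt htX)) v).2 (Or.inl ⟨hvA, hvX⟩)
    exact mul_inv_eq_iff_eq_mul.1 (congrArg Subtype.val e)
  have hv5 : orderOf (v : G) = 5 := by rwa [orderOf_coe]
  rw [cj_subgroupOf] at hvA hvX
  have hvA : cj (v : G) A = A :=
    subgroupOf_inj (cj_le_of_mem (cj_self v.2) le_sup_left) le_sup_left hvA
  have hvX : cj (v : G) X = X :=
    subgroupOf_inj (cj_le_of_mem (cj_self v.2) le_sup_right) le_sup_right hvX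
  -- Sylow subgroups of `C(t) ∩ N(A)`
  have := Fact.mk (by norm_num : Nat.Prime 5)
  have huA : cj u A = A := hs.mv_eq (S.card A hA)
  obtain ⟨g, ⟨hgA, hgt⟩, hgv⟩ := exists_conj_into (p := 5)
    (H := normalizer (A : Set G) ⊓ centralizer ({t} : Set G)) (K := normalizer (A' : Set G)) (u := u)
    ⟨cj_eq_self_iff.1 huA, mem_centralizer_singleton_iff.2 htu.symm.eq⟩
    (cj_eq_self_iff.1 (hsA'.mv_eq (S.card A' hA'))) (n := 1) (by rw [pow_one, ← hu, pow_orderOf_eq_one])
    (fun h ⟨hhA, hht⟩ hh => by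
      refine cj_eq_self_iff.1 (fix_two hS hA (S.conj h A' hA') hA' ?_ hA'A ht htt ?_ htA' hu htu hs hs1
        ?_ (hsA'.mv_eq (S.card A' hA')))
      · intro e
        exact hA'A (by rw [← cj_inv_cj h A', e,
          cj_eq_self_iff.2 (inv_mem hhA)])
      · rw [← cj_mul, (mem_centralizer_singleton_iff.1 hht).symm, cj_mul, htA']
      · have e := cj_eq_self_iff.2 hh
        rw [cj_mul, cj_mul] at e
        rw [← cj_cj_inv h (cj u (cj h A')), e])
    (x := (v : G)) ⟨cj_eq_self_iff.1 hvA, mem_centralizer_singleton_iff.2 hvt.symm.eq⟩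
    (m := 1) (by rw [pow_one, ← hv5, pow_orderOf_eq_one])
  have hgA' : cj g A = A := cj_eq_self_iff.2 hgA
  have hgt' : Commute t g := (mem_centralizer_singleton_iff.1 hgt).symm
  have hact : Acts (MulAut.conj (g * (v : G) * g⁻¹)) A s' := by
    have := ((conj_acts_iff le_sup_left v).1 hs').transport (MulAut.conj g)
    rw [mv_conj, hgA'] at this
    simpa using this
  have hgX : cj g X = A' := by
    refine fix_two hS hA (S.conj g X hX) hA' ?_ hA'A ht htt ?_ htA' ?_
      ((hgt'.mul_right hvt).mul_right hgt'.inv_right) hact hs'1 ?_ (cj_eq_self_iff.2 hgv)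
    · intro e
      exact hXA (by rw [← cj_inv_cj g X, e, cj_eq_self_iff.2 (inv_mem hgA)])
    · rw [← cj_mul, hgt'.eq, cj_mul, htX]
    · rw [show g * (v : G) * g⁻¹ = MulAut.conj g v from rfl, MulEquiv.orderOf_eq, hv5]
    · rw [← cj_mul, inv_mul_cancel_right, cj_mul, hvX]
  have hc : Nat.card ↥(cj g (A ⊔ X)) = 660 := by rw [card_cj, hL.card]
  rw [cj_sup, hgA', hgX, hK'.card] at hc
  norm_num at hc

/-- Members have centralisers of odd order. -/
theorem odd_cA {Z : Subgroup G} (hZ : Z ∈ S.D) {z : G} (hzZ : z ∈ centralizer (Z : Set G)) :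
    orderOf z ≠ 2 := by
  obtain ⟨A₀, hA₀, hA₀M⟩ := hM.exists_member
  obtain ⟨g₀, hg₀⟩ := exists_conj hA₀ hZ
  have hM' := hM.cj_blk g₀
  have hZM : Z ≤ cj g₀ M := hg₀ ▸ cj_mono hA₀M
  intro ho
  obtain ⟨t, htM, ht, htZ⟩ := hM'.exists_invol hZ hZM
  have htt : t * t = 1 := by rw [← pow_two, ← ht, pow_orderOf_eq_one]
  obtain ⟨z', hz', ho', htz⟩ := exists_invol_commute (C := centralizer (Z : Set G)) htt
    (by rw [cj_centralizer, htZ])
    (ho ▸ Subgroup.orderOf_dvd_natCard _ hzZ)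
  have hzz : z' * z' = 1 := by rw [← pow_two, ← ho', pow_orderOf_eq_one]
  obtain ⟨u, s, huM, hu, htu, -, -, hs⟩ := hM'.exists_torus hZ hZM htM ht htZ
  obtain ⟨X, hX, hXM, hXZ, htX, -⟩ := hM'.antipode hZ hZM htM ht htZ huM hu htu hs
  have hK := pair_K hS hM' htM ht hZ hZM htZ hX htX hXZ
  have heq := hM'.eq_of_pair hZ hX hXZ.symm hZM hXM hK
  by_cases hfix : cj z' X = X
  · exact hM'.odd_cent hS (heq ▸ cent_pair hZ hX hXZ.symm hz' hfix) ho'
  · have hX' := S.conj z' X hX
    have htX' : cj t (cj z' X) = cj z' X := by rw [← cj_mul, htz.eq, cj_mul, htX]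
    have hN := blk_of_pair hX hX' (Ne.symm hfix) (pair_K hS hM' htM ht hX hXM htX hX' htX' hfix)
    have hzN : cj z' (X ⊔ cj z' X) = X ⊔ cj z' X := by
      rw [cj_sup, ← cj_mul, hzz, cj_one, sup_comm]
    obtain ⟨Y, hY, -, hneg⟩ := hN.exists_inverted (hN.invol_mem hS ho' hzN) ho'
    exact absurd (acts_eq_one hZ hY hz' hneg) (by decide)

/-- An involution fixing a member inverts it. -/
theorem invol_inverts {t : G} (hA : A ∈ S.D) (ht : orderOf t = 2) (htA : cj t A = A) :
    Acts (MulAut.conj t) A (-1) := by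
  obtain ⟨c, -, hc⟩ := exists_acts (φ := MulAut.conj t) (S.card A hA) htA
  have h2 := hc.mul (S.card A hA) hc
  rw [← map_mul, ← pow_two, ← ht, pow_orderOf_eq_one, map_one] at h2
  rcases mul_self_eq_one_iff.1 (h2.unique (S.card A hA) acts_one) with h | h <;> subst h
  · exact absurd ht (odd_cA hS hM hA (acts_conj_iff.1 hc))
  · exact hc

end Cfsg.Agent.Lib.OrdElevenPairs.Sys
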