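import Cfsg.Agent.Lib.OddOrder.FeitThompson
import Cfsg.Agent.Lib.OrdElevenPairs.Fixed

/-!
# The members fixed by an element of order five normalising a block
-/

set_option autoImplicit false
set_option linter.unusedSectionVars false

namespace Cfsg.Agent.Lib.OrdElevenPairs.Sys

open Cfsg.Agent.Lib.PairOdd Subgroup

universe u

variable {G : Type u} [Group G] [Finite G] {S : Sys G} (hS : S.Ctx)
include hS

theorem Blk.cj_of_conj_mem {M : Subgroup G} (hM : S.Blk M) {w g : G} (hw1 : w ≠ 1)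
    (hw : w ∈ centralizer (M : Set G)) (hg : g⁻¹ * w * g ∈ centralizer (M : Set G)) :
    cj g M = M := by
  obtain ⟨P, hP, Q, hQ, hPQ, rfl⟩ := hM.gen
  have key : ∀ Y ∈ S.D, Y ≤ P ⊔ Q → cj g Y ≤ P ⊔ Q := fun Y hY hYM => by
    refine hM.line_max hS hw1 hw (S.conj g Y hY) (mem_centralizer_iff.2 ?_)
    rintro _ ⟨y, hy, rfl⟩
    show g * y * g⁻¹ * w = w * (g * y * g⁻¹)
    calc g * y * g⁻¹ * w = g * (y * (g⁻¹ * w * g)) * g⁻¹ := by group
      _ = g * (g⁻¹ * w * g * y) * g⁻¹ := by rw [mem_centralizer_iff.1 hg y (hYM hy)]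
      _ = w * (g * y * g⁻¹) := by group
  refine cj_eq_of_le ?_
  rw [cj_sup]
  exact sup_le (key P hP le_sup_left) (key Q hQ le_sup_right)

section

variable {M : Subgroup G} (hM : S.Blk M) {A : Subgroup G} (hA : A ∈ S.D) (hAM : A ≤ M)
  {g : G} (hgM : cj g M = M) (hg : orderOf g = 5) {s : ZMod 11}
  (hs : Acts (MulAut.conj g) A s) (hs1 : s ≠ 1)

include hA hg hs hs1 in
theorem same_mult_K {X : Subgroup G} (hX : X ∈ S.D) (hAX : A ≠ X)
    (hsX : Acts (MulAut.conj g) X s) : IsK ↥(A ⊔ X) := by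
  rcases S.pair A hA X hX hAX with h | h
  · exfalso
    have hgN := cj_pair (hs.mv_eq (S.card A hA)) (hsX.mv_eq (S.card X hX))
    have h1 := (acts_aut hgN le_sup_left).2 hs
    have h2 := (acts_aut hgN le_sup_right).2 hsX
    have hX' : Nat.card (X.subgroupOf (A ⊔ X)) = 11 := by rw [card_subgroupOf le_sup_right, S.card X hX]
    have e := h.acts_inv (by rw [card_subgroupOf le_sup_left, S.card A hA]) hX'
      (fun e => hAX (subgroupOf_inj le_sup_left le_sup_right e)) h1 (h2.mv_eq hX')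
    have key : ∀ s : ZMod 11, s ^ 5 = 1 → s = s⁻¹ → s = 1 := by decide +kernel
    exact hs1 (key s (five_pow hA hg hs) (h2.unique hX' e))
  · exact h

include hM hA hAM hgM hg hs hs1 in
theorem five_split : ∃ k ∈ M, orderOf k = 5 ∧ k⁻¹ * g ∈ centralizer (M : Set G) ∧
    Acts (MulAut.conj k) A s := by
  obtain ⟨k, hk, hc⟩ := hM.exists_split hgM
  obtain ⟨hk5, -⟩ := hM.split_pow hk hc (n := 5) (by rw [← hg, pow_orderOf_eq_one])
  have hcA : Acts (MulAut.conj (k⁻¹ * g)) A 1 :=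
    acts_conj_iff.2 (centralizer_le (SetLike.coe_subset_coe.2 hAM) hc)
  have hkA : Acts (MulAut.conj k) A s := by
    have := hs.mul (S.card A hA) (hcA.inv (S.card A hA))
    rwa [inv_one, mul_one, ← map_inv, ← map_mul, mul_inv_rev, inv_inv, mul_inv_cancel_left] at this
  have hk1 : k ≠ 1 := fun e => hs1 (by
    rw [e, map_one] at hkA
    exact hkA.unique (S.card A hA) acts_one)
  exact ⟨k, hk, orderOf_eq_prime (hp := ⟨by norm_num⟩) hk5 hk1, hc, hkA⟩

include hM hA hAM hgM hg hs hs1 in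
/-- An element normalising `M`, centralising `A` and commuting with `g` centralises `M`. -/
theorem cent_M {x : G} (hxg : Commute x g) (hxA : x ∈ centralizer (A : Set G)) (hxM : cj x M = M) :
    x ∈ centralizer (M : Set G) := by
  obtain ⟨k, hk, hk5, hc, hkA⟩ := five_split hS hM hA hAM hgM hg hs hs1
  obtain ⟨m, hm, hmc⟩ := hM.exists_split hxM
  have hmA : m ∈ centralizer (A : Set G) := by
    have := mul_mem hxA (inv_mem (centralizer_le (SetLike.coe_subset_coe.2 hAM) hmc))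
    rwa [mul_inv_rev, inv_inv, mul_inv_cancel_left] at this
  have hmA' : m ∈ A :=
    hM.isK.mem_of_acts_one (hM.card_sub hA hAM) (m := ⟨m, hm⟩)
      ((conj_acts_iff hAM ⟨m, hm⟩).2 (acts_conj_iff.2 hmA))
  -- `m` commutes with `k`
  have hmk : m * k * m⁻¹ * k⁻¹ = 1 := by
    refine hM.cent_trivial (mul_mem (mul_mem (mul_mem hm hk) (inv_mem hm)) (inv_mem hk)) ?_
    have h1 : ∀ a ∈ M, Commute a (m⁻¹ * x) := fun a ha => mem_centralizer_iff.1 hmc a ha
    have h2 : ∀ a ∈ M, Commute a (k⁻¹ * g) := fun a ha => mem_centralizer_iff.1 hc a ha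
    have e : m * k * m⁻¹ * k⁻¹ = k⁻¹ * g * (m⁻¹ * x) * ((m⁻¹ * x) * (k⁻¹ * g))⁻¹ := by
      have e1 : x * g = m * k * ((m⁻¹ * x) * (k⁻¹ * g)) := by
        calc x * g = m * ((m⁻¹ * x) * k) * (k⁻¹ * g) := by group
          _ = m * (k * (m⁻¹ * x)) * (k⁻¹ * g) := by rw [(h1 k hk).eq]
          _ = _ := by group
      have e2 : g * x = k * m * (k⁻¹ * g * (m⁻¹ * x)) := by
        calc g * x = k * ((k⁻¹ * g) * m) * (m⁻¹ * x) := by group
          _ = k * (m * (k⁻¹ * g)) * (m⁻¹ * x) := by rw [(h2 m hm).eq]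
          _ = _ := by group
      have e3 : m * k = k * m * (k⁻¹ * g * (m⁻¹ * x)) * ((m⁻¹ * x) * (k⁻¹ * g))⁻¹ := by
        rw [← e2, ← hxg.eq, e1, mul_inv_cancel_right]
      have hcz : Commute (k * m) (k⁻¹ * g * (m⁻¹ * x) * ((m⁻¹ * x) * (k⁻¹ * g))⁻¹) :=
        mem_centralizer_iff.1 (mul_mem (mul_mem hc hmc) (inv_mem (mul_mem hmc hc))) _ (mul_mem hk hm)
      calc m * k * m⁻¹ * k⁻¹ = m * k * (k * m)⁻¹ := by group
        _ = k * m * (k⁻¹ * g * (m⁻¹ * x) * ((m⁻¹ * x) * (k⁻¹ * g))⁻¹) * (k * m)⁻¹ := by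
          rw [e3]; group
        _ = _ := by rw [hcz.eq, mul_inv_cancel_right]
    rw [e]
    exact mul_mem (mul_mem hc hmc) (inv_mem (mul_mem hmc hc))
  have hm1 : m = 1 := by
    have hkm : k * m * k⁻¹ = m := by
      have : m * k = k * m := by
        rw [mul_inv_eq_one, mul_inv_eq_iff_eq_mul] at hmk; exact hmk
      rw [← this, mul_inv_cancel_right]
    by_contra hne
    have h2 : m ^ s.val = m := (hkA m hmA').symm.trans hkm
    conv_rhs at h2 => rw [← pow_one m]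
    rw [pow_eq_pow_iff_modEq, orderOf_mem (S.card A hA) hmA' hne, Nat.ModEq,
      Nat.mod_eq_of_lt (ZMod.val_lt s)] at h2
    exact hs1 (ZMod.val_injective _ (h2.trans (ZMod.val_one 11).symm))
  rwa [hm1, inv_one, one_mul] at hmc

include hM hA hAM hgM hg hs hs1 in
set_option maxHeartbeats 1600000 in
/-- The key step: `C(g) ∩ C(A)` is centralised by the involution. -/
theorem cent_commute {t : G} (htM : t ∈ M) (ht : orderOf t = 2) (htA : cj t A = A)
    (htg : Commute t g) {q : G} (hqg : Commute q g) (hqA : q ∈ centralizer (A : Set G)) :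
    Commute t q := by
  classical
  have htt := invol_inverts hS hM hA ht htA
  have ht2 : t * t = 1 := by rw [← pow_two, ← ht, pow_orderOf_eq_one]
  have hti : t⁻¹ = t := inv_eq_of_mul_eq_one_right ht2
  have h11 := S.card A hA
  obtain ⟨k, hk, hk5, hc, hkA⟩ := five_split hS hM hA hAM hgM hg hs hs1
  -- a second member of the orbit inside `M`
  obtain ⟨γ₀, hγ₀k, hγ₀A⟩ := hM.isK.exists_same_mult (hM.card_sub hA hAM) (u := ⟨k, hk⟩)
    (by rwa [orderOf_mk]) (by rw [cj_subgroupOf, show cj k A = A from hkA.mv_eq h11])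
  have hγg : Commute (γ₀ : G) g := by
    have h1 : Commute (γ₀ : G) k := (congrArg Subtype.val hγ₀k.eq).symm
    have h2 : Commute (γ₀ : G) (k⁻¹ * g) := mem_centralizer_iff.1 hc _ γ₀.2
    have := h1.mul_right h2
    rwa [mul_inv_cancel_left] at this
  set B := cj (γ₀ : G) A with hB
  have hBD : B ∈ S.D := S.conj _ A hA
  have hBA : B ≠ A := fun e => hγ₀A (by rw [cj_subgroupOf, ← hB, e])
  have hBM : B ≤ M := cj_le_of_mem (cj_self γ₀.2) hAM
  have hmult : ∀ γ : G, Commute γ g → Acts (MulAut.conj g) (cj γ A) s := by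
    intro γ hγ
    have := hs.transport (MulAut.conj γ)
    rwa [mv_conj, ← map_inv, ← map_mul, ← map_mul, hγ.eq, mul_inv_cancel_right] at this
  have hAB : A ⊔ B = M :=
    hM.eq_of_pair hA hBD hBA.symm hAM hBM (same_mult_K hS hA hg hs hs1 hBD hBA.symm (hmult _ hγg))
  -- normalising the block suffices
  have hnorm : cj q M = M → Commute t q := fun h =>
    mem_centralizer_iff.1 (cent_M hS hM hA hAM hgM hg hs hs1 hqg hqA h) t htM
  have hqA' : cj q A = A :=
    cj_eq_self_of_commute fun a ha => (mem_centralizer_iff.1 hqA a ha).symm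
  by_cases hall : ∀ γ : G, Commute γ g → cj γ A ≤ M
  · refine hnorm (cj_eq_of_le ?_)
    rw [← hAB, cj_sup, hqA']
    refine sup_le le_sup_left ?_
    rw [hB, ← cj_mul, hAB]
    exact hall _ (hqg.mul_left hγg)
  push Not at hall
  obtain ⟨γ₁, hγ₁, hX₁⟩ := hall
  have hX₁A : cj γ₁ A ≠ A := fun e => hX₁ (e.symm ▸ hAM)
  -- `t` fixes only `A` in the orbit
  have honly : ∀ γ : G, Commute γ g → cj t (cj γ A) = cj γ A → cj γ A = A := by
    intro γ hγ htγ
    by_contra hne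
    have h1 := pair_mult hS hA (S.conj γ A hA) (Ne.symm hne) ht htt htγ hg htg hs hs1
      ((hmult γ hγ).mv_eq (S.card _ (S.conj γ A hA)))
    have key : ∀ s : ZMod 11, s ^ 5 = 1 → s = s⁻¹ → s = 1 := by decide +kernel
    exact hs1 (key s (five_pow hA hg hs) ((hmult γ hγ).unique (S.card _ (S.conj γ A hA)) h1))
  -- the Sylow two-subgroup of `C(g)` has order two
  set Γ : Subgroup G := centralizer ({g} : Set G) with hΓ
  have hmem : ∀ {x : G}, x ∈ Γ ↔ Commute x g := mem_centralizer_singleton_iff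
  have htΓ : t ∈ Γ := hmem.2 htg
  have ht' : orderOf (⟨t, htΓ⟩ : Γ) = 2 := by rwa [orderOf_mk]
  have h4 : ¬ 4 ∣ Nat.card Γ := by
    intro h4
    have := Fact.mk Nat.prime_two
    obtain ⟨P, hP, hle⟩ := Sylow.exists_subgroup_card_pow_prime_le 2 (n := 1) (m := 2)
      (show 2 ^ 2 ∣ Nat.card Γ by simpa using h4) (zpowers (⟨t, htΓ⟩ : Γ))
      (by rw [Nat.card_zpowers, ht', pow_one]) (by norm_num)
    have hcomm := (IsPGroup.isMulCommutative_of_card_eq_prime_sq (p := 2) hP).is_comm.comm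
    have htP : (⟨t, htΓ⟩ : Γ) ∈ P := hle (mem_zpowers _)
    suffices h : ∀ p ∈ P, p = 1 ∨ p = ⟨t, htΓ⟩ by
      have hsub : (P : Set Γ) ⊆ {1, ⟨t, htΓ⟩} := fun p hp => h p hp
      have := Nat.card_mono (Set.toFinite _) hsub
      rw [SetLike.coe_sort_coe, hP, Nat.card_coe_set_eq,
        Set.ncard_pair (fun e => by rw [← e, orderOf_one] at ht'; norm_num at ht')] at this
      norm_num at this
    intro p hp
    have hpt : Commute (p : G) t :=
      congrArg (fun x : P => ((x : Γ) : G)) (hcomm ⟨p, hp⟩ ⟨_, htP⟩)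
    have hpA : cj (p : G) A = A := honly _ (hmem.1 p.2) (by rw [← cj_mul, ← hpt.eq, cj_mul, htA])
    obtain ⟨c, -, hcp⟩ := exists_acts (φ := MulAut.conj (p : G)) h11 hpA
    have hd4 : orderOf p ∣ 2 ^ 2 := hP ▸ Subgroup.orderOf_dvd_natCard P hp
    have hc4 : c ^ 4 = 1 := by
      have := hcp.pow h11 4
      rw [← map_pow, ← SubgroupClass.coe_pow,
        orderOf_dvd_iff_pow_eq_one.1 (by simpa using hd4), Subgroup.coe_one, map_one] at this
      exact this.unique h11 acts_one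
    have key : ∀ c : ZMod 11, c ^ 4 = 1 → c = 1 ∨ c = -1 := by decide +kernel
    have hodd : ∀ x : Γ, x ∈ P → (x : G) ∈ centralizer (A : Set G) → x = 1 := by
      intro x hx hxA
      obtain ⟨i, hi, hi'⟩ := (Nat.dvd_prime_pow Nat.prime_two).1
        (show orderOf x ∣ 2 ^ 2 from hP ▸ Subgroup.orderOf_dvd_natCard P hx)
      rw [← orderOf_coe] at hi'
      interval_cases i
      · simpa using hi'
      · exact absurd (by simpa using hi') (odd_cA hS hM hA hxA)
      · exfalso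
        refine odd_cA hS hM hA (pow_mem hxA 2) ?_
        rw [orderOf_pow, hi']
        norm_num
    rcases key c hc4 with rfl | rfl
    · exact Or.inl (hodd p hp (acts_conj_iff.1 hcp))
    · refine Or.inr ?_
      have h1 : p * ⟨t, htΓ⟩ = 1 := hodd _ (mul_mem hp htP) (acts_conj_iff.1 (by
        rw [Subgroup.coe_mul, map_mul]
        simpa using hcp.mul h11 htt))
      rw [eq_inv_of_mul_eq_one_left h1]
      exact Subtype.ext hti
  obtain ⟨N, hNn, hNodd, hNhalf⟩ := exists_odd_half ht' h4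
  have hsol : Group.IsSolvable N :=
    Cfsg.Agent.Lib.OddOrder.FeitThompson.isSolvable_of_odd_card hNodd
  -- elements of the odd half fixing the orbit are powers of `g`
  have hA' : cj g A = A := hs.mv_eq h11
  have hkerA : ∀ n : Γ, n ∈ N → cj (n : G) A = A → cj (n : G) M = M →
      ∃ j : ℕ, (n : G) * (g ^ j)⁻¹ ∈ centralizer (M : Set G) := by
    intro n hn hnA hnM
    obtain ⟨d, hd0, hd⟩ := exists_acts (φ := MulAut.conj (n : G)) h11 hnA
    have ho : d ^ orderOf n = 1 := by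
      have := hd.pow h11 (orderOf n)
      rw [← map_pow, ← SubgroupClass.coe_pow, pow_orderOf_eq_one, Subgroup.coe_one, map_one] at this
      exact this.unique h11 acts_one
    have hoodd : Odd (orderOf n) := hNodd.of_dvd_nat (Subgroup.orderOf_dvd_natCard N hn)
    have key : ∀ d : ZMod 11, d ≠ 0 → d ^ 5 = 1 ∨ d ^ 5 = -1 := by decide +kernel
    have hd5 : d ^ 5 = 1 := (key d hd0).resolve_right fun e => by
      have h' : (d ^ 5) ^ orderOf n = 1 := by rw [← pow_mul, mul_comm, pow_mul, ho, one_pow]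
      rw [e, hoodd.neg_one_pow] at h'
      exact absurd h' (by decide)
    have key2 : ∀ s d : ZMod 11, s ≠ 1 → s ^ 5 = 1 → d ^ 5 = 1 → ∃ j < 5, d = s ^ j := by
      decide +kernel
    obtain ⟨j, -, hj⟩ := key2 s d hs1 (five_pow hA hg hs) hd5
    refine ⟨j, cent_M hS hM hA hAM hgM hg hs hs1 ((hmem.1 n.2).mul_left
      ((Commute.refl g).pow_left j).inv_left) (acts_conj_iff.1 ?_) ?_⟩
    · have := hd.mul h11 ((hs.pow h11 j).inv h11)
      rw [hj, mul_inv_cancel₀ (pow_ne_zero _ (hs.ne_zero h11))] at this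
      rwa [map_mul, map_inv, map_pow]
    · rw [cj_mul, cj_eq_self_iff.2 (inv_mem (pow_mem (cj_eq_self_iff.1 hgM) j)), hnM]
  set Z₅ : Subgroup Γ := zpowers (⟨g, hmem.2 (Commute.refl g)⟩ : Γ) with hZ₅
  have hgen : ∀ {x : Γ} {i : ℤ}, (x : G) = g ^ i → x ∈ Z₅ := fun {x i} h =>
    ⟨i, Subtype.ext (by simpa using h.symm)⟩
  have hZc : ∀ z ∈ Z₅, ∀ y : Γ, z * y = y * z := by
    rintro z ⟨i, rfl⟩ y
    exact Subtype.ext (by simpa using ((hmem.1 y.2).zpow_right i).symm.eq)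
  have hZn : Z₅.Normal := ⟨fun z hz y => by rwa [← hZc z hz y, mul_inv_cancel_right]⟩
  have hfixall : ∀ n : Γ, n ∈ N → (∀ γ : G, Commute γ g → cj (n : G) (cj γ A) = cj γ A) → n ∈ Z₅ := by
    intro n hn hfix
    have hnA : cj (n : G) A = A := by simpa using hfix 1 (Commute.one_left g)
    have hnB : cj (n : G) B = B := hfix _ hγg
    obtain ⟨j, hj⟩ := hkerA n hn hnA (by rw [← hAB, cj_sup, hnA, hnB])
    by_cases h1 : (n : G) * (g ^ j)⁻¹ = 1
    · exact hgen (i := (j : ℤ)) (by rw [zpow_natCast]; exact mul_inv_eq_one.1 h1)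
    exfalso
    refine hX₁ (hM.line_max hS h1 hj (S.conj _ A hA)
      (cent_fixed hA (S.conj _ A hA) (centralizer_le (SetLike.coe_subset_coe.2 hAM) hj) ?_))
    rw [cj_mul, cj_eq_self_iff.2 (inv_mem (pow_mem
      (cj_eq_self_iff.1 ((hmult γ₁ hγ₁).mv_eq (S.card _ (S.conj _ A hA)))) j)), hfix γ₁ hγ₁]
  have horb : ∀ γ : Γ, ∃ n ∈ N, cj (n : G) A = cj (γ : G) A := by
    intro γ
    rcases hNhalf γ with h | h
    · exact ⟨γ, h, rfl⟩
    · exact ⟨_, h, by rw [Subgroup.coe_mul, cj_mul, htA]⟩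
  -- a normal subgroup, abelian modulo `Z₅`
  obtain ⟨V, hVn, hVN, hVZ, hVV⟩ : ∃ V : Subgroup Γ, V.Normal ∧ V ≤ N ∧ ¬ V ≤ Z₅ ∧ ⁅V, V⁆ ≤ Z₅ := by
    set E : ℕ → Subgroup Γ := fun n => (derivedSeries N n).map N.subtype with hE
    have hE0 : E 0 = N := by rw [hE]; simp [← MonoidHom.range_eq_map]
    have hEs : ∀ n, E (n + 1) = ⁅E n, E n⁆ := fun n => by
      rw [hE]; simp [derivedSeries_succ, map_commutator]
    have hEn : ∀ n, (E n).Normal ∧ E n ≤ N := by
      intro n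
      induction n with
      | zero => rw [hE0]; exact ⟨hNn, le_rfl⟩
      | succ n ih =>
        have := ih.1
        rw [hEs]
        exact ⟨Subgroup.commutator_normal _ _, (Subgroup.commutator_le_self _).trans ih.2⟩
    have hN0 : ¬ E 0 ≤ Z₅ := by
      rw [hE0]
      intro hle
      obtain ⟨n, hn, hnA⟩ := horb ⟨_, hmem.2 hγg⟩
      obtain ⟨i, hi⟩ := hle hn
      refine hBA ?_
      rw [hB, ← hnA, show (n : G) = g ^ i by rw [← hi]; simp]
      exact cj_eq_self_iff.2 (zpow_mem (cj_eq_self_iff.1 hA') i)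
    obtain ⟨L, hL⟩ := hsol.solvable
    have hex : ∃ n, E n ≤ Z₅ := ⟨L, by rw [hE]; simp [hL]⟩
    obtain ⟨n, hn⟩ : ∃ n, Nat.find hex = n + 1 := Nat.exists_eq_succ_of_ne_zero fun e =>
      hN0 (e ▸ Nat.find_spec hex)
    exact ⟨E n, (hEn n).1, (hEn n).2, Nat.find_min hex (by omega),
      hEs n ▸ hn ▸ Nat.find_spec hex⟩
  -- `V` moves `A`
  have hVmove : ∃ v ∈ V, cj ((v : Γ) : G) A ≠ A := by
    by_contra h
    push Not at h
    refine hVZ fun v hv => hfixall v (hVN hv) fun γ hγ => ?_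
    have h' := h _ (hVn.conj_mem v hv (⟨γ, hmem.2 hγ⟩ : Γ)⁻¹)
    simp only [inv_inv, Subgroup.coe_mul, InvMemClass.coe_inv] at h'
    rw [show γ⁻¹ * (v : G) * γ = γ⁻¹ * ((v : G) * γ) by group, cj_mul, cj_mul] at h'
    conv_rhs => rw [← h']
    rw [cj_cj_inv]
  by_cases hI : ∃ v ∈ V, v ∉ Z₅ ∧ (⟨t, htΓ⟩ : Γ) * v * (⟨t, htΓ⟩ : Γ)⁻¹ * v⁻¹ ∈ Z₅
  · -- a fixed element: the orbit of `A` under `V` lies in `M`
    obtain ⟨v, hv, hvZ, hvt⟩ := hI
    obtain ⟨i, hi⟩ := hvt
    have hi' : g ^ i = t * (v : G) * t⁻¹ * (v : G)⁻¹ := by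
      simpa using congrArg (Subtype.val : Γ → G) hi
    have htv : Commute t (v : G) := by
      have e1 : t * (v : G) * t⁻¹ = g ^ i * v := by rw [hi']; group
      have hgi : t * g ^ i * t⁻¹ = g ^ i := by rw [(htg.zpow_right i).eq, mul_inv_cancel_right]
      have e2 : (v : G) = g ^ i * g ^ i * v := by
        calc (v : G) = t * (t * (v : G) * t⁻¹) * t⁻¹ := by
              rw [show t * (t * (v : G) * t⁻¹) * t⁻¹ = t * t * v * (t * t)⁻¹ by group, ht2]; group
          _ = t * (g ^ i * v) * t⁻¹ := by rw [e1]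
          _ = t * g ^ i * t⁻¹ * (t * (v : G) * t⁻¹) := by group
          _ = _ := by rw [hgi, e1]; group
      have h2 : (g ^ i) ^ 2 = 1 := by
        rw [pow_two]
        exact (mul_eq_right (b := (v : G))).1 e2.symm
      have h5 : (g ^ i) ^ 5 = 1 := by
        rw [← zpow_natCast, ← zpow_mul, mul_comm, zpow_mul, zpow_natCast, ← hg, pow_orderOf_eq_one,
          one_zpow]
      have h1 : g ^ i = 1 := by
        calc g ^ i = (g ^ i) ^ 5 * (((g ^ i) ^ 2) ^ 2)⁻¹ := by group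
          _ = 1 := by rw [h2, h5]; group
      rw [h1, one_mul] at e1
      exact mul_inv_eq_iff_eq_mul.1 e1
    have hvg : Commute (v : G) g := hmem.1 v.2
    have hvA : cj (v : G) A = A := honly _ hvg (by rw [← cj_mul, htv.eq, cj_mul, htA])
    have htk : Commute t k := by
      have h1 : Commute t (k⁻¹ * g)⁻¹ :=
        (show Commute t (k⁻¹ * g) from mem_centralizer_iff.1 hc t htM).inv_right
      have := htg.mul_right h1
      rwa [mul_inv_rev, inv_inv, mul_inv_cancel_left] at this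
    obtain ⟨A', hA'D, hA'M, hA'A, htA', hkA'⟩ := hM.antipode hA hAM htM ht htA hk hk5 htk hkA
    have hgA' : cj g A' = A' := by
      have h1 : cj (k⁻¹ * g) A' = A' := cj_eq_self_of_commute fun x hx =>
        (mem_centralizer_iff.1 hc x (hA'M hx)).symm
      calc cj g A' = cj k (cj (k⁻¹ * g) A') := by rw [← cj_mul, mul_inv_cancel_left]
        _ = A' := by rw [h1]; exact hkA'.mv_eq (S.card _ hA'D)
    have hvA' : cj (v : G) A' = A' := fix_two hS hA (S.conj _ A' hA'D) hA'D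
      (fun e => hA'A (by rw [← cj_inv_cj (v : G) A', e, cj_eq_self_iff.2 (inv_mem (cj_eq_self_iff.1 hvA))]))
      hA'A ht htt (by rw [← cj_mul, htv.eq, cj_mul, htA']) htA' hg htg hs hs1
      (by rw [← cj_mul, hvg.symm.eq, cj_mul, hgA']) hgA'
    have hAA' : A ⊔ A' = M :=
      hM.eq_of_pair hA hA'D hA'A.symm hAM hA'M (pair_K hS hM htM ht hA hAM htA hA'D htA' hA'A)
    obtain ⟨j, hj⟩ := hkerA v (hVN hv) hvA (by rw [← hAA', cj_sup, hvA, hvA'])
    have hq1 : (v : G) * (g ^ j)⁻¹ ≠ 1 := fun e =>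
      hvZ (hgen (i := (j : ℤ)) (by rw [zpow_natCast]; exact mul_inv_eq_one.1 e))
    have horbV : ∀ w ∈ V, cj ((w : Γ) : G) A ≤ M := by
      intro w hw
      obtain ⟨l, hl⟩ := hVV (Subgroup.commutator_mem_commutator (inv_mem hw) (inv_mem hv))
      have hl' : g ^ l = (w : G)⁻¹ * (v : G)⁻¹ * w * v := by
        simpa [commutatorElement_def] using congrArg (Subtype.val : Γ → G) hl
      refine hM.line_max hS hq1 hj (S.conj _ A hA)
        (cent_fixed hA (S.conj _ A hA) (centralizer_le (SetLike.coe_subset_coe.2 hAM) hj) ?_)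
      rw [cj_mul, cj_eq_self_iff.2 (inv_mem (pow_mem
          (cj_eq_self_iff.1 ((hmult _ (hmem.1 w.2)).mv_eq (S.card _ (S.conj _ A hA)))) j)),
        ← cj_mul, show (v : G) * (w : G) = (w : G) * v * ((w : G)⁻¹ * (v : G)⁻¹ * w * v)⁻¹ by group,
        ← hl', cj_mul, cj_eq_self_iff.2 (inv_mem (zpow_mem (cj_eq_self_iff.1 hA') l)), cj_mul, hvA]
    obtain ⟨w, hw, hwA⟩ := hVmove
    have hCK : A ⊔ cj (w : G) A = M := hM.eq_of_pair hA (S.conj _ A hA) (Ne.symm hwA) hAM (horbV w hw)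
      (same_mult_K hS hA hg hs hs1 (S.conj _ A hA) (Ne.symm hwA) (hmult _ (hmem.1 w.2)))
    refine hnorm (cj_eq_of_le ?_)
    rw [← hCK, cj_sup, hqA']
    refine sup_le le_sup_left ?_
    have h' := horbV _ (hVn.conj_mem w hw ⟨q, hmem.2 hqg⟩)
    simp only [Subgroup.coe_mul, InvMemClass.coe_inv] at h'
    rw [cj_mul, cj_eq_self_iff.2 (inv_mem (cj_eq_self_iff.1 hqA')), cj_mul] at h'
    rwa [hCK]
  -- `t` inverts `V` modulo `Z₅`
  push Not at hI
  by_contra hqt
  set π := QuotientGroup.mk' Z₅ with hπ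
  set Vb : Subgroup (Γ ⧸ Z₅) := V.map π with hVb
  have hab : ∀ a ∈ Vb, ∀ b ∈ Vb, a * b = b * a := by
    rintro _ ⟨a, ha, rfl⟩ _ ⟨b, hb, rfl⟩
    rw [← commutatorElement_eq_one_iff_mul_comm, ← map_commutatorElement, hπ,
      QuotientGroup.mk'_apply, QuotientGroup.eq_one_iff]
    exact hVV (Subgroup.commutator_mem_commutator ha hb)
  set τ : Γ ⧸ Z₅ := π ⟨t, htΓ⟩ with hτ
  have hτ2 : τ * τ = 1 := by
    rw [hτ, ← map_mul, show (⟨t, htΓ⟩ : Γ) * ⟨t, htΓ⟩ = 1 from Subtype.ext ht2, map_one]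
  have hτV : ∀ a ∈ Vb, τ * a * τ⁻¹ ∈ Vb := by
    rintro _ ⟨a, ha, rfl⟩
    exact ⟨_, hVn.conj_mem a ha ⟨t, htΓ⟩, by simp [hτ]⟩
  have hfree : ∀ a ∈ Vb, τ * a * τ⁻¹ = a → a = 1 := by
    rintro _ ⟨a, ha, rfl⟩ h
    rw [hπ, QuotientGroup.mk'_apply, QuotientGroup.eq_one_iff]
    by_contra hne
    refine hI a ha hne ?_
    rw [← QuotientGroup.eq_one_iff, ← QuotientGroup.mk'_apply, ← hπ]
    simp only [map_mul, map_inv]
    rw [← hτ, h, mul_inv_cancel]
  have hinv : ∀ a ∈ Vb, τ * a * τ⁻¹ = a⁻¹ := by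
    let f : Vb → Vb := fun a => ⟨τ * a * τ⁻¹ * (a : Γ ⧸ Z₅)⁻¹, mul_mem (hτV a a.2) (inv_mem a.2)⟩
    have hf : Function.Injective f := by
      intro a b e
      have e' : τ * (a : Γ ⧸ Z₅) * τ⁻¹ * (a : Γ ⧸ Z₅)⁻¹ =
          τ * (b : Γ ⧸ Z₅) * τ⁻¹ * (b : Γ ⧸ Z₅)⁻¹ := congrArg Subtype.val e
      refine (Subtype.ext (inv_mul_eq_one.1
        (hfree _ (mul_mem (inv_mem b.2) a.2) ?_))).symm
      calc τ * ((b : Γ ⧸ Z₅)⁻¹ * a) * τ⁻¹
          = (τ * b * τ⁻¹)⁻¹ * (τ * a * τ⁻¹ * (a : Γ ⧸ Z₅)⁻¹) * a := by group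
        _ = (b : Γ ⧸ Z₅)⁻¹ * a := by rw [e']; group
    intro a ha
    obtain ⟨⟨b, hb⟩, hba⟩ := (Finite.injective_iff_surjective.1 hf) ⟨a, ha⟩
    rw [← show τ * b * τ⁻¹ * b⁻¹ = a from congrArg Subtype.val hba]
    calc τ * (τ * b * τ⁻¹ * b⁻¹) * τ⁻¹ = τ * τ * b * (τ * τ)⁻¹ * (τ * b * τ⁻¹)⁻¹ := by group
      _ = (τ * b * τ⁻¹ * b⁻¹)⁻¹ := by rw [hτ2]; group
  -- an inverted element of `C(g) ∩ C(A)`
  set x := q * t * q⁻¹ * t⁻¹ with hx
  have hxg : Commute x g := ((hqg.mul_left htg).mul_left hqg.inv_left).mul_left htg.inv_left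
  have hxA : x ∈ centralizer (A : Set G) := by
    have h' : t * q⁻¹ * t⁻¹ ∈ centralizer (A : Set G) := by
      have := (cj_centralizer t A).le (conj_mem_cj (g := t) (inv_mem hqA))
      rwa [htA] at this
    have := mul_mem hqA h'
    rwa [hx, mul_assoc q t, mul_assoc q]
  have hxt : t * x * t⁻¹ = x⁻¹ := by
    rw [hx, hti]
    calc t * (q * t * q⁻¹ * t) * t = t * q * t * q⁻¹ * (t * t) := by group
      _ = t * q * t * q⁻¹ := by rw [ht2, mul_one]
      _ = t * q * t⁻¹ * q⁻¹ := by rw [hti]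
      _ = (q * t * q⁻¹ * t⁻¹)⁻¹ := by group
      _ = (q * t * q⁻¹ * t)⁻¹ := by rw [hti]
  have hx1 : x ≠ 1 := fun e => hqt (by
    rw [hx, mul_inv_eq_one, mul_inv_eq_iff_eq_mul] at e
    exact e.symm)
  have hx2 : x * x ≠ 1 := fun e =>
    odd_cA hS hM hA hxA (orderOf_eq_prime (by rw [pow_two, e]) hx1)
  have hxxg : Commute (x * x) g := hxg.mul_left hxg
  -- it fixes only `A` in the orbit
  have honly2 : ∀ γ : G, Commute γ g → cj (x * x) (cj γ A) = cj γ A → cj γ A = A := by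
    intro γ hγ hfix
    by_contra hne
    have hXD := S.conj γ A hA
    have hK := same_mult_K hS hA hg hs hs1 hXD (Ne.symm hne) (hmult γ hγ)
    have hN' := blk_of_pair hA hXD (Ne.symm hne) hK
    have hxxN := cent_pair hA hXD (Ne.symm hne) (mul_mem hxA hxA) hfix
    have htN : t ∈ A ⊔ cj γ A := hN'.invol_mem hS ht (hN'.cj_of_conj_mem hS hx2 hxxN (by
      have e : t⁻¹ * (x * x) * t = (x * x)⁻¹ := by
        calc t⁻¹ * (x * x) * t = (t * x * t⁻¹) * (t * x * t⁻¹) := by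
              rw [hti]
              calc t * (x * x) * t = t * x * (t * t) * x * t := by rw [ht2]; group
                _ = t * x * t * (t * x * t) := by group
          _ = (x * x)⁻¹ := by rw [hxt]; group
      rw [e]
      exact inv_mem hxxN))
    have hcm : t * (x * x) = x * x * t := mem_centralizer_iff.1 hxxN t htN
    have he : x * x = (x * x)⁻¹ := by
      calc x * x = t * (x * x) * t⁻¹ := by rw [hcm, mul_inv_cancel_right]
        _ = (t * x * t⁻¹) * (t * x * t⁻¹) := by group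
        _ = (x * x)⁻¹ := by rw [hxt]; group
    exact odd_cA hS hM hA (mul_mem hxA hxA)
      (orderOf_eq_prime (by rw [pow_two]; conv_lhs => arg 1; rw [he]
                            exact inv_mul_cancel _) hx2)
  obtain ⟨v, hv, hvA⟩ := hVmove
  set ξ : Γ ⧸ Z₅ := π ⟨x, hmem.2 hxg⟩ with hξ
  have hξτ : τ * ξ * τ⁻¹ = ξ⁻¹ := by
    rw [hτ, hξ, ← map_inv, ← map_inv, ← map_mul, ← map_mul]
    exact congrArg π (Subtype.ext hxt)
  have hvb : π v ∈ Vb := ⟨v, hv, rfl⟩
  have hξV : ξ * π v * ξ⁻¹ ∈ Vb := ⟨_, hVn.conj_mem v hv ⟨x, hmem.2 hxg⟩, by simp [hξ]⟩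
  have hcom : ξ * ξ * π v = π v * (ξ * ξ) := by
    have h1 : ξ⁻¹ * (π v)⁻¹ * ξ = (ξ * π v * ξ⁻¹)⁻¹ := by
      rw [← hinv _ hξV, show τ * (ξ * π v * ξ⁻¹) * τ⁻¹ =
        (τ * ξ * τ⁻¹) * (τ * π v * τ⁻¹) * (τ * ξ * τ⁻¹)⁻¹ by group, hξτ, hinv _ hvb, inv_inv]
    have h2 : ξ⁻¹ * π v * ξ = ξ * π v * ξ⁻¹ := by
      have := congrArg (·⁻¹) h1
      simp only [inv_inv, mul_inv_rev] at this
      rw [← this]; group
    calc ξ * ξ * π v = ξ * (ξ * π v * ξ⁻¹) * ξ := by group
      _ = ξ * (ξ⁻¹ * π v * ξ) * ξ := by rw [h2]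
      _ = π v * (ξ * ξ) := by group
  rw [hξ, ← map_mul, ← map_mul, ← map_mul, hπ, QuotientGroup.mk'_eq_mk'] at hcom
  obtain ⟨z, ⟨i, rfl⟩, hz⟩ := hcom
  have hz' : x * x * (v : G) * g ^ i = (v : G) * (x * x) := by
    simpa using congrArg (Subtype.val : Γ → G) hz
  have hfixv : cj (x * x) (cj (v : G) A) = cj (v : G) A := by
    have hxxA : cj (x * x) A = A := cj_eq_self_of_commute fun a ha =>
      (mem_centralizer_iff.1 (mul_mem hxA hxA) a ha).symm
    calc cj (x * x) (cj (v : G) A) = cj (x * x) (cj (v : G) (cj (g ^ i) A)) := by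
          rw [cj_eq_self_iff.2 (zpow_mem (cj_eq_self_iff.1 hA') i)]
      _ = cj ((v : G) * (x * x)) A := by rw [← cj_mul, ← cj_mul, hz']
      _ = cj (v : G) A := by rw [cj_mul, hxxA]
  exact hvA (honly2 _ (hmem.1 v.2) hfixv)

end

/-- An element of order five normalising a block fixes only members of the block, when it acts
nontrivially on one of them. -/
theorem five_fixed {M : Subgroup G} (hM : S.Blk M) {A : Subgroup G} (hA : A ∈ S.D) (hAM : A ≤ M)
    {g : G} (hgM : cj g M = M) (hg : orderOf g = 5) {s : ZMod 11}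
    (hs : Acts (MulAut.conj g) A s) (hs1 : s ≠ 1) {X : Subgroup G} (hX : X ∈ S.D)
    (hgX : cj g X = X) : X ≤ M := by
  have main : ∀ {A : Subgroup G}, A ∈ S.D → A ≤ M → ∀ {s : ZMod 11}, Acts (MulAut.conj g) A s →
      s ≠ 1 → ∀ {t : G}, t ∈ M → orderOf t = 2 → cj t A = A → Commute t g →
      ∀ {A' : Subgroup G}, A' ∈ S.D → A' ≤ M → A' ≠ A → cj t A' = A' → cj g A' = A' →
      ∀ {X : Subgroup G}, X ∈ S.D → Acts (MulAut.conj g) X s → X ≤ M := by
    intro A hA hAM s hs hs1 t htM ht htA htg A' hA' hA'M hA'A htA' hgA' X hX hsX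
    by_cases hXA : X = A
    · exact hXA ▸ hAM
    have hK := same_mult_K hS hA hg hs hs1 hX (Ne.symm hXA) hsX
    have hN := blk_of_pair hA hX (Ne.symm hXA) hK
    have hgN := cj_pair (hs.mv_eq (S.card A hA)) (hsX.mv_eq (S.card X hX))
    obtain ⟨k, hk, hk5, hc, hkA⟩ := five_split hS hN hA le_sup_left hgN hg hs hs1
    obtain ⟨t', ht'N, ht', ht'A, ht'k⟩ :=
      hN.exists_invol_commute hA le_sup_left hk hk5 (hkA.mv_eq (S.card A hA))
    have ht'c : Commute t' (k⁻¹ * g) := mem_centralizer_iff.1 hc t' ht'N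
    have ht'g : Commute t' g := by
      have := ht'k.mul_right ht'c
      rwa [mul_inv_cancel_left] at this
    have hq : t' * t ∈ centralizer (A : Set G) := acts_conj_iff.1 (by
      rw [map_mul]
      simpa using (invol_inverts hS hM hA ht' ht'A).mul (S.card A hA) (invol_inverts hS hM hA ht htA))
    have hct := cent_commute hS hM hA hAM hgM hg hs hs1 htM ht htA htg (ht'g.mul_left htg) hq
    have ht2 : t * t = 1 := by rw [← pow_two, ← ht, pow_orderOf_eq_one]
    have ht'2 : t' * t' = 1 := by rw [← pow_two, ← ht', pow_orderOf_eq_one]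
    have htt' : Commute t t' := by
      have h := hct.mul_right (Commute.refl t)
      rwa [mul_assoc, ht2, mul_one] at h
    have heq : t' * t = 1 := by
      by_contra hne
      refine odd_cA hS hM hA hq (orderOf_eq_prime ?_ hne)
      rw [htt'.symm.mul_pow, pow_two, pow_two, ht2, ht'2, one_mul]
    have htN : t ∈ A ⊔ X := by
      have e : t' = t := by
        rw [eq_inv_of_mul_eq_one_left heq]
        exact inv_eq_of_mul_eq_one_right ht2
      exact e ▸ ht'N
    obtain ⟨Y, hY, hYN, hYA, htY, hkY⟩ := hN.antipode hA le_sup_left htN ht htA hk hk5 (by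
      have h1 : Commute t (k⁻¹ * g)⁻¹ :=
        (show Commute t (k⁻¹ * g) from mem_centralizer_iff.1 hc t htN).inv_right
      have := htg.mul_right h1
      rwa [mul_inv_rev, inv_inv, mul_inv_cancel_left] at this) hkA
    have hgY : cj g Y = Y := by
      have h1 : cj (k⁻¹ * g) Y = Y := cj_eq_self_of_commute fun x hx =>
        (mem_centralizer_iff.1 hc x (hYN hx)).symm
      calc cj g Y = cj k (cj (k⁻¹ * g) Y) := by rw [← cj_mul, mul_inv_cancel_left]
        _ = Y := by rw [h1]; exact hkY.mv_eq (S.card _ hY)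
    have hYA' : Y = A' := fix_two hS hA hY hA' hYA hA'A ht (invol_inverts hS hM hA ht htA) htY htA'
      hg htg hs hs1 hgY hgA'
    have hKA' := pair_K hS hM htM ht hA hAM htA hA' htA' hA'A
    have e1 := hM.eq_of_pair hA hA' hA'A.symm hAM hA'M hKA'
    have e2 := hN.eq_of_pair hA hA' hA'A.symm le_sup_left (hYA' ▸ hYN) hKA'
    rw [← e1, e2]
    exact le_sup_right
  obtain ⟨k, hk, hk5, hc, hkA⟩ := five_split hS hM hA hAM hgM hg hs hs1
  obtain ⟨t, htM, ht, htA, htk⟩ := hM.exists_invol_commute hA hAM hk hk5 (hkA.mv_eq (S.card A hA))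
  have htg : Commute t g := by
    have := htk.mul_right (show Commute t (k⁻¹ * g) from mem_centralizer_iff.1 hc t htM)
    rwa [mul_inv_cancel_left] at this
  obtain ⟨A', hA', hA'M, hA'A, htA', hkA'⟩ := hM.antipode hA hAM htM ht htA hk hk5 htk hkA
  have hgA' : Acts (MulAut.conj g) A' s⁻¹ := by
    have := hkA'.mul (S.card A' hA')
      (acts_conj_iff.2 (centralizer_le (SetLike.coe_subset_coe.2 hA'M) hc))
    rwa [← map_mul, mul_inv_cancel_left, mul_one] at this
  obtain ⟨d, -, hd⟩ := exists_acts (φ := MulAut.conj g) (S.card X hX) hgX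
  have hds : d = s ∨ d = s⁻¹ := by
    by_cases hAX : A = X
    · subst hAX
      exact Or.inl (hd.unique (S.card A hA) hs)
    have hgA : cj g A = A := hs.mv_eq (S.card A hA)
    have hgN := cj_pair hgA hgX
    have hX' : Nat.card (X.subgroupOf (A ⊔ X)) = 11 := by
      rw [card_subgroupOf le_sup_right, S.card X hX]
    rcases S.pair A hA X hX hAX with h | h
    · exact Or.inr (((acts_aut hgN le_sup_right).2 hd).unique hX'
        (h.acts_inv (by rw [card_subgroupOf le_sup_left, S.card A hA]) hX'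
          (fun e => hAX (subgroupOf_inj le_sup_left le_sup_right e))
          ((acts_aut hgN le_sup_left).2 hs) (by rw [mv_aut, hgX])))
    · obtain ⟨k', hk', hk'5, hc', hk'A⟩ :=
        five_split hS (blk_of_pair hA hX hAX h) hA le_sup_left hgN hg hs hs1
      have hk'X : Acts (MulAut.conj k') X d := by
        have := hd.mul (S.card X hX) ((acts_conj_iff.2
          (centralizer_le (SetLike.coe_subset_coe.2 le_sup_right) hc')).inv (S.card X hX))
        rwa [inv_one, mul_one, ← map_inv, ← map_mul, mul_inv_rev, inv_inv,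
          mul_inv_cancel_left] at this
      exact h.five_mult (by rw [card_subgroupOf le_sup_left, S.card A hA]) (k := ⟨k', hk'⟩)
        (by rwa [orderOf_mk]) ((conj_acts_iff le_sup_left ⟨k', hk'⟩).2 hk'A) hX'
        ((conj_acts_iff le_sup_right ⟨k', hk'⟩).2 hk'X)
  rcases hds with e | e
  · exact main hA hAM hs hs1 htM ht htA htg hA' hA'M hA'A htA' (hgA'.mv_eq (S.card A' hA')) hX (e ▸ hd)
  · exact main hA' hA'M hgA' (fun h => hs1 (inv_eq_one.1 h)) htM ht htA' htg hA hAM hA'A.symm htA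
      (hs.mv_eq (S.card A hA)) hX (e ▸ hd)

end Cfsg.Agent.Lib.OrdElevenPairs.Sys
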