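import Cfsg.Agent.Lib.OrdElevenPairs.LineInv

/-!
# Four-groups of a simple group of order `660`
-/

set_option autoImplicit false

namespace Cfsg.Agent.Lib.OrdElevenPairs.IsL

open Cfsg.Agent.Lib.PairOdd Subgroup

variable {M : Type*} [Group M] (hM : IsL M)

/-- The subgroup `{1, x, y, x * y}` of two commuting involutions. -/
def four {x y : M} (hx : x * x = 1) (hy : y * y = 1) (hxy : Commute x y) : Subgroup M where
  carrier := {1, x, y, x * y}
  one_mem' := by simp
  mul_mem' := by
    have e : y * x = x * y := hxy.symm.eq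
    have e1 : ∀ a : M, x * (x * a) = a := fun a => by rw [← mul_assoc, hx, one_mul]
    have e2 : ∀ a : M, y * (y * a) = a := fun a => by rw [← mul_assoc, hy, one_mul]
    have e3 : ∀ a : M, y * (x * a) = x * (y * a) := fun a => by rw [← mul_assoc, e, mul_assoc]
    rintro a b ha hb
    simp only [Set.mem_insert_iff, Set.mem_singleton_iff] at ha hb ⊢
    rcases ha with rfl | rfl | rfl | rfl <;> rcases hb with rfl | rfl | rfl | rfl <;>
      simp [hx, hy, e, e1, e3, mul_assoc]
  inv_mem' := by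
    have e : y * x = x * y := hxy.symm.eq
    rintro a ha
    simp only [Set.mem_insert_iff, Set.mem_singleton_iff] at ha ⊢
    rcases ha with rfl | rfl | rfl | rfl
    · simp
    · exact Or.inr (Or.inl (inv_eq_of_mul_eq_one_right hx))
    · exact Or.inr (Or.inr (Or.inl (inv_eq_of_mul_eq_one_right hy)))
    · refine Or.inr (Or.inr (Or.inr (inv_eq_of_mul_eq_one_right ?_)))
      calc x * y * (x * y) = x * (y * x) * y := by group
        _ = (x * x) * (y * y) := by rw [e]; group
        _ = 1 := by rw [hx, hy, one_mul]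

theorem mem_four {x y v : M} {hx : x * x = 1} {hy : y * y = 1} {hxy : Commute x y} :
    v ∈ four hx hy hxy ↔ v = 1 ∨ v = x ∨ v = y ∨ v = x * y := by
  show v ∈ ({1, x, y, x * y} : Set M) ↔ _
  simp

theorem four_comm {x y v w : M} {hx : x * x = 1} {hy : y * y = 1} {hxy : Commute x y}
    (hv : v ∈ four hx hy hxy) (hw : w ∈ four hx hy hxy) : Commute v w := by
  have hv1 : ∀ u ∈ four hx hy hxy, Commute x u ∧ Commute y u := fun u hu => by
    rcases mem_four.1 hu with rfl | rfl | rfl | rfl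
    exacts [⟨Commute.one_right _, Commute.one_right _⟩, ⟨Commute.refl _, hxy.symm⟩,
      ⟨hxy, Commute.refl _⟩, ⟨(Commute.refl x).mul_right hxy, hxy.symm.mul_right (Commute.refl y)⟩]
  obtain ⟨h1, h2⟩ := hv1 w hw
  rcases mem_four.1 hv with rfl | rfl | rfl | rfl
  exacts [Commute.one_left _, h1, h2, h1.mul_left h2]

theorem card_four {x y : M} (hx : orderOf x = 2) (hy : orderOf y = 2) (hne : x ≠ y)
    {hx' : x * x = 1} {hy' : y * y = 1} {hxy : Commute x y} :
    Nat.card (four hx' hy' hxy) = 4 := by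
  classical
  have hx1 : x ≠ 1 := fun e => by rw [e, orderOf_one] at hx; norm_num at hx
  have hy1 : y ≠ 1 := fun e => by rw [e, orderOf_one] at hy; norm_num at hy
  have e : ((four hx' hy' hxy : Subgroup M) : Set M) = ↑({1, x, y, x * y} : Finset M) := by
    ext v
    simp [mem_four]
  rw [← SetLike.coe_sort_coe, Nat.card_coe_set_eq, e, Set.ncard_coe_finset]
  refine Finset.card_eq_four.2 ⟨1, x, y, x * y, hx1.symm, hy1.symm, fun h => hne ?_, hne,
    fun h => hy1 ?_, fun h => hx1 ?_, rfl⟩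
  · exact (inv_eq_of_mul_eq_one_right hx').symm.trans (inv_eq_of_mul_eq_one_right h.symm)
  · exact left_eq_mul.1 h
  · exact right_eq_mul.1 h

include hM

theorem sq_eq {x : M} (hx : orderOf x = 2) : x * x = 1 := by
  have := hM.finite
  rw [← pow_two, ← hx, pow_orderOf_eq_one]

omit hM [Group M] in
theorem factorization_two : (660 : ℕ).factorization 2 = 2 := by
  rw [show (660 : ℕ) = 2 ^ 2 * 165 by norm_num,
    Nat.factorization_mul (by norm_num) (by norm_num), Finsupp.add_apply,
    Nat.factorization_eq_zero_of_not_dvd (show ¬ 2 ∣ 165 by norm_num),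
    Nat.Prime.factorization_pow Nat.prime_two, Finsupp.single_eq_same]

/-- A subgroup of order four is not central in its normaliser. -/
theorem four_not_central {V : Subgroup M} (hV : Nat.card V = 4) :
    ∃ g, g ∈ normalizer (V : Set M) ∧ g ∉ centralizer (V : Set M) := by
  have := hM.finite
  have := Fact.mk Nat.prime_two
  let P : Sylow 2 M := Sylow.ofCard V (by rw [hV, hM.card, factorization_two]; rfl)
  by_contra h
  push Not at h
  have hle : normalizer ((P : Subgroup M) : Set M) ≤ centralizer ((P : Subgroup M) : Set M) := h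
  have hmul := (MonoidHom.ker_transferSylow_isComplement' P hle).card_mul_card
  rw [show Nat.card (P : Subgroup M) = 4 from hV, hM.card] at hmul
  refine hM.not_normal ?_ ?_ (MonoidHom.normal_ker (MonoidHom.transferSylow P hle)) <;> omega

/-- There are no elements of order four. -/
theorem sq_ne_invol {x l : M} (hx : orderOf x = 2) : l * l ≠ x := by
  intro e
  have := hM.finite
  have := Fact.mk Nat.prime_two
  have hl : orderOf l = 2 ^ (1 + 1) := orderOf_eq_prime_pow (x := l) (n := 1) (by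
    rw [pow_one, pow_two, e]
    exact fun h => by rw [h, orderOf_one] at hx; norm_num at hx) (by
    rw [show (2 : ℕ) ^ (1 + 1) = 2 * 2 by norm_num, pow_mul, pow_two l, e, pow_two, hM.sq_eq hx])
  let P : Sylow 2 M := Sylow.ofCard (zpowers l)
    (by rw [Nat.card_zpowers, hl, hM.card, factorization_two])
  have : IsCyclic (P : Subgroup M) := Subgroup.isCyclic_zpowers l
  have hle := IsCyclic.normalizer_le_centralizer (p := 2) (P := P)
    (by rw [hM.card]; norm_num) this
  obtain ⟨g, hg, hg'⟩ := hM.four_not_central (V := zpowers l) (by rw [Nat.card_zpowers, hl]; norm_num)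
  exact hg' (hle hg)

/-- Subgroups of order a proper multiple of twelve are simple and contain an element of order five. -/
theorem big_sub {H : Subgroup M} (h12 : 12 ∣ Nat.card H) (hne : Nat.card H ≠ 12) :
    IsSimpleGroup H ∧ 5 ∣ Nat.card H := by
  have := hM.finite
  have h660 : Nat.card H ∣ 660 := hM.card ▸ Subgroup.card_subgroup_dvd_card H
  have key : ∀ n ∈ Nat.divisors 660, 12 ∣ n → n ≠ 12 → n = 60 ∨ n = 132 ∨ n = 660 := by
    decide +kernel
  rcases key _ (Nat.mem_divisors.2 ⟨h660, by norm_num⟩) h12 hne with h | h | h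
  · exact ⟨hM.simple_sixty h, by rw [h]; norm_num⟩
  · exfalso
    have hidx : H.index = 5 := by
      have := H.card_mul_index
      rw [h, hM.card] at this
      omega
    have hcore : H.normalCore = ⊥ := by
      by_contra hne
      have hH : H = ⊤ := top_le_iff.1 ((hM.eq_top inferInstance hne).symm.le.trans H.normalCore_le)
      rw [hH, index_top] at hidx
      norm_num at hidx
    have hker : (MulAction.toPermHom M (M ⧸ H)).ker = ⊥ := H.normalCore_eq_ker ▸ hcore
    have hd := Subgroup.card_dvd_of_injective _ ((MonoidHom.ker_eq_bot_iff _).1 hker)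
    rw [hM.card, Nat.card_perm, ← Subgroup.index, hidx] at hd
    norm_num [Nat.factorial] at hd
  · have htop : H = ⊤ := Subgroup.eq_top_of_card_eq H (by rw [h, hM.card])
    subst htop
    have := hM.simple
    exact ⟨(Subgroup.topEquiv (G := M)).isSimpleGroup, by rw [h]; norm_num⟩

/-- The centraliser of an involution does not normalise a four-group. -/
theorem exists_move {x y : M} (hx : orderOf x = 2) (hy : orderOf y = 2) (hne : x ≠ y)
    (hxy : Commute x y) : ∃ h : M, Commute x h ∧ h * y * h⁻¹ ≠ y ∧ h * y * h⁻¹ ≠ x * y := by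
  classical
  have := hM.finite
  have hx1 : x ≠ 1 := fun e => by rw [e, orderOf_one] at hx; norm_num at hx
  set V := four (hM.sq_eq hx) (hM.sq_eq hy) hxy with hV
  have hV4 : Nat.card V = 4 := card_four hx hy hne
  by_contra hall
  push Not at hall
  set C := centralizer ({x} : Set M) with hC
  have hC12 : Nat.card C = 12 := hM.card_centralizer_invol hx
  have hmem : ∀ h ∈ C, h * y * h⁻¹ = y ∨ h * y * h⁻¹ = x * y := fun h hh => by
    by_cases e : h * y * h⁻¹ = y
    · exact Or.inl e
    · exact Or.inr (hall h (mem_centralizer_singleton_iff.1 hh).symm e)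
  have hcx : ∀ h ∈ C, h * x * h⁻¹ = x := fun h hh =>
    mul_inv_eq_iff_eq_mul.2 (mem_centralizer_singleton_iff.1 hh)
  have hCN : C ≤ normalizer (V : Set M) := by
    intro h hh
    refine cj_eq_self_iff.1 (cj_eq_of_le ?_)
    rintro _ ⟨v, hv, rfl⟩
    show h * v * h⁻¹ ∈ V
    rcases mem_four.1 hv with rfl | rfl | rfl | rfl
    · simp
    · exact mem_four.2 (Or.inr (Or.inl (hcx h hh)))
    · rcases hmem h hh with e | e <;> rw [e] <;> simp [hV, mem_four]
    · rw [show h * (x * y) * h⁻¹ = (h * x * h⁻¹) * (h * y * h⁻¹) by group, hcx h hh]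
      rcases hmem h hh with e | e <;> rw [e] <;> simp [hV, mem_four, ← mul_assoc, hM.sq_eq hx]
  obtain ⟨g, hgN, hgC⟩ := hM.four_not_central hV4
  by_cases hgx : g ∈ C
  · have hgy : g * y * g⁻¹ = x * y := (hmem g hgx).resolve_left fun e => hgC (by
      rw [mem_centralizer_iff]
      intro v hv
      have e' : y * g = g * y := (mul_inv_eq_iff_eq_mul.1 e).symm
      have ex : x * g = g * x := (mul_inv_eq_iff_eq_mul.1 (hcx g hgx)).symm
      rcases mem_four.1 hv with rfl | rfl | rfl | rfl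
      · simp
      · exact ex
      · exact e'
      · rw [mul_assoc, e', ← mul_assoc, ex, mul_assoc])
    set K := C ⊓ centralizer ({y} : Set M) with hK
    have hVK : V ≤ K := fun v hv => by
      have exy : x * (x * y) = (x * y) * x := ((Commute.refl x).mul_right hxy).eq
      have eyy : y * (x * y) = (x * y) * y := (hxy.symm.mul_right (Commute.refl y)).eq
      refine ⟨mem_centralizer_singleton_iff.2 ?_, mem_centralizer_singleton_iff.2 ?_⟩ <;>
        rcases mem_four.1 hv with rfl | rfl | rfl | rfl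
      exacts [by simp, rfl, hxy.symm.eq, exy.symm, by simp, hxy.eq, rfl, eyy.symm]
    let f : C → K × Bool := fun h =>
      if e : (h : M) * y * (h : M)⁻¹ = y then
        (⟨h, h.2, mem_centralizer_singleton_iff.2 (mul_inv_eq_iff_eq_mul.1 e)⟩, true)
      else (⟨g⁻¹ * h, C.mul_mem (C.inv_mem hgx) h.2, mem_centralizer_singleton_iff.2 (by
        have eh : (h : M) * y * (h : M)⁻¹ = x * y := (hmem h h.2).resolve_left e
        have : (h : M) * y * (h : M)⁻¹ = g * y * g⁻¹ := eh.trans hgy.symm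
        calc g⁻¹ * h * y = g⁻¹ * ((h : M) * y * (h : M)⁻¹) * h := by group
          _ = g⁻¹ * (g * y * g⁻¹) * h := by rw [this]
          _ = y * (g⁻¹ * h) := by group)⟩, false)
    have hf : Function.Bijective f := by
      refine ⟨fun a b e => ?_, fun p => ?_⟩
      · simp only [f] at e
        split_ifs at e
        · exact Subtype.ext (congrArg (fun p : K × Bool => (p.1 : M)) e)
        · exact absurd (congrArg Prod.snd e) Bool.true_eq_false.mp
        · exact absurd (congrArg Prod.snd e) Bool.false_eq_true.mp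
        · exact Subtype.ext (mul_left_cancel (congrArg (fun p : K × Bool => (p.1 : M)) e))
      · obtain ⟨⟨k, hkC, hky⟩, b⟩ := p
        have eky : k * y * k⁻¹ = y := mul_inv_eq_iff_eq_mul.2 (mem_centralizer_singleton_iff.1 hky)
        cases b
        · refine ⟨⟨g * k, C.mul_mem hgx hkC⟩, ?_⟩
          have e : ¬ g * k * y * (g * k)⁻¹ = y := fun e => by
            rw [show g * k * y * (g * k)⁻¹ = g * (k * y * k⁻¹) * g⁻¹ by group, eky, hgy] at e
            exact hx1 (mul_eq_right.1 e)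
          show (if h : _ then _ else _) = _
          rw [dif_neg e]
          exact Prod.ext (Subtype.ext (inv_mul_cancel_left g k)) rfl
        · exact ⟨⟨k, hkC⟩, by simp [f, eky]⟩
    have hcard := Nat.card_eq_of_bijective f hf
    rw [hC12, Nat.card_prod, Nat.card_eq_fintype_card (α := Bool), Fintype.card_bool] at hcard
    have hd := card_dvd_of_le hVK
    rw [hV4, show Nat.card K = 6 by omega] at hd
    norm_num at hd
  · set N := normalizer (V : Set M) with hN
    have h12 : 12 ∣ Nat.card N := hC12 ▸ card_dvd_of_le hCN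
    have hne12 : Nat.card N ≠ 12 := fun e => hgx
      (Subgroup.eq_of_le_of_card_ge hCN (by rw [e, hC12]) ▸ hgN)
    have hs := (hM.big_sub h12 hne12).1
    have hVN : V ≤ N := Subgroup.le_normalizer
    rcases (Subgroup.normal_in_normalizer (H := V)).eq_bot_or_eq_top with e | e
    · have := Nat.card_congr (subgroupOfEquivOfLe hVN).toEquiv
      rw [e, Subgroup.card_bot, hV4] at this
      norm_num at this
    · have := Nat.card_congr (subgroupOfEquivOfLe hVN).toEquiv
      rw [e, Subgroup.card_top, hV4] at this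
      exact hne12 (by omega)

/-- Distinct involutions have distinct centralisers. -/
theorem centralizer_inj {x y : M} (hx : orderOf x = 2) (hy : orderOf y = 2)
    (h : centralizer ({x} : Set M) = centralizer ({y} : Set M)) : x = y := by
  by_contra hne
  have hxy : Commute x y := by
    have : x ∈ centralizer ({y} : Set M) := h ▸ mem_centralizer_singleton_iff.2 rfl
    exact mem_centralizer_singleton_iff.1 this
  obtain ⟨g, hg, hgy, -⟩ := hM.exists_move hx hy hne hxy
  refine hgy (mul_inv_eq_iff_eq_mul.2 (mem_centralizer_singleton_iff.1 ?_))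
  rw [← h]
  exact mem_centralizer_singleton_iff.2 hg.symm.eq

/-- An involution commutes with another one. -/
theorem exists_commuting {x : M} (hx : orderOf x = 2) :
    ∃ y, orderOf y = 2 ∧ y ≠ x ∧ Commute x y := by
  obtain ⟨y, -, hy, hne, hc, -⟩ := hM.exists_four hx
  exact ⟨y, hy, hne, hc⟩

/-- An involution has at least five involutions in its centraliser. -/
theorem five_invol {x : M} (hx : orderOf x = 2) :
    ∃ s : Finset M, 5 ≤ s.card ∧ ∀ y ∈ s, orderOf y = 2 ∧ Commute x y := by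
  classical
  have := hM.finite
  obtain ⟨y, hy, hne, hc⟩ := hM.exists_commuting hx
  obtain ⟨h, hh, hh1, hh2⟩ := hM.exists_move hx hy hne.symm hc
  have hx1 : x ≠ 1 := fun e => by rw [e, orderOf_one] at hx; norm_num at hx
  have hy1 : y ≠ 1 := fun e => by rw [e, orderOf_one] at hy; norm_num at hy
  set z := h * y * h⁻¹ with hz
  have hzo : orderOf z = 2 := by rw [hz, ← MulAut.conj_apply, MulEquiv.orderOf_eq, hy]
  have hhx : h * x * h⁻¹ = x := mul_inv_eq_iff_eq_mul.2 hh.symm.eq
  have hzx : z ≠ x := fun e => hne ((MulAut.conj h).injective (by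
    rw [MulAut.conj_apply, MulAut.conj_apply, ← hz, e, hhx]))
  have hcz : Commute x z := (hh.mul_right hc).mul_right hh.inv_right
  have hprod : ∀ w, orderOf w = 2 → w ≠ x → Commute x w → orderOf (x * w) = 2 := fun w hw hwx hc' =>
    orderOf_eq_prime (by rw [hc'.mul_pow, pow_two, pow_two, hM.sq_eq hx, hM.sq_eq hw, one_mul])
      fun e => hwx ((inv_eq_of_mul_eq_one_right e).symm.trans (inv_eq_of_mul_eq_one_right (hM.sq_eq hx)))
  refine ⟨{x, y, x * y, z, x * z}, ?_, ?_⟩
  · have n1 : y ≠ x * y := fun e => hx1 (right_eq_mul.1 e)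
    have n2 : x ≠ x * y := fun e => hy1 (left_eq_mul.1 e)
    have n3 : x ≠ x * z := fun e => by
      rw [left_eq_mul.1 e, orderOf_one] at hzo; norm_num at hzo
    have n4 : y ≠ x * z := fun e => hh2 (by rw [e, ← mul_assoc, hM.sq_eq hx, one_mul])
    have n5 : x * y ≠ x * z := fun e => hh1 (mul_left_cancel e).symm
    have n6 : z ≠ x * z := fun e => hx1 (right_eq_mul.1 e)
    simp [hne.symm, n2, hzx.symm, n3, n1, hh1.symm, n4, hh2.symm, n5, n6]
  · intro w hw
    simp only [Finset.mem_insert, Finset.mem_singleton] at hw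
    rcases hw with rfl | rfl | rfl | rfl | rfl
    exacts [⟨hx, Commute.refl _⟩, ⟨hy, hc⟩,
      ⟨hprod y hy hne hc, (Commute.refl x).mul_right hc⟩, ⟨hzo, hcz⟩,
      ⟨hprod z hzo hzx hcz, (Commute.refl x).mul_right hcz⟩]

/-- An involutory automorphism centralising a four-group lies in it. -/
theorem four_cent {x y : M} (hx : orderOf x = 2) (hy : orderOf y = 2) (hne : x ≠ y)
    (hxy : Commute x y) {φ : MulAut M} (hφ : φ * φ = 1) (hφx : φ x = x) (hφy : φ y = y) :
    ∃ v : M, (v = 1 ∨ v = x ∨ v = y ∨ v = x * y) ∧ φ = MulAut.conj v := by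
  classical
  have := hM.finite
  set V := four (hM.sq_eq hx) (hM.sq_eq hy) hxy with hV
  have hxy2 : orderOf (x * y) = 2 := orderOf_eq_prime
    (by rw [hxy.mul_pow, pow_two, pow_two, hM.sq_eq hx, hM.sq_eq hy, one_mul])
    fun e => hne ((inv_eq_of_mul_eq_one_right (hM.sq_eq hx)).symm.trans (inv_eq_of_mul_eq_one_right e))
  have hVo : ∀ v ∈ V, v ≠ 1 → orderOf v = 2 := fun v hv hv1 => by
    rcases mem_four.1 hv with rfl | rfl | rfl | rfl
    exacts [absurd rfl hv1, hx, hy, hxy2]
  have hφV : ∀ v ∈ V, φ v = v := fun v hv => by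
    rcases mem_four.1 hv with rfl | rfl | rfl | rfl
    exacts [map_one _, hφx, hφy, by rw [map_mul, hφx, hφy]]
  have hfree : ∀ X : Subgroup M, Nat.card X = 11 → ∀ v ∈ V, v ≠ 1 → cj v X ≠ X := fun X hX v hv hv1 =>
    hM.invol_free (hVo v hv hv1) hX
  set P := {X : Subgroup M // Nat.card X = 11}
  have : Fintype P := Fintype.ofFinite _
  have hP : Fintype.card P = 12 := by rw [← Nat.card_eq_fintype_card]; exact hM.card_el
  have : Fintype (four (hM.sq_eq hx) (hM.sq_eq hy) hxy) := Fintype.ofFinite _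
  let O : P → Finset P := fun X => Finset.univ.filter fun Y => ∃ v ∈ V, cj v X.1 = Y.1
  have hOmem : ∀ X Y : P, Y ∈ O X ↔ ∃ v ∈ V, cj v X.1 = Y.1 := fun X Y => by simp [O]
  have hO : ∀ X : P, (O X).card = 4 := fun X => by
    rw [← card_four hx hy hne (hx' := hM.sq_eq hx) (hy' := hM.sq_eq hy) (hxy := hxy),
      Nat.card_eq_fintype_card, ← Finset.card_univ]
    symm
    refine Finset.card_bij (fun v _ => (⟨cj (v : M) X.1, (card_cj _ _).trans X.2⟩ : P))
      (fun v _ => (hOmem _ _).2 ⟨v, v.2, rfl⟩) ?_ ?_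
    · intro a _ b _ e
      by_contra hab
      refine hfree X.1 X.2 ((b : M)⁻¹ * a) (V.mul_mem (V.inv_mem b.2) a.2)
        (fun h => hab (Subtype.ext (inv_mul_eq_one.1 h).symm)) ?_
      rw [cj_mul, show cj (a : M) X.1 = cj (b : M) X.1 from congrArg Subtype.val e, cj_inv_cj]
    · intro Y hY
      obtain ⟨v, hv, e⟩ := (hOmem _ _).1 hY
      exact ⟨⟨v, hv⟩, Finset.mem_univ _, Subtype.ext e⟩
  let F : P → P := fun X => ⟨mv φ X.1, (card_mv φ X.1).trans X.2⟩
  have hFF : ∀ X, F (F X) = X := fun X => Subtype.ext (by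
    show mv φ (mv φ X.1) = X.1
    rw [← mv_mul, hφ, mv_one])
  have hOF : ∀ X Y, Y ∈ O X → F Y ∈ O (F X) := fun X Y h => by
    obtain ⟨v, hv, e⟩ := (hOmem _ _).1 h
    refine (hOmem _ _).2 ⟨v, hv, ?_⟩
    show cj v (mv φ X.1) = mv φ Y.1
    rw [← e, mv_cj, hφV v hv]
  have hsym : ∀ X Y, Y ∈ O X → X ∈ O Y := fun X Y h => by
    obtain ⟨v, hv, e⟩ := (hOmem _ _).1 h
    exact (hOmem _ _).2 ⟨v⁻¹, V.inv_mem hv, by rw [← e, cj_inv_cj]⟩
  have htrans : ∀ X Y Z, Y ∈ O X → Z ∈ O Y → Z ∈ O X := fun X Y Z h h' => by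
    obtain ⟨v, hv, e⟩ := (hOmem _ _).1 h
    obtain ⟨w, hw, e'⟩ := (hOmem _ _).1 h'
    exact (hOmem _ _).2 ⟨w * v, V.mul_mem hw hv, by rw [cj_mul, e, e']⟩
  obtain ⟨X, hX⟩ : ∃ X, F X ∈ O X := by
    by_contra hnone
    push Not at hnone
    have : Nonempty P := Fintype.card_pos_iff.1 (by rw [hP]; norm_num)
    obtain ⟨X⟩ := this
    have hdis : ∀ Y Z, Z ∉ O Y → Disjoint (O Y) (O Z) := fun Y Z h =>
      Finset.disjoint_left.2 fun U hU hU' => h (htrans Y U Z hU (hsym Z U hU'))
    have hd := hdis X (F X) (hnone X)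
    obtain ⟨Z, hZ⟩ : ∃ Z, Z ∉ O X ∪ O (F X) := by
      by_contra h
      push Not at h
      have h' := Finset.card_le_card (s := (Finset.univ : Finset P)) fun Z _ => h Z
      rw [Finset.card_univ, hP, Finset.card_union_of_disjoint hd, hO, hO] at h'
      omega
    rw [Finset.mem_union, not_or] at hZ
    have hcov : O X ∪ O (F X) ∪ O Z = Finset.univ := Finset.eq_univ_of_card _ (by
      rw [Finset.card_union_of_disjoint, Finset.card_union_of_disjoint hd, hO, hO, hO, hP]
      exact Finset.disjoint_union_left.2 ⟨hdis X Z hZ.1, hdis (F X) Z hZ.2⟩)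
    have hFZ : F Z ∈ O X ∪ O (F X) ∪ O Z := hcov ▸ Finset.mem_univ _
    simp only [Finset.mem_union] at hFZ
    rcases hFZ with (h | h) | h
    · have := hOF _ _ h
      rw [hFF] at this
      exact hZ.2 this
    · have := hOF _ _ h
      rw [hFF, hFF] at this
      exact hZ.1 this
    · exact hnone Z h
  obtain ⟨v, hv, hvX⟩ := (hOmem _ _).1 hX
  refine ⟨v, mem_four.1 hv, ?_⟩
  set ψ := φ * MulAut.conj v with hψ
  have hvv : v * v = 1 := by
    by_cases h1 : v = 1
    · rw [h1, mul_one]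
    · exact hM.sq_eq (hVo v hv h1)
  have hcomm : φ * MulAut.conj v = MulAut.conj v * φ := MulEquiv.ext fun m => by
    show φ (v * m * v⁻¹) = v * φ m * v⁻¹
    rw [map_mul, map_mul, map_inv, hφV v hv]
  have hψ2 : ψ * ψ = 1 := by
    calc ψ * ψ = φ * (MulAut.conj v * φ) * MulAut.conj v := by rw [hψ]; group
      _ = (φ * φ) * (MulAut.conj v * MulAut.conj v) := by rw [← hcomm]; group
      _ = 1 := by rw [hφ, ← map_mul, hvv, map_one, one_mul]
  have hfix : ∀ w ∈ V, mv ψ (cj w X.1) = cj w X.1 := fun w hw => by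
    have e : ψ w = w := by
      show φ (v * w * v⁻¹) = w
      rw [map_mul, map_mul, map_inv, hφV v hv, hφV w hw, (four_comm hv hw).eq, mul_inv_cancel_right]
    rw [mv_cj, e]
    congr 1
    show mv (φ * MulAut.conj v) X.1 = X.1
    rw [mv_mul, mv_conj, hvX]
    exact congrArg Subtype.val (hFF X)
  have hψ1 : ψ = 1 := by
    by_contra h1
    have hX0 := hfix 1 V.one_mem
    rw [cj_one] at hX0
    obtain ⟨B, -, -, -, -, -, hall⟩ := hM.fixed_pair X.2 hψ2 h1 hX0
    have hcase : ∀ w ∈ V, cj w X.1 = X.1 ∨ cj w X.1 = B := fun w hw =>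
      hall _ ((card_cj w X.1).trans X.2) (hfix w hw)
    have hxV : x ∈ V := mem_four.2 (Or.inr (Or.inl rfl))
    have hyV : y ∈ V := mem_four.2 (Or.inr (Or.inr (Or.inl rfl)))
    have n : ∀ w ∈ V, w ≠ 1 → cj w X.1 = B := fun w hw hw1 =>
      (hcase w hw).resolve_left (hfree X.1 X.2 w hw hw1)
    have e := (n x hxV (fun e => by rw [e, orderOf_one] at hx; norm_num at hx)).trans
      (n y hyV (fun e => by rw [e, orderOf_one] at hy; norm_num at hy)).symm
    refine hfree X.1 X.2 (y⁻¹ * x) (V.mul_mem (V.inv_mem hyV) hxV)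
      (fun h => hne (inv_mul_eq_one.1 h).symm) ?_
    rw [cj_mul, e, cj_inv_cj]
  rw [hψ] at hψ1
  rw [eq_inv_of_mul_eq_one_left hψ1, ← map_inv, inv_eq_of_mul_eq_one_right hvv]

/-- An automorphism centralising a four-group squares into it only trivially. -/
theorem four_sq {x y : M} (hx : orderOf x = 2) (hy : orderOf y = 2) (hne : x ≠ y)
    (hxy : Commute x y) {φ : MulAut M} (hφx : φ x = x) (hφy : φ y = y) :
    φ * φ ≠ MulAut.conj x := by
  classical
  intro hsq
  have := hM.finite
  set V := four (hM.sq_eq hx) (hM.sq_eq hy) hxy with hV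
  have hxV : x ∈ V := mem_four.2 (Or.inr (Or.inl rfl))
  have hxy2 : orderOf (x * y) = 2 := orderOf_eq_prime
    (by rw [hxy.mul_pow, pow_two, pow_two, hM.sq_eq hx, hM.sq_eq hy, one_mul])
    fun e => hne ((inv_eq_of_mul_eq_one_right (hM.sq_eq hx)).symm.trans (inv_eq_of_mul_eq_one_right e))
  have hφV : ∀ v ∈ V, φ v = v := fun v hv => by
    rcases mem_four.1 hv with rfl | rfl | rfl | rfl
    exacts [map_one _, hφx, hφy, by rw [map_mul, hφx, hφy]]
  have hfree : ∀ X : Subgroup M, Nat.card X = 11 → ∀ v ∈ V, v ≠ 1 → cj v X ≠ X := fun X hX v hv hv1 => by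
    refine hM.invol_free ?_ hX
    rcases mem_four.1 hv with rfl | rfl | rfl | rfl
    exacts [absurd rfl hv1, hx, hy, hxy2]
  set P := {X : Subgroup M // Nat.card X = 11}
  have : Fintype P := Fintype.ofFinite _
  have hP : Fintype.card P = 12 := by rw [← Nat.card_eq_fintype_card]; exact hM.card_el
  have : Fintype (four (hM.sq_eq hx) (hM.sq_eq hy) hxy) := Fintype.ofFinite _
  let O : P → Finset P := fun X => Finset.univ.filter fun Y => ∃ v ∈ V, cj v X.1 = Y.1
  have hOmem : ∀ X Y : P, Y ∈ O X ↔ ∃ v ∈ V, cj v X.1 = Y.1 := fun X Y => by simp [O]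
  have hO : ∀ X : P, (O X).card = 4 := fun X => by
    rw [← card_four hx hy hne (hx' := hM.sq_eq hx) (hy' := hM.sq_eq hy) (hxy := hxy),
      Nat.card_eq_fintype_card, ← Finset.card_univ]
    symm
    refine Finset.card_bij (fun v _ => (⟨cj (v : M) X.1, (card_cj _ _).trans X.2⟩ : P))
      (fun v _ => (hOmem _ _).2 ⟨v, v.2, rfl⟩) ?_ ?_
    · intro a _ b _ e
      by_contra hab
      refine hfree X.1 X.2 ((b : M)⁻¹ * a) (V.mul_mem (V.inv_mem b.2) a.2)
        (fun h => hab (Subtype.ext (inv_mul_eq_one.1 h).symm)) ?_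
      rw [cj_mul, show cj (a : M) X.1 = cj (b : M) X.1 from congrArg Subtype.val e, cj_inv_cj]
    · intro Y hY
      obtain ⟨v, hv, e⟩ := (hOmem _ _).1 hY
      exact ⟨⟨v, hv⟩, Finset.mem_univ _, Subtype.ext e⟩
  let F : P → P := fun X => ⟨mv φ X.1, (card_mv φ X.1).trans X.2⟩
  have hFF : ∀ X, F (F X) ∈ O X := fun X => (hOmem _ _).2 ⟨x, hxV, by
    show cj x X.1 = mv φ (mv φ X.1)
    rw [← mv_mul, hsq, mv_conj]⟩
  have hsym : ∀ X Y, Y ∈ O X → X ∈ O Y := fun X Y h => by
    obtain ⟨v, hv, e⟩ := (hOmem _ _).1 h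
    exact (hOmem _ _).2 ⟨v⁻¹, V.inv_mem hv, by rw [← e, cj_inv_cj]⟩
  have htrans : ∀ X Y Z, Y ∈ O X → Z ∈ O Y → Z ∈ O X := fun X Y Z h h' => by
    obtain ⟨v, hv, e⟩ := (hOmem _ _).1 h
    obtain ⟨w, hw, e'⟩ := (hOmem _ _).1 h'
    exact (hOmem _ _).2 ⟨w * v, V.mul_mem hw hv, by rw [cj_mul, e, e']⟩
  have hOF : ∀ X Y, Y ∈ O X → F Y ∈ O (F X) := fun X Y h => by
    obtain ⟨v, hv, e⟩ := (hOmem _ _).1 h
    refine (hOmem _ _).2 ⟨v, hv, ?_⟩
    show cj v (mv φ X.1) = mv φ Y.1
    rw [← e, mv_cj, hφV v hv]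
  obtain ⟨X, hX⟩ : ∃ X, F X ∈ O X := by
    by_contra hnone
    push Not at hnone
    have : Nonempty P := Fintype.card_pos_iff.1 (by rw [hP]; norm_num)
    obtain ⟨X⟩ := this
    have hdis : ∀ Y Z, Z ∉ O Y → Disjoint (O Y) (O Z) := fun Y Z h =>
      Finset.disjoint_left.2 fun U hU hU' => h (htrans Y U Z hU (hsym Z U hU'))
    have hd := hdis X (F X) (hnone X)
    obtain ⟨Z, hZ⟩ : ∃ Z, Z ∉ O X ∪ O (F X) := by
      by_contra h
      push Not at h
      have h' := Finset.card_le_card (s := (Finset.univ : Finset P)) fun Z _ => h Z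
      rw [Finset.card_univ, hP, Finset.card_union_of_disjoint hd, hO, hO] at h'
      omega
    rw [Finset.mem_union, not_or] at hZ
    have hcov : O X ∪ O (F X) ∪ O Z = Finset.univ := Finset.eq_univ_of_card _ (by
      rw [Finset.card_union_of_disjoint, Finset.card_union_of_disjoint hd, hO, hO, hO, hP]
      exact Finset.disjoint_union_left.2 ⟨hdis X Z hZ.1, hdis (F X) Z hZ.2⟩)
    have hFZ : F Z ∈ O X ∪ O (F X) ∪ O Z := hcov ▸ Finset.mem_univ _
    simp only [Finset.mem_union] at hFZ
    rcases hFZ with (h | h) | h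
    · exact hZ.2 (htrans _ _ _ (hOF _ _ h) (hsym _ _ (hFF Z)))
    · exact hZ.1 (htrans _ _ _ (htrans _ _ _ (hFF X) (hOF _ _ h)) (hsym _ _ (hFF Z)))
    · exact hnone Z h
  obtain ⟨v, hv, hvX⟩ := (hOmem _ _).1 hX
  have hvv : v * v = 1 := by
    rcases mem_four.1 hv with rfl | rfl | rfl | rfl
    exacts [one_mul 1, hM.sq_eq hx, hM.sq_eq hy, hM.sq_eq hxy2]
  refine hfree X.1 X.2 x hxV (fun e => by rw [e, orderOf_one] at hx; norm_num at hx) ?_
  have hvX' : mv φ X.1 = cj v X.1 := hvX.symm
  calc cj x X.1 = mv φ (mv φ X.1) := by rw [← mv_mul, hsq, mv_conj]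
    _ = cj v (cj v X.1) := by rw [hvX', mv_cj, hφV v hv, hvX']
    _ = X.1 := by rw [← cj_mul, hvv, cj_one]

/-- Two commuting involutions generate their common centraliser. -/
theorem mem_four_of_commute {x y l : M} (hx : orderOf x = 2) (hy : orderOf y = 2) (hne : x ≠ y)
    (hxy : Commute x y) (hlx : Commute l x) (hly : Commute l y) : l * l = 1 := by
  have := hM.finite
  set V := four (hM.sq_eq hx) (hM.sq_eq hy) hxy with hV
  set K := centralizer ({x} : Set M) ⊓ centralizer ({y} : Set M) with hK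
  have hVK : V ≤ K := fun v hv =>
    ⟨mem_centralizer_singleton_iff.2 (four_comm hv (mem_four.2 (Or.inr (Or.inl rfl)))).eq,
      mem_centralizer_singleton_iff.2 (four_comm hv (mem_four.2 (Or.inr (Or.inr (Or.inl rfl))))).eq⟩
  have hcx := hM.card_centralizer_invol hx
  have hcy := hM.card_centralizer_invol hy
  have h12 : Nat.card K ∣ 12 := hcx ▸ card_dvd_of_le inf_le_left
  have h4 : 4 ∣ Nat.card K := (card_four hx hy hne) ▸ card_dvd_of_le hVK
  have hK4 : Nat.card K = 4 := by
    have hle := Nat.le_of_dvd (by norm_num) h12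
    have key : ∀ n ≤ 12, n ∣ 12 → 4 ∣ n → n = 4 ∨ n = 12 := by decide
    refine (key _ hle h12 h4).resolve_right fun e => hne (hM.centralizer_inj hx hy ?_)
    have e1 : K = centralizer ({x} : Set M) :=
      Subgroup.eq_of_le_of_card_ge inf_le_left (by rw [hcx, e])
    exact Subgroup.eq_of_le_of_card_ge (e1 ▸ inf_le_right) (by rw [hcx, hcy])
  have hl : l ∈ V := by
    rw [show V = K from Subgroup.eq_of_le_of_card_ge hVK (by rw [hK4, card_four hx hy hne])]
    exact ⟨mem_centralizer_singleton_iff.2 hlx.eq, mem_centralizer_singleton_iff.2 hly.eq⟩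
  have hxy2 : x * y * (x * y) = 1 := by
    rw [show x * y * (x * y) = (x * y) ^ 2 from (pow_two _).symm, hxy.mul_pow, pow_two, pow_two,
      hM.sq_eq hx, hM.sq_eq hy, one_mul]
  rcases mem_four.1 hl with rfl | rfl | rfl | rfl
  exacts [one_mul 1, hM.sq_eq hx, hM.sq_eq hy, hxy2]

/-- Squares of automorphisms are inner. -/
theorem sq_inner (φ : MulAut M) : ∃ m : M, φ * φ = MulAut.conj m := by
  have := hM.finite
  obtain ⟨a₀, ha₀⟩ := exists_prime_orderOf_dvd_card' (G := M) 11 (by rw [hM.card]; norm_num)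
  have hA : Nat.card (zpowers a₀) = 11 := by rw [Nat.card_zpowers, ha₀]
  obtain ⟨B, hB, hBA⟩ := hM.exists_el_ne (zpowers a₀)
  obtain ⟨g, hgA, hgB⟩ := hM.trans_two hA hB hBA.symm ((card_mv φ _).trans hA)
    ((card_mv φ _).trans hB) fun e => hBA.symm (mv_injective φ e)
  set ψ := (MulAut.conj g)⁻¹ * φ with hψ
  have hψA : mv ψ (zpowers a₀) = zpowers a₀ := by
    rw [hψ, mv_mul]
    conv_lhs => rw [← hgA]
    rw [← mv_conj, mv_inv_mv]
  have hψB : mv ψ B = B := by
    rw [hψ, mv_mul]
    conv_lhs => rw [← hgB]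
    rw [← mv_conj, mv_inv_mv]
  obtain ⟨c, hc0, hc⟩ := exists_acts hA hψA
  have key : ∀ c : ZMod 11, c ≠ 0 → (c * c) ^ 5 = 1 := by decide +kernel
  obtain ⟨m, -, -, hm⟩ := hM.exists_inner hA hB hBA.symm (hc.mul hA hc)
    (by rw [mv_mul, hψB, hψB]) (key c hc0)
  refine ⟨g * ψ g * m, ?_⟩
  have hφ : φ = MulAut.conj g * ψ := by rw [hψ, mul_inv_cancel_left]
  have hc' : ψ * MulAut.conj g = MulAut.conj (ψ g) * ψ := MulEquiv.ext fun x => by
    show ψ (g * x * g⁻¹) = ψ g * ψ x * (ψ g)⁻¹
    simp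
  calc φ * φ = MulAut.conj g * (ψ * MulAut.conj g) * ψ := by rw [hφ]; group
    _ = MulAut.conj g * MulAut.conj (ψ g) * (ψ * ψ) := by rw [hc']; group
    _ = MulAut.conj (g * ψ g * m) := by rw [hm, map_mul, map_mul]

end Cfsg.Agent.Lib.OrdElevenPairs.IsL
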