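import Cfsg.Agent.Lib.OrdElevenPairs.Perm
import Cfsg.Agent.Lib.OrdElevenPairs.CC
import Cfsg.Agent.Lib.OddTau.Basic

/-!
# No system has a block
-/

set_option autoImplicit false
set_option linter.unusedSectionVars false

namespace Cfsg.Agent.Lib.OrdElevenPairs.Sys

open Cfsg.Agent.Lib.PairOdd Subgroup

universe u

variable {G : Type u} [Group G] {S : Sys G}

theorem fx_mem [Finite G] {t g : G} (hg : g ∈ C1 t) (X : Fx S t) : cj g X.1 ∈ S.D ∧ cj t (cj g X.1) = cj g X.1 :=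
  ⟨S.conj g _ X.2.1, by rw [← cj_mul, (C1_comm hg).eq, cj_mul, X.2.2]⟩

/-- The action on the fixed members. -/
noncomputable def fxPerm [Finite G] (S : Sys G) (t : G) : C1 t →* Equiv.Perm (Fx S t) :=
  MonoidHom.mk' (fun g =>
    { toFun := fun X => ⟨cj (g : G) X.1, fx_mem g.2 X⟩
      invFun := fun X => ⟨cj (g : G)⁻¹ X.1, fx_mem (inv_mem g.2) X⟩
      left_inv := fun _ => Subtype.ext (cj_inv_cj _ _)
      right_inv := fun _ => Subtype.ext (cj_cj_inv _ _) })
    fun a b => Equiv.ext fun X => Subtype.ext (cj_mul (a : G) b X.1)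

theorem fxPerm_apply [Finite G] {t : G} (g : C1 t) (X : Fx S t) :
    ((fxPerm S t g X : Fx S t) : Subgroup G) = cj (g : G) X.1 := rfl

variable [Finite G] (hS : S.Ctx) {M : Subgroup G} (hM : S.Blk M)
include hS hM

set_option maxHeartbeats 1600000 in
theorem no_block : False := by
  classical
  obtain ⟨A, hA, hAM⟩ := hM.exists_member
  obtain ⟨t, htM, ht, htA⟩ := hM.exists_invol hA hAM
  obtain ⟨u, s, huM, hu, htu, hs1, -, hs⟩ := hM.exists_torus hA hAM htM ht htA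
  obtain ⟨A', hA', hA'M, hA'A, htA', huA'⟩ := hM.antipode hA hAM htM ht htA huM hu htu hs
  obtain ⟨r, hr, hf, hr291⟩ := exists_r hS hM hA ht htA
  have h11 := S.card A hA
  have htt := invol_inverts hS hM hA ht htA
  have ht2 : t * t = 1 := by rw [← pow_two, ← ht, pow_orderOf_eq_one]
  have huC1 : u ∈ C1 t := hM.five_mem_C1 htM ht huM htu hu
  have huA : cj u A = A := hs.mv_eq h11
  have hu5 : u ^ 5 = 1 := hu ▸ pow_orderOf_eq_one u
  set Y : Subgroup G := C1 t ⊓ centralizer (A : Set G) with hY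
  have hYodd : ∀ y ∈ Y, Odd (orderOf y) := by
    intro y hy
    rw [← Nat.not_even_iff_odd, even_iff_two_dvd]
    intro hd
    exact odd_cA hS hM hA (pow_mem hy.2 (orderOf y / 2))
      (by rw [orderOf_pow' _ (by have := Nat.le_of_dvd (orderOf_pos y) hd; omega),
        Nat.gcd_eq_right (Nat.div_dvd_of_dvd hd), Nat.div_div_self hd (orderOf_pos y).ne'])
  have hYA : ∀ y ∈ Y, cj y A = A := fun y hy =>
    cj_eq_self_of_commute fun a ha => (mem_centralizer_iff.1 hy.2 a ha).symm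
  have hYfix : ∀ y ∈ Y, ∀ X ∈ S.D, cj t X = X → X ≠ A → cj y X = X → y = 1 := by
    intro y hy X hX htX hXA hyX
    have hN := blk_of_pair hA hX hXA.symm (pair_K hS hM htM ht hA hAM htA hX htX hXA)
    have htN := hN.invol_mem hS ht (cj_pair htA htX)
    rw [← mem_bot, ← C1_inf_cent hS hN htN ht]
    exact ⟨hy.1, cent_pair hA hX hXA.symm hy.2 hyX⟩
  have hfpf : ∀ y ∈ Y, Commute y u → y = 1 := by
    intro y hy hyu
    refine hYfix y hy A' hA' htA' hA'A (fix_two hS hA (S.conj y A' hA') hA' ?_ hA'A ht htt ?_ htA'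
      hu htu hs hs1 ?_ (huA'.mv_eq (S.card A' hA')))
    · intro e
      exact hA'A (by rw [← cj_inv_cj y A', e, hYA _ (inv_mem hy)])
    · rw [← cj_mul, (C1_comm hy.1).eq, cj_mul, htA']
    · rw [← cj_mul, hyu.symm.eq, cj_mul, show cj u A' = A' from huA'.mv_eq (S.card A' hA')]
  -- the stabiliser
  have hdecomp : ∀ h ∈ C1 t, cj h A = A →
      ∃ j : ℕ, j < 5 ∧ ∃ y ∈ Y, h = u ^ j * y ∨ h = t * (u ^ j * y) := by
    intro h hh hhA
    obtain ⟨d, hd0, hd⟩ := exists_acts (φ := MulAut.conj h) h11 hhA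
    have key : ∀ s d : ZMod 11, s ≠ 1 → s ^ 5 = 1 → d ≠ 0 →
        ∃ j < 5, d = s ^ j ∨ d = -(s ^ j) := by decide +kernel
    obtain ⟨j, hj5, hj⟩ := key s d hs1 (five_pow hA hu hs) hd0
    have huj : Acts (MulAut.conj (u ^ j)⁻¹) A (s ^ j)⁻¹ := by
      rw [map_inv, map_pow]; exact (hs.pow h11 j).inv h11
    have hne := pow_ne_zero j (hs.ne_zero h11)
    rcases hj with hj | hj
    · refine ⟨j, hj5, (u ^ j)⁻¹ * h, ⟨(C1 t).mul_mem ((C1 t).inv_mem (pow_mem huC1 j)) hh, acts_conj_iff.1 ?_⟩,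
        Or.inl (by rw [mul_inv_cancel_left])⟩
      have := huj.mul h11 hd
      rwa [← map_mul, hj, inv_mul_cancel₀ hne] at this
    · set x := (u ^ j)⁻¹ * (t * h) with hx
      have hxA : x ∈ centralizer (A : Set G) := acts_conj_iff.1 (by
        have := huj.mul h11 (htt.mul h11 hd)
        rwa [← map_mul, ← map_mul, hj, neg_one_mul, neg_neg, inv_mul_cancel₀ hne] at this)
      have hxt : Commute t x :=
        ((htu.pow_right j).inv_right).mul_right ((Commute.refl t).mul_right (C1_comm hh))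
      have htx : t * x = (u ^ j)⁻¹ * h := by
        rw [hx, ← mul_assoc t, ((htu.pow_right j).inv_right).eq, mul_assoc, ← mul_assoc t t h, ht2,
          one_mul]
      have hx2 : x ^ 2 ∈ C1 t := by
        have : (t * x) ^ 2 = x ^ 2 := by rw [hxt.mul_pow, pow_two t, ht2, one_mul]
        rw [← this, htx]
        exact pow_mem (mul_mem (inv_mem (pow_mem huC1 j)) hh) 2
      have hxodd : Odd (orderOf x) := by
        rw [← Nat.not_even_iff_odd, even_iff_two_dvd]
        intro hd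
        exact odd_cA hS hM hA (pow_mem hxA (orderOf x / 2))
          (by rw [orderOf_pow' _ (by have := Nat.le_of_dvd (orderOf_pos x) hd; omega),
            Nat.gcd_eq_right (Nat.div_dvd_of_dvd hd), Nat.div_div_self hd (orderOf_pos x).ne'])
      obtain ⟨i, hi⟩ := hxodd.add_odd odd_one
      have hxC : x ∈ C1 t := by
        have e : x = (x ^ 2) ^ i := by
          rw [← pow_mul, show 2 * i = orderOf x + 1 from (two_mul i).trans hi.symm, pow_succ,
            pow_orderOf_eq_one, one_mul]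
        exact e ▸ pow_mem hx2 i
      refine ⟨j, hj5, x, ⟨hxC, hxA⟩, Or.inr ?_⟩
      rw [hx, mul_inv_cancel_left, ← mul_assoc, ht2, one_mul]
  have htrans : ∀ X ∈ S.D, cj t X = X → ∃ g ∈ C1 t, cj g A = X := by
    intro X hX htX
    by_cases hXA : X = A
    · exact ⟨1, one_mem _, by rw [cj_one, hXA]⟩
    have hN := blk_of_pair hA hX (Ne.symm hXA) (pair_K hS hM htM ht hA hAM htA hX htX hXA)
    have htN := hN.invol_mem hS ht (cj_pair htA htX)
    obtain ⟨g, hg, hgA⟩ := hN.isK.trans_fixed (A := A.subgroupOf (A ⊔ X)) (hN.card_sub hA le_sup_left)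
      (t := ⟨t, htN⟩) (by rwa [orderOf_mk]) (by rw [cj_subgroupOf, htA]) (X := X.subgroupOf (A ⊔ X))
      (hN.card_sub hX le_sup_right) (by rw [cj_subgroupOf, htX])
    rw [cj_subgroupOf] at hgA
    have hgA' : cj (g : G) A = X :=
      subgroupOf_inj (cj_le_of_mem (cj_self g.2) le_sup_left) le_sup_right hgA
    have hgt : Commute t (g : G) := congrArg Subtype.val hg.eq
    rcases hN.mem_C1 htN ht g.2 hgt with h | h
    · exact ⟨_, h, hgA'⟩
    · exact ⟨_, h, by rw [hgt.eq, cj_mul, htA, hgA']⟩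
  -- `Y` is regular on the blocks at `A`
  have hYM : ∀ y ∈ Y, cj y M = M → y = 1 := by
    intro y hy hyM
    exact hYfix y hy A' hA' htA' hA'A (by
      obtain ⟨m, hm, hc⟩ := hM.exists_split hyM
      have hmA : m ∈ centralizer (A : Set G) := by
        have := (centralizer (A : Set G)).mul_mem hy.2
          ((centralizer (A : Set G)).inv_mem (centralizer_le (SetLike.coe_subset_coe.2 hAM) hc))
        rwa [mul_inv_rev, inv_inv, mul_inv_cancel_left] at this
      have hmA' : m ∈ A := hM.isK.mem_of_acts_one (hM.card_sub hA hAM) (m := ⟨m, hm⟩)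
        ((conj_acts_iff hAM ⟨m, hm⟩).2 (acts_conj_iff.2 hmA))
      have hmt : Commute t m := by
        have h1 : Commute t (m⁻¹ * y)⁻¹ :=
          (show Commute t (m⁻¹ * y) from mem_centralizer_iff.1 hc t htM).inv_right
        have := (C1_comm hy.1).mul_right h1
        rwa [mul_inv_rev, inv_inv, mul_inv_cancel_left] at this
      have hm1 : m = 1 := by
        by_contra hne
        have h2 : m ^ (-1 : ZMod 11).val = m := by
          rw [← htt m hmA', MulAut.conj_apply, hmt.eq, mul_inv_cancel_right]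
        conv_rhs at h2 => rw [← pow_one m]
        rw [pow_eq_pow_iff_modEq, orderOf_mem h11 hmA' hne] at h2
        exact absurd h2 (by decide)
      rw [hm1, inv_one, one_mul] at hc
      exact cj_eq_self_of_commute fun x hx => (mem_centralizer_iff.1 hc x (hA'M hx)).symm)
  have hcardY : Nat.card Y = r := by
    rw [← hr]
    refine Nat.card_congr (Equiv.ofBijective (fun y : Y => (⟨cj (y : G) M, hM.cj_blk _,
      (hYA _ y.2).symm.le.trans (cj_mono hAM), by
        rw [mem_cj, mul_assoc, (C1_comm y.2.1).eq, inv_mul_cancel_left]; exact htM⟩ : BlAT S A t))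
      ⟨?_, ?_⟩)
    · intro a b e
      have e' : cj (a : G) M = cj (b : G) M := congrArg Subtype.val e
      refine (inv_mul_eq_one.1 (Subtype.ext (hYM _ ((a⁻¹ * b : Y)).2 ?_)))
      rw [Subgroup.coe_mul, cj_mul, ← e', InvMemClass.coe_inv, cj_inv_cj]
    · rintro ⟨N, hN, hAN, htN⟩
      obtain ⟨v, s', hvN, hv, htv, hs'1, -, hs'⟩ := hN.exists_torus hA hAN htN ht htA
      have := Fact.mk (by norm_num : Nat.Prime 5)
      obtain ⟨h, ⟨hhC, hhA⟩, hhv⟩ := exists_conj_into (p := 5)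
        (H := C1 t ⊓ normalizer (A : Set G)) (K := normalizer (M : Set G)) (u := u)
        ⟨huC1, cj_eq_self_iff.1 huA⟩ (cj_eq_self_iff.1 (cj_self huM))
        (n := 1) (by rw [pow_one, hu5])
        (fun h ⟨hhC, hhA⟩ hhu => cj_eq_self_iff.1 (unique_of_five hS hM (hM.cj_blk h) hA hAM
          ((cj_eq_self_iff.2 hhA).symm.le.trans (cj_mono hAM)) (cj_self huM) (by
            have e := cj_eq_self_iff.2 hhu
            rw [cj_mul, cj_mul] at e
            rw [← cj_cj_inv h (cj u (cj h M)), e])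
          hu hs hs1))
        (x := v) ⟨hN.five_mem_C1 htN ht hvN htv hv, cj_eq_self_iff.1 (hs'.mv_eq h11)⟩
        (m := 1) (by rw [pow_one, ← hv, pow_orderOf_eq_one])
      have hhA' : cj h A = A := cj_eq_self_iff.2 hhA
      have hNM : cj h N = M := by
        refine unique_of_five hS hM (hN.cj_blk h) hA hAM (hhA'.symm.le.trans (cj_mono hAN))
          (cj_eq_self_iff.2 hhv) (by rw [← cj_mul, inv_mul_cancel_right, cj_mul, cj_self hvN])
          (by rw [show h * v * h⁻¹ = MulAut.conj h v from rfl, MulEquiv.orderOf_eq, hv]) ?_ hs'1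
        have := hs'.transport (MulAut.conj h)
        rw [mv_conj, hhA'] at this
        simpa using this
      obtain ⟨j, -, y, hy, hh⟩ := hdecomp h hhC hhA'
      have hyN : cj y N = M := by
        have hMu : ∀ X : Subgroup G, cj (u ^ j) X = M → X = M := fun X hX => by
          rw [← cj_inv_cj (u ^ j) X, hX, cj_eq_self_iff.2 (inv_mem (pow_mem (cj_eq_self_iff.1 (cj_self huM)) j))]
        rcases hh with rfl | rfl
        · rw [cj_mul] at hNM; exact hMu _ hNM
        · rw [cj_mul, cj_mul] at hNM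
          refine hMu _ ?_
          rw [← cj_inv_cj t (cj (u ^ j) (cj y N)), hNM, cj_self (inv_mem htM)]
      exact ⟨⟨y⁻¹, inv_mem hy⟩, Subtype.ext (by show cj y⁻¹ M = N; rw [← hyN, cj_inv_cj])⟩
  -- free action of the torus
  have huY : ∀ y ∈ Y, ∀ i : ℕ, (u ^ i)⁻¹ * y * u ^ i ∈ Y := by
    intro y hy i
    refine ⟨(C1 t).mul_mem ((C1 t).mul_mem ((C1 t).inv_mem (pow_mem huC1 i)) hy.1) (pow_mem huC1 i), ?_⟩
    have hcA : cj ((u ^ i)⁻¹) A = A :=
      cj_eq_self_iff.2 (inv_mem (pow_mem (cj_eq_self_iff.1 huA) i))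
    have h := (cj_centralizer _ A).le (conj_mem_cj (g := (u ^ i)⁻¹) hy.2)
    rwa [hcA, inv_inv] at h
  have hfree : ∀ i : ℕ, ¬ 5 ∣ i → ∀ y₀ ∈ Y, ∀ y ∈ Y, Commute (u ^ i * y₀) y → y = 1 := by
    intro i hi y₀ hy₀ y hy hcomm
    obtain ⟨k, hk⟩ : ∃ k : ℕ, (u ^ i) ^ k = u := by
      have key : ∀ m < 5, m ≠ 0 → ∃ k < 5, m * k % 5 = 1 := by decide
      obtain ⟨k, -, hk⟩ := key (i % 5) (Nat.mod_lt _ (by norm_num))
        (fun e => hi (Nat.dvd_of_mod_eq_zero e))
      refine ⟨k, ?_⟩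
      rw [← pow_mul, ← pow_mod_orderOf, hu,
        show i * k % 5 = 1 by rwa [Nat.mod_mul_mod] at hk, pow_one]
    let f : Y → Y := fun a => ⟨(u ^ i)⁻¹ * (a : G) * u ^ i * (a : G)⁻¹,
      mul_mem (huY a a.2 i) (inv_mem a.2)⟩
    have hf : Function.Injective f := by
      intro a b e
      have e' : (u ^ i)⁻¹ * (a : G) * u ^ i * (a : G)⁻¹ = (u ^ i)⁻¹ * (b : G) * u ^ i * (b : G)⁻¹ :=
        congrArg Subtype.val e
      have hc : Commute ((b : G)⁻¹ * a) (u ^ i) := by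
        show (b : G)⁻¹ * a * u ^ i = u ^ i * ((b : G)⁻¹ * a)
        calc (b : G)⁻¹ * a * u ^ i
            = (b : G)⁻¹ * u ^ i * ((u ^ i)⁻¹ * (a : G) * u ^ i * (a : G)⁻¹) * a := by group
          _ = (b : G)⁻¹ * u ^ i * ((u ^ i)⁻¹ * (b : G) * u ^ i * (b : G)⁻¹) * a := by rw [e']
          _ = u ^ i * ((b : G)⁻¹ * a) := by group
      have := hfpf _ (mul_mem (inv_mem b.2) a.2) (hk ▸ hc.pow_right k)
      exact (Subtype.ext (inv_mul_eq_one.1 this)).symm
    obtain ⟨⟨a, ha⟩, hfa⟩ := (Finite.injective_iff_surjective.1 hf) ⟨y₀, hy₀⟩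
    have e : u ^ i * y₀ = a * u ^ i * a⁻¹ := by
      rw [← show (u ^ i)⁻¹ * a * u ^ i * a⁻¹ = y₀ from congrArg Subtype.val hfa]; group
    rw [e] at hcomm
    have hc : Commute (a⁻¹ * y * a) (u ^ i) := by
      show a⁻¹ * y * a * u ^ i = u ^ i * (a⁻¹ * y * a)
      calc a⁻¹ * y * a * u ^ i = a⁻¹ * (y * (a * u ^ i * a⁻¹)) * a := by group
        _ = a⁻¹ * (a * u ^ i * a⁻¹ * y) * a := by rw [hcomm.eq]
        _ = u ^ i * (a⁻¹ * y * a) := by group
    have := hfpf _ (mul_mem (mul_mem (inv_mem ha) hy) ha) (hk ▸ hc.pow_right k)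
    calc y = a * (a⁻¹ * y * a) * a⁻¹ := by group
      _ = 1 := by rw [this]; group
  obtain ⟨y₁, hy₁, hy₁1⟩ : ∃ y ∈ Y, y ≠ 1 := by
    by_contra h
    push Not at h
    have : Y = ⊥ := (Subgroup.eq_bot_iff_forall _).2 h
    rw [this, Subgroup.card_bot] at hcardY
    omega
  -- the permutation group
  set ρ := fxPerm S t with hρ
  let a₀ : Fx S t := ⟨A, hA, htA⟩
  set T : Subgroup ρ.range := MulAction.stabilizer ρ.range a₀ with hT
  set Yb : Subgroup ρ.range := (Y.subgroupOf (C1 t)).map ρ.rangeRestrict with hYb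
  have hsmul : ∀ (g : C1 t) (X : Fx S t), ρ.rangeRestrict g • X = ρ g X := fun _ _ => rfl
  have hfixA : ∀ g : C1 t, ρ.rangeRestrict g ∈ T ↔ cj (g : G) A = A := fun g => by
    rw [hT, MulAction.mem_stabilizer_iff, hsmul, Subtype.ext_iff, fxPerm_apply]
  have hρt : ∀ g g' : C1 t, (g : G) = t * (g' : G) → ρ g = ρ g' := fun g g' e =>
    Equiv.ext fun X => Subtype.ext (by
      rw [fxPerm_apply, fxPerm_apply, e, cj_mul, (fx_mem g'.2 X).2])
  have hex : ∃ X : Fx S t, X ≠ a₀ := ⟨⟨A', hA', htA'⟩, fun e => hA'A (congrArg Subtype.val e)⟩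
  have hinjY : ∀ y y' : C1 t, (y : G) ∈ Y → (y' : G) ∈ Y → ρ y = ρ y' → y = y' := by
    intro y y' hy hy' e
    obtain ⟨X, hX⟩ := hex
    refine (Subtype.ext ?_)
    have e1 : cj (y : G) X.1 = cj (y' : G) X.1 :=
      congrArg Subtype.val (DFunLike.congr_fun e X)
    exact (inv_mul_eq_one.1 (hYfix _ (mul_mem (inv_mem hy') hy) X.1 X.2.1 X.2.2
      (fun h => hX (Subtype.ext h)) (by rw [cj_mul, e1, cj_inv_cj]))).symm
  have hYbmem : ∀ γ : ρ.range, γ ∈ Yb ↔ ∃ y : C1 t, (y : G) ∈ Y ∧ ρ.rangeRestrict y = γ :=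
    fun γ => Iff.rfl
  have hcardYb : Nat.card Yb = r := by
    rw [← hcardY]
    refine (Nat.card_congr (Equiv.ofBijective (fun y : Y =>
      (⟨ρ.rangeRestrict ⟨y, y.2.1⟩, (hYbmem _).2 ⟨⟨y, y.2.1⟩, y.2, rfl⟩⟩ : Yb)) ⟨?_, ?_⟩)).symm
    · intro a b e
      exact Subtype.ext (congrArg (Subtype.val : C1 t → G) (hinjY ⟨a, a.2.1⟩ ⟨b, b.2.1⟩ a.2 b.2
        (congrArg (fun z : Yb => ((z : ρ.range) : Equiv.Perm (Fx S t))) e)))
    · rintro ⟨γ, hγ⟩
      obtain ⟨y, hy, rfl⟩ := (hYbmem γ).1 hγ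
      exact ⟨⟨y, hy⟩, rfl⟩
  have hYonly : ∀ y : C1 t, (y : G) ∈ Y → y ≠ 1 → ∀ X : Fx S t, ρ y X = X → X = a₀ := by
    intro y hy hy1 X h
    by_contra hne
    exact hy1 (Subtype.ext (hYfix _ hy X.1 X.2.1 X.2.2 (fun e => hne (Subtype.ext e))
      (congrArg Subtype.val h)))
  -- the stabiliser
  have hTform : ∀ γ ∈ T, ∃ j : ℕ, j < 5 ∧ ∃ y : C1 t, (y : G) ∈ Y ∧
      γ = ρ.rangeRestrict (⟨u, huC1⟩ ^ j * y) := by
    rintro ⟨_, g, rfl⟩ hγ
    obtain ⟨j, hj, y, hy, h⟩ := hdecomp g g.2 ((hfixA g).1 hγ)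
    refine ⟨j, hj, ⟨y, hy.1⟩, hy, Subtype.ext ?_⟩
    show ρ g = ρ _
    rcases h with h | h
    · exact congrArg ρ (Subtype.ext (by simpa using h))
    · exact hρt _ _ (by simpa using h)
  have hYT : Yb ≤ T := by
    rintro γ hγ
    obtain ⟨y, hy, rfl⟩ := (hYbmem γ).1 hγ
    exact (hfixA y).2 (hYA _ hy)
  have hTY : T ≤ normalizer (Yb : Set ρ.range) := by
    intro γ hγ
    refine cj_eq_self_iff.1 (cj_eq_of_le ?_)
    rintro _ ⟨z, hz, rfl⟩
    obtain ⟨y, hy, rfl⟩ := (hYbmem z).1 hz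
    obtain ⟨g, rfl⟩ := ρ.rangeRestrict_surjective γ
    show ρ.rangeRestrict g * ρ.rangeRestrict y * (ρ.rangeRestrict g)⁻¹ ∈ Yb
    rw [← map_inv, ← map_mul, ← map_mul]
    refine (hYbmem _).2 ⟨g * y * g⁻¹, ⟨(g * y * g⁻¹).2, ?_⟩, rfl⟩
    have hgA := (hfixA g).1 hγ
    have h := (cj_centralizer (g : G) A).le (conj_mem_cj (g := (g : G)) hy.2)
    rw [hgA] at h
    simpa using h
  obtain ⟨y₁', hy₁'⟩ : ∃ y : C1 t, (y : G) = y₁ := ⟨⟨y₁, hy₁.1⟩, rfl⟩
  have hN : normalizer (Yb : Set ρ.range) = T := by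
    refine le_antisymm (fun γ hγ => ?_) hTY
    obtain ⟨g, rfl⟩ := ρ.rangeRestrict_surjective γ
    rw [hfixA]
    have h1 : ρ.rangeRestrict y₁' ∈ Yb := (hYbmem _).2 ⟨y₁', hy₁' ▸ hy₁, rfl⟩
    obtain ⟨y, hy, hye⟩ := (hYbmem _).1 ((mem_normalizer_iff.1 hγ _).1 h1)
    have hy1 : y ≠ 1 := by
      intro e
      rw [e, map_one, eq_comm, conj_eq_one_iff, ← map_one ρ.rangeRestrict] at hye
      have := hinjY y₁' 1 (hy₁' ▸ hy₁) (one_mem _)
        (congrArg (fun z : ρ.range => (z : Equiv.Perm (Fx S t))) hye)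
      exact hy₁1 (by rw [← hy₁', this, Subgroup.coe_one])
    have hfix : ρ y (ρ g a₀) = ρ g a₀ := by
      rw [← hsmul, ← hsmul, hye, mul_smul, mul_smul, inv_smul_smul,
        show ρ.rangeRestrict y₁' • a₀ = a₀ from (hfixA y₁').2 (hYA _ (hy₁' ▸ hy₁))]
    exact congrArg Subtype.val (hYonly y hy hy1 _ hfix)
  have hcommY : ∀ (g : C1 t) (y : C1 t), (y : G) ∈ Y → cj (g : G) A = A →
      ρ g * ρ y = ρ y * ρ g → Commute (g : G) (y : G) := by
    intro g y hy hgA h
    have hmem : ((g * y * g⁻¹ : C1 t) : G) ∈ Y := by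
      refine ⟨(g * y * g⁻¹).2, ?_⟩
      have := (cj_centralizer (g : G) A).le (conj_mem_cj (g := (g : G)) hy.2)
      rw [hgA] at this
      simpa using this
    have := hinjY _ y hmem hy (by rw [map_mul, map_mul, map_inv, h, mul_inv_cancel_right])
    exact mul_inv_eq_iff_eq_mul.1 (by simpa using congrArg (Subtype.val : C1 t → G) this)
  have hcardT : Nat.card T = 5 * r := by
    rw [← hcardYb]
    let f : Fin 5 × Yb → T := fun p =>
      ⟨ρ.rangeRestrict ⟨u, huC1⟩ ^ (p.1 : ℕ) * p.2, mul_mem (pow_mem ((hfixA _).2 huA) _) (hYT p.2.2)⟩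
    have hf : Function.Bijective f := by
      refine ⟨?_, ?_⟩
      · rintro ⟨i, ⟨a, ha⟩⟩ ⟨j, ⟨b, hb⟩⟩ e
        have e' : ρ.rangeRestrict ⟨u, huC1⟩ ^ (i : ℕ) * a =
            ρ.rangeRestrict ⟨u, huC1⟩ ^ (j : ℕ) * b := congrArg Subtype.val e
        have hu5' : ρ.rangeRestrict ⟨u, huC1⟩ ^ 5 = 1 := by
          rw [← map_pow, show (⟨u, huC1⟩ : C1 t) ^ 5 = 1 from Subtype.ext hu5, map_one]
        have key : ρ.rangeRestrict ⟨u, huC1⟩ ^ ((i : ℕ) + 4 * (j : ℕ)) ∈ Yb := by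
          have hji : ρ.rangeRestrict ⟨u, huC1⟩ ^ ((i : ℕ) + 4 * (j : ℕ)) = b * a⁻¹ := by
            rw [eq_mul_inv_iff_mul_eq, add_comm, pow_add, mul_assoc, e', ← mul_assoc, ← pow_add,
              show 4 * (j : ℕ) + j = 5 * j by ring, pow_mul, hu5', one_pow, one_mul]
          exact hji ▸ mul_mem hb (inv_mem ha)
        have hij : i = j := by
          by_contra hne
          obtain ⟨y, hy, hye⟩ := (hYbmem _).1 key
          rw [← map_pow] at hye
          have hρe : ρ y = ρ (⟨u, huC1⟩ ^ ((i : ℕ) + 4 * (j : ℕ))) :=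
            congrArg (fun z : ρ.range => (z : Equiv.Perm (Fx S t))) hye
          have hnd : ¬ 5 ∣ (i : ℕ) + 4 * (j : ℕ) := by
            intro hd
            have hi := i.isLt
            have hj := j.isLt
            exact hne (Fin.ext (by omega))
          refine hy₁1 (hfree _ hnd y⁻¹ (inv_mem hy) y₁ hy₁ ?_)
          have := hcommY (⟨u, huC1⟩ ^ ((i : ℕ) + 4 * (j : ℕ)) * y⁻¹) y₁' (hy₁' ▸ hy₁) (by
            show cj (((⟨u, huC1⟩ : C1 t) ^ ((i : ℕ) + 4 * (j : ℕ)) * y⁻¹ : C1 t) : G) A = A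
            rw [Subgroup.coe_mul, cj_mul, InvMemClass.coe_inv, hYA _ (inv_mem hy), SubgroupClass.coe_pow,
              cj_eq_self_iff.2 (pow_mem (cj_eq_self_iff.1 huA) _)]) (by
            rw [map_mul, map_inv, ← hρe, mul_inv_cancel, one_mul, mul_one])
          rw [hy₁'] at this
          simpa using this
        subst hij
        obtain rfl := mul_left_cancel e'
        rfl
      · rintro ⟨γ, hγ⟩
        obtain ⟨j, hj, y, hy, rfl⟩ := hTform γ hγ
        refine ⟨⟨⟨j, hj⟩, ⟨ρ.rangeRestrict y, (hYbmem _).2 ⟨y, hy, rfl⟩⟩⟩, Subtype.ext ?_⟩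
        show ρ.rangeRestrict ⟨u, huC1⟩ ^ j * ρ.rangeRestrict y =
          ρ.rangeRestrict (⟨u, huC1⟩ ^ j * y)
        exact ((map_mul ρ.rangeRestrict _ _).trans (congrArg (· * _) (map_pow _ _ _))).symm
    rw [← Nat.card_congr (Equiv.ofBijective f hf), Nat.card_prod, Nat.card_fin]
  have hindex : T.index = 1 + 11 * r := by
    rw [hT, MulAction.index_stabilizer, ← hf, show MulAction.orbit ρ.range a₀ = Set.univ from ?_,
      Set.ncard_univ]
    refine Set.eq_univ_of_forall fun X => ?_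
    obtain ⟨g, hg, hgA⟩ := htrans X.1 X.2.1 X.2.2
    exact ⟨ρ.rangeRestrict ⟨g, hg⟩, Subtype.ext hgA⟩
  have hrel : Yb.relIndex (normalizer (Yb : Set ρ.range)) = 5 := by
    rw [hN]
    have h := (Yb.subgroupOf T).card_mul_index
    rw [Nat.card_congr (subgroupOfEquivOfLe hYT).toEquiv, hcardYb, hcardT, mul_comm 5 r] at h
    exact Nat.eq_of_mul_eq_mul_left (by omega) h
  have hperf : commutator ρ.range = ⊤ := by
    have h1 : commutator (C1 t) = ⊤ := by
      apply map_injective (C1 t).subtype_injective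
      rw [_root_.commutator_def, map_commutator, ← MonoidHom.range_eq_map, range_subtype, C1_perfect]
    have h2 : (⊤ : Subgroup (C1 t)).map ρ.rangeRestrict = ⊤ :=
      map_top_of_surjective _ ρ.rangeRestrict_surjective
    rw [_root_.commutator_def, ← h2, ← map_commutator, ← _root_.commutator_def, h1]
  have hnilY : Group.IsNilpotent Y := by
    have := Fact.mk (by norm_num : Nat.Prime 5)
    refine Cfsg.Agent.Lib.OddTau.Basic.isNilpotent_of_fpf (p := 5) ?_ (a := u) ?_ hu5 ?_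
    · refine Cfsg.Agent.Lib.OddOrder.FeitThompson.isSolvable_of_odd_card ?_
      rw [← Nat.not_even_iff_odd, even_iff_two_dvd]
      intro hd
      obtain ⟨⟨z, hz⟩, ho⟩ := exists_prime_orderOf_dvd_card' (G := Y) 2 hd
      rw [orderOf_mk] at ho
      exact odd_cA hS hM hA hz.2 ho
    · refine cj_eq_self_iff.1 (cj_eq_of_le ?_)
      rintro _ ⟨y, hy, rfl⟩
      have h := huY y hy 4
      have e : (u ^ 4)⁻¹ = u := inv_eq_of_mul_eq_one_left (by rw [← pow_succ', hu5])
      have e4 : u ^ 4 = u⁻¹ := by rw [← inv_inv (u ^ 4), e]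
      rwa [e4, inv_inv] at h
    · exact (Subgroup.eq_bot_iff_forall _).2 fun y hy =>
        hfpf y hy.1 (mem_centralizer_singleton_iff.1 hy.2)
  have hnil : Group.IsNilpotent Yb := by
    have h1 : Group.IsNilpotent (Y.subgroupOf (C1 t)) :=
      Group.nilpotent_of_mulEquiv (subgroupOfEquivOfLe (inf_le_left : Y ≤ C1 t)).symm
    exact Group.nilpotent_of_surjective (ρ.rangeRestrict.subgroupMap _)
      (MonoidHom.subgroupMap_surjective _ _)
  have hC : ∀ k ∈ Yb, k ≠ 1 → centralizer ({k} : Set ρ.range) ≤ Yb := by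
    intro k hk hk1 γ hγ
    obtain ⟨y, hy, rfl⟩ := (hYbmem k).1 hk
    have hy1 : y ≠ 1 := fun e => hk1 (by rw [e, map_one])
    rw [mem_centralizer_singleton_iff] at hγ
    have hγT : γ ∈ T := by
      rw [hT, MulAction.mem_stabilizer_iff]
      refine hYonly y hy hy1 _ ?_
      rw [← hsmul, ← mul_smul, ← hγ, mul_smul, show ρ.rangeRestrict y • a₀ = a₀ from
        (hfixA y).2 (hYA _ hy)]
    obtain ⟨j, hj, y₀, hy₀, rfl⟩ := hTform γ hγT
    have hgA : cj ((⟨u, huC1⟩ ^ j * y₀ : C1 t) : G) A = A := (hfixA _).1 hγT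
    have hc := hcommY _ y hy hgA (congrArg (fun z : ρ.range => (z : Equiv.Perm (Fx S t))) hγ)
    rcases Nat.eq_zero_or_pos j with rfl | hj0
    · exact (hYbmem _).2 ⟨y₀, hy₀, by rw [pow_zero, one_mul]⟩
    · exfalso
      exact hy1 (Subtype.ext (hfree j (fun h => by have := Nat.le_of_dvd hj0 h; omega) _ hy₀ _ hy
        (by simpa using hc)))
  have hTI : Cfsg.IsTISubset (Yb : Set ρ.range) := by
    intro γ hγ x hx hγx
    rw [hN] at hγ
    by_contra hx1
    obtain ⟨y, hy, rfl⟩ := (hYbmem x).1 hx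
    refine hγ ?_
    rw [hT, MulAction.mem_stabilizer_iff]
    have h1 : (γ * ρ.rangeRestrict y * γ⁻¹) • a₀ = a₀ := hYT hγx
    have h2 : ρ y (γ⁻¹ • a₀) = γ⁻¹ • a₀ := by
      rw [← hsmul, ← mul_smul]
      conv_rhs => rw [← h1]
      rw [← mul_smul]
      simp [mul_assoc]
    have h3 := hYonly y hy (fun e => hx1 (by rw [e, map_one])) _ h2
    exact (inv_smul_eq_iff.1 h3).symm
  have hodd : ¬ 2 ∣ Nat.card Yb := by
    rw [hcardYb, ← hcardY]
    intro hd
    obtain ⟨⟨z, hz⟩, ho⟩ := exists_prime_orderOf_dvd_card' (G := Y) 2 hd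
    rw [orderOf_mk] at ho
    exact odd_cA hS hM hA hz.2 ho
  exact CC.no_cc Yb hperf hnil hTI hC hrel hodd (by rw [hcardYb]; exact hr291)
    (by rw [hN, hindex, hcardYb])

end Cfsg.Agent.Lib.OrdElevenPairs.Sys
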