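import Mathlib.GroupTheory.Transfer
import Cfsg.Agent.Lib.OrdElevenPairs.Count

/-!
# The perfect part of the centraliser of an involution of a block
-/

set_option autoImplicit false
set_option linter.unusedSectionVars false

namespace Cfsg.Agent.Lib.OrdElevenPairs

open Cfsg.Agent.Lib.PairOdd Subgroup

universe u

theorem IsK.five_fixes {M : Type u} [Group M] (hK : IsK M) {k : M} (hk : orderOf k = 5) :
    ∃ Y : Subgroup M, Nat.card Y = 11 ∧ cj k Y = Y := by
  have := hK.finite
  have : Fact (Nat.Prime 5) := ⟨by norm_num⟩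
  obtain ⟨a, ha⟩ := exists_prime_orderOf_dvd_card' (G := M) 11 (by rw [hK.card]; norm_num)
  have hA : Nat.card (zpowers a) = 11 := by rw [Nat.card_zpowers, ha]
  obtain ⟨t, ht, htA⟩ := hK.exists_invol_normalizer hA
  obtain ⟨u, s, hu, -, -, -, huA, -⟩ := hK.exists_torus hA ht htA
  have hfac : (175560 : ℕ).factorization 5 = 1 := by
    rw [show (175560 : ℕ) = 5 ^ 1 * 35112 by norm_num, Nat.factorization_mul (by norm_num) (by norm_num),
      Finsupp.add_apply, Nat.factorization_eq_zero_of_not_dvd (show ¬ 5 ∣ 35112 by norm_num),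
      Nat.Prime.factorization_pow (by norm_num), Finsupp.single_eq_same]
  let P : Sylow 5 M := Sylow.ofCard (zpowers u) (by rw [Nat.card_zpowers, hu, hK.card, hfac, pow_one])
  let Q : Sylow 5 M := Sylow.ofCard (zpowers k) (by rw [Nat.card_zpowers, hk, hK.card, hfac, pow_one])
  obtain ⟨g, hg⟩ := MulAction.exists_smul_eq M P Q
  have hz : zpowers k = cj g (zpowers u) := by
    have := congrArg (fun R : Sylow 5 M => (R : Subgroup M)) hg
    simp only [Sylow.coe_subgroup_smul] at this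
    exact this.symm
  refine ⟨cj g (zpowers a), (card_cj _ _).trans hA, ?_⟩
  obtain ⟨i, hi⟩ := mem_cj.1 (hz ▸ mem_zpowers k : k ∈ cj g (zpowers u))
  rw [← cj_mul, show k * g = g * (g⁻¹ * k * g) by group, cj_mul, ← hi,
    cj_eq_self_iff.2 (zpow_mem (cj_eq_self_iff.1 huA) i)]

namespace Sys

variable {G : Type u} [Group G] [Finite G] {S : Sys G}

/-- The largest perfect subgroup of `C(t)`. -/
def C1 (t : G) : Subgroup G := sSup {P : Subgroup G | P ≤ centralizer ({t} : Set G) ∧ ⁅P, P⁆ = P}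

theorem C1_le (t : G) : C1 t ≤ centralizer ({t} : Set G) := sSup_le fun _ h => h.1

theorem C1_perfect (t : G) : ⁅C1 t, C1 t⁆ = C1 t :=
  le_antisymm (Subgroup.commutator_le_self _) (sSup_le fun P hP =>
    hP.2.symm.le.trans (commutator_mono (le_sSup hP) (le_sSup hP)))

theorem C1_comm {t g : G} (hg : g ∈ C1 t) : Commute t g :=
  (mem_centralizer_singleton_iff.1 (C1_le t hg)).symm

theorem Blk.mem_C1 {N : Subgroup G} (hN : S.Blk N) {t : G} (htN : t ∈ N) (ht : orderOf t = 2)
    {c : G} (hcN : c ∈ N) (hct : Commute t c) : c ∈ C1 t ∨ t * c ∈ C1 t := by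
  obtain ⟨D, hD, hperf, hor⟩ := hN.isK.exists_perfect (t := ⟨t, htN⟩) (by rwa [orderOf_mk])
  have hle : D.map N.subtype ≤ C1 t := le_sSup ⟨by
      rintro _ ⟨x, hx, rfl⟩
      exact mem_centralizer_singleton_iff.2
        (congrArg Subtype.val (mem_centralizer_singleton_iff.1 (hD hx))), by
      rw [← map_commutator, hperf]⟩
  rcases hor ⟨c, hcN⟩ (mem_centralizer_singleton_iff.2 (Subtype.ext hct.symm.eq)) with h | h
  · exact Or.inl (hle ⟨_, h, rfl⟩)
  · exact Or.inr (hle ⟨_, h, rfl⟩)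

theorem Blk.five_mem_C1 {N : Subgroup G} (hN : S.Blk N) {t : G} (htN : t ∈ N) (ht : orderOf t = 2)
    {c : G} (hcN : c ∈ N) (hct : Commute t c) (hc : orderOf c = 5) : c ∈ C1 t := by
  rcases hN.mem_C1 htN ht hcN hct with h | h
  · exact h
  · have h6 : (t * c) ^ 6 = c := by
      rw [hct.mul_pow, show t ^ 6 = 1 from orderOf_dvd_iff_pow_eq_one.1 (by rw [ht]; norm_num),
        one_mul, pow_succ, show c ^ 5 = 1 from hc ▸ pow_orderOf_eq_one c, one_mul]
    exact h6 ▸ pow_mem h 6

variable (hS : S.Ctx)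
include hS

theorem Blk.odd_order {N : Subgroup G} (hN : S.Blk N) {c : G} (hc : c ∈ centralizer (N : Set G)) :
    Odd (orderOf c) := by
  rw [← Nat.not_even_iff_odd, even_iff_two_dvd]
  intro hd
  exact hN.odd_cent hS (pow_mem hc (orderOf c / 2))
    (by rw [orderOf_pow' _ (by have := Nat.le_of_dvd (orderOf_pos c) hd; omega),
      Nat.gcd_eq_right (Nat.div_dvd_of_dvd hd), Nat.div_div_self hd (orderOf_pos c).ne'])

/-- A nontrivial element centralising one block at `t` normalises no other. -/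
theorem norm_only {N N' : Subgroup G} (hN : S.Blk N) (hN' : S.Blk N') {t : G} (htN : t ∈ N)
    (htN' : t ∈ N') (ht : orderOf t = 2) {w : G} (hw : w ∈ centralizer (N : Set G)) (hw1 : w ≠ 1)
    (hwN' : cj w N' = N') : N' = N := by
  obtain ⟨A, hA, hAN⟩ := hN.exists_member
  have hwA : w ∈ centralizer (A : Set G) := centralizer_le (SetLike.coe_subset_coe.2 hAN) hw
  obtain ⟨m, hm, hc⟩ := hN'.exists_split hwN'
  obtain ⟨hmo, -⟩ := hN'.split_pow hm hc (n := orderOf w) (pow_orderOf_eq_one w)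
  have hodd : Odd (orderOf m) :=
    (hN.odd_order hS hw).of_dvd_nat (orderOf_dvd_of_pow_eq_one hmo)
  by_cases hm1 : m = 1
  · rw [hm1, inv_one, one_mul] at hc
    obtain ⟨P, hP, Q, hQ, hPQ, rfl⟩ := hN'.gen
    exact (hN.eq_of_le hN' (sup_le
      (hN.line_max hS hw1 hw hP (centralizer_le (SetLike.coe_subset_coe.2 le_sup_left) hc))
      (hN.line_max hS hw1 hw hQ (centralizer_le (SetLike.coe_subset_coe.2 le_sup_right) hc))))
  have hmt : Commute t m := by
    have h1 : Commute t (m⁻¹ * w)⁻¹ :=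
      (show Commute t (m⁻¹ * w) from mem_centralizer_iff.1 hc t htN').inv_right
    have := (show Commute t w from mem_centralizer_iff.1 hw t htN).mul_right h1
    rwa [mul_inv_rev, inv_inv, mul_inv_cancel_left] at this
  have h120 : orderOf m ∣ 120 := by
    have h := Subgroup.orderOf_dvd_natCard
      (centralizer ({(⟨t, htN'⟩ : N')} : Set N')) (x := ⟨m, hm⟩)
      (mem_centralizer_singleton_iff.2 (Subtype.ext hmt.symm.eq))
    rwa [hN'.isK.card_centralizer_invol (by rwa [orderOf_mk]), orderOf_mk] at h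
  have hcomm : Commute m (m⁻¹ * w) := mem_centralizer_iff.1 hc m hm
  have hcases : 5 ∣ orderOf m ∨ orderOf m = 3 := by
    have key : ∀ n ∈ Nat.divisors 120, ¬ 2 ∣ n → n ≠ 1 → 5 ∣ n ∨ n = 3 := by decide +kernel
    exact key _ (Nat.mem_divisors.2 ⟨h120, by norm_num⟩)
      (fun h => Nat.not_even_iff_odd.2 hodd (even_iff_two_dvd.2 h))
      (fun h => hm1 (orderOf_eq_one_iff.1 h))
  rcases hcases with h5 | h3
  · exfalso
    set j := orderOf m / 5 with hj
    have hk : orderOf (m ^ j) = 5 := by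
      rw [orderOf_pow' _ (by have := Nat.le_of_dvd (orderOf_pos m) h5; omega),
        Nat.gcd_eq_right (Nat.div_dvd_of_dvd h5), Nat.div_div_self h5 (orderOf_pos m).ne']
    obtain ⟨Y, hY, hkY⟩ := hN'.isK.five_fixes (k := (⟨m ^ j, pow_mem hm j⟩ : N'))
      (by rwa [orderOf_mk])
    obtain ⟨c, -, hact⟩ := exists_acts (φ := MulAut.conj (⟨m ^ j, pow_mem hm j⟩ : N')) hY hkY
    obtain ⟨hc1, -⟩ := hN'.isK.five_ne_one hY (by rwa [orderOf_mk]) hact
    have hle : Y.map N'.subtype ≤ N' := map_subtype_le Y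
    have hY' : Nat.card (Y.map N'.subtype) = 11 := by
      rw [card_map_of_injective N'.subtype_injective, hY]
    have hm' : Acts (MulAut.conj (m ^ j)) (Y.map N'.subtype) c :=
      (conj_acts_iff hle ⟨_, pow_mem hm j⟩).1 (by rwa [map_subgroupOf])
    have hw' := hm'.mul hY' (acts_conj_iff.2
      (centralizer_le (SetLike.coe_subset_coe.2 hle) (pow_mem hc j)))
    rw [← map_mul, ← hcomm.mul_pow, mul_inv_cancel_left, mul_one] at hw'
    exact hc1 (acts_eq_one hA (hN'.mem _ hY' hle) (pow_mem hwA j) hw')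
  · obtain ⟨v, hv, hmv⟩ := hN'.isK.exists_five_of_three (k := ⟨m, hm⟩) (by rwa [orderOf_mk])
    have hvw : Commute (v : G) w := by
      have h1 : Commute (v : G) m := (congrArg Subtype.val hmv.eq).symm
      have := h1.mul_right (show Commute (v : G) (m⁻¹ * w) from mem_centralizer_iff.1 hc _ v.2)
      rwa [mul_inv_cancel_left] at this
    have hvN : cj (v : G) N = N := hN.cj_of_commute hS hw1 hw hvw
    have hv5 : orderOf (v : G) = 5 := by rw [orderOf_coe]; exact hv
    obtain ⟨Y, hY, hvY⟩ := hN'.isK.five_fixes hv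
    obtain ⟨s, -, hs⟩ := exists_acts (φ := MulAut.conj v) hY hvY
    obtain ⟨hs1, -⟩ := hN'.isK.five_ne_one hY hv hs
    have hle : Y.map N'.subtype ≤ N' := map_subtype_le Y
    have hY' : Nat.card (Y.map N'.subtype) = 11 := by
      rw [card_map_of_injective N'.subtype_injective, hY]
    have hYD := hN'.mem _ hY' hle
    have hsY : Acts (MulAut.conj (v : G)) (Y.map N'.subtype) s :=
      (conj_acts_iff hle v).1 (by rwa [map_subgroupOf])
    obtain ⟨γ, hγv, hγY⟩ := hN'.isK.exists_same_mult hY hv hvY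
    have hγv' : Commute (γ : G) v := (congrArg Subtype.val hγv.eq).symm
    have hY2 : cj (γ : G) (Y.map N'.subtype) ≠ Y.map N'.subtype := fun e => hγY (by
      conv_lhs => rw [← map_subgroupOf Y]
      rw [cj_subgroupOf, e, map_subgroupOf])
    have hs2 : Acts (MulAut.conj (v : G)) (cj (γ : G) (Y.map N'.subtype)) s := by
      have := hsY.transport (MulAut.conj (γ : G))
      rwa [mv_conj, ← map_inv, ← map_mul, ← map_mul, hγv'.eq, mul_inv_cancel_right] at this
    -- a member of `N` moved nontrivially by `v`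
    obtain ⟨m', hm', hc'⟩ := hN.exists_split hvN
    obtain ⟨hm'5, -⟩ := hN.split_pow hm' hc' (n := 5) (by rw [← hv5, pow_orderOf_eq_one])
    have hm'1 : m' ≠ 1 := fun e => by
      rw [e, inv_one, one_mul] at hc'
      exact hs1 (acts_eq_one hA hYD (centralizer_le (SetLike.coe_subset_coe.2 hAN) hc') hsY)
    have hm'o : orderOf m' = 5 := orderOf_eq_prime (hp := ⟨by norm_num⟩) hm'5 hm'1
    obtain ⟨Z, hZ, hmZ⟩ := hN.isK.five_fixes (k := (⟨m', hm'⟩ : N)) (by rwa [orderOf_mk])
    obtain ⟨s', -, hs'⟩ := exists_acts (φ := MulAut.conj (⟨m', hm'⟩ : N)) hZ hmZ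
    obtain ⟨hs'1, -⟩ := hN.isK.five_ne_one hZ (by rwa [orderOf_mk]) hs'
    have hleZ : Z.map N.subtype ≤ N := map_subtype_le Z
    have hZ' : Nat.card (Z.map N.subtype) = 11 := by
      rw [card_map_of_injective N.subtype_injective, hZ]
    have hvZ : Acts (MulAut.conj (v : G)) (Z.map N.subtype) s' := by
      have := ((conj_acts_iff hleZ ⟨m', hm'⟩).1 (by rwa [map_subgroupOf])).mul hZ'
        (acts_conj_iff.2 (centralizer_le (SetLike.coe_subset_coe.2 hleZ) hc'))
      rwa [← map_mul, mul_inv_cancel_left, mul_one] at this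
    have h1 := five_fixed hS hN (hN.mem _ hZ' hleZ) hleZ hvN hv5 hvZ hs'1 hYD (hsY.mv_eq hY')
    have hD2 := S.conj (γ : G) _ hYD
    have h2 := five_fixed hS hN (hN.mem _ hZ' hleZ) hleZ hvN hv5 hvZ hs'1 hD2
      (hs2.mv_eq (S.card _ hD2))
    have hK := same_mult_K hS hYD hv5 hsY hs1 hD2 (Ne.symm hY2) hs2
    exact (hN'.eq_of_pair hYD hD2 (Ne.symm hY2) hle (cj_le_of_mem (cj_self γ.2) hle) hK).symm.trans
      (hN.eq_of_pair hYD hD2 (Ne.symm hY2) h1 h2 hK)

/-- The perfect part meets the centraliser of each block trivially. -/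
theorem C1_inf_cent {N : Subgroup G} (hN : S.Blk N) {t : G} (htN : t ∈ N) (ht : orderOf t = 2) :
    C1 t ⊓ centralizer (N : Set G) = ⊥ := by
  classical
  set W : Subgroup G := C1 t ⊓ centralizer (N : Set G) with hW
  set Sg : Subgroup (C1 t) := (normalizer (N : Set G)).subgroupOf (C1 t) with hSg
  have hsplit : ∀ g : Sg, ∃ m ∈ N, m⁻¹ * ((g : C1 t) : G) ∈ W := by
    intro g
    obtain ⟨m, hm, hc⟩ := hN.exists_split (cj_eq_self_iff.2 g.2)
    refine ⟨m, hm, ?_, hc⟩
    have hcg := C1_comm (g : C1 t).2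
    have hct : Commute t (m⁻¹ * ((g : C1 t) : G)) := mem_centralizer_iff.1 hc t htN
    have hmt : Commute t m := by
      have := hcg.mul_right hct.inv_right
      rwa [mul_inv_rev, inv_inv, mul_inv_cancel_left] at this
    rcases hN.mem_C1 htN ht hm hmt with h | h
    · exact (C1 t).mul_mem ((C1 t).inv_mem h) (g : C1 t).2
    · set c := m⁻¹ * ((g : C1 t) : G) with hcdef
      have htc : t * c ∈ C1 t := by
        have e : t * c = (t * m)⁻¹ * ((g : C1 t) : G) := by
          rw [hcdef, mul_inv_rev, inv_eq_of_mul_eq_one_right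
            (show t * t = 1 by rw [← pow_two, ← ht, pow_orderOf_eq_one]), ← mul_assoc,
            hmt.inv_right.eq]
        exact e ▸ (C1 t).mul_mem ((C1 t).inv_mem h) (g : C1 t).2
      obtain ⟨i, hi⟩ := (hN.odd_order hS hc).add_odd odd_one
      have hc2 : (t * c) ^ 2 = c ^ 2 := by
        rw [hct.mul_pow, ← ht, pow_orderOf_eq_one, one_mul]
      have hci : c = ((t * c) ^ 2) ^ i := by
        rw [hc2, ← pow_mul, show 2 * i = orderOf c + 1 from (two_mul i).trans hi.symm, pow_succ, pow_orderOf_eq_one, one_mul]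
      exact hci ▸ pow_mem (pow_mem htc 2) i
  choose m hm hmW using hsplit
  let proj : Sg →* W := MonoidHom.mk' (fun g => ⟨(m g)⁻¹ * ((g : C1 t) : G), hmW g⟩) fun a b => by
    refine Subtype.ext ?_
    show (m (a * b))⁻¹ * (((a * b : Sg) : C1 t) : G) =
      (m a)⁻¹ * ((a : C1 t) : G) * ((m b)⁻¹ * ((b : C1 t) : G))
    have hca : Commute (m b) ((m a)⁻¹ * ((a : C1 t) : G)) := mem_centralizer_iff.1 (hmW a).2 _ (hm b)
    have e : m a * m b * ((m a)⁻¹ * ((a : C1 t) : G) * ((m b)⁻¹ * ((b : C1 t) : G))) =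
        ((a : C1 t) : G) * ((b : C1 t) : G) := by
      calc _ = m a * (m b * ((m a)⁻¹ * ((a : C1 t) : G))) * ((m b)⁻¹ * ((b : C1 t) : G)) := by group
        _ = m a * (((m a)⁻¹ * ((a : C1 t) : G)) * m b) * ((m b)⁻¹ * ((b : C1 t) : G)) := by rw [hca.eq]
        _ = _ := by group
    have hd : (m (a * b))⁻¹ * (m a * m b) = 1 := by
      refine hN.cent_trivial (mul_mem (inv_mem (hm _)) (mul_mem (hm a) (hm b))) ?_
      have h1 := (centralizer (N : Set G)).mul_mem (hmW (a * b)).2 ((centralizer (N : Set G)).inv_mem ((centralizer (N : Set G)).mul_mem (hmW a).2 (hmW b).2))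
      rwa [Subgroup.coe_mul, Subgroup.coe_mul, ← e, ← mul_assoc ((m (a * b))⁻¹),
        mul_inv_cancel_right] at h1
    rw [Subgroup.coe_mul, Subgroup.coe_mul, ← e, ← mul_assoc, hd, one_mul]
  set φ : Sg →* Abelianization W := (Abelianization.of).comp proj with hφ
  have htriv : ∀ g : C1 t, MonoidHom.transfer φ g = 1 := by
    intro g
    have hperf : commutator (C1 t) = ⊤ := by
      apply map_injective (C1 t).subtype_injective
      rw [_root_.commutator_def, map_commutator, ← MonoidHom.range_eq_map, range_subtype, C1_perfect]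
    exact (Abelianization.commutator_subset_ker (MonoidHom.transfer φ)) (hperf ▸ mem_top g)
  have hWcomm : commutator W = ⊤ := by
    rw [eq_top_iff]
    rintro ⟨w, hw⟩ -
    by_cases hw1 : w = 1
    · subst hw1
      exact one_mem _
    have hwS : (⟨w, hw.1⟩ : C1 t) ∈ Sg := cj_eq_self_iff.1 (cj_eq_self_of_commute fun x hx =>
      (mem_centralizer_iff.1 hw.2 x hx).symm)
    have htr := htriv ⟨w, hw.1⟩
    have : Fintype (Quotient (MulAction.orbitRel (zpowers (⟨w, hw.1⟩ : C1 t)) (C1 t ⧸ Sg))) :=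
      Fintype.ofFinite _
    rw [MonoidHom.transfer_eq_prod_quotient_orbitRel_zpowers_quot,
      Finset.prod_eq_single (Quotient.mk'' ((1 : C1 t) : C1 t ⧸ Sg))] at htr
    · set q : Quotient (MulAction.orbitRel (zpowers (⟨w, hw.1⟩ : C1 t)) (C1 t ⧸ Sg)) :=
        Quotient.mk'' ((1 : C1 t) : C1 t ⧸ Sg) with hq
      have hfix : (⟨w, hw.1⟩ : C1 t) • ((1 : C1 t) : C1 t ⧸ Sg) = ((1 : C1 t) : C1 t ⧸ Sg) := by
        rw [MulAction.Quotient.smul_coe, smul_eq_mul, mul_one, QuotientGroup.eq, mul_one]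
        exact inv_mem hwS
      have hout : q.out = ((1 : C1 t) : C1 t ⧸ Sg) := by
        have h := (MulAction.orbitRel_apply).1 (Quotient.exact (Quotient.out_eq q))
        obtain ⟨⟨z, hz⟩, hzq⟩ := h
        obtain ⟨i, rfl⟩ := hz
        rw [← hzq]
        exact MulAction.mem_stabilizer_iff.1
          (zpow_mem (MulAction.mem_stabilizer_iff.2 hfix) i)
      have hper : Function.minimalPeriod ((⟨w, hw.1⟩ : C1 t) • ·) q.out = 1 := by
        rw [hout]
        exact Function.minimalPeriod_eq_one_iff_isFixedPt.2 hfix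
      have hγ : q.out.out ∈ Sg := by
        have h := Quotient.out_eq q.out
        rw [hout] at h ⊢
        rw [← inv_mul_cancel_left (1 : C1 t) ((1 : C1 t) : C1 t ⧸ Sg).out]
        simpa using inv_mem (QuotientGroup.eq.1 h)
      have hval : φ ⟨⟨w, hw.1⟩, hwS⟩ = 1 := by
        rw [← htr]
        have e : (⟨q.out.out⁻¹ * (⟨w, hw.1⟩ : C1 t) ^
            Function.minimalPeriod ((⟨w, hw.1⟩ : C1 t) • ·) q.out * q.out.out,
            QuotientGroup.out_conj_pow_minimalPeriod_mem Sg _ q.out⟩ : Sg) =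
            ⟨_, hγ⟩⁻¹ * ⟨⟨w, hw.1⟩, hwS⟩ * ⟨_, hγ⟩ := by
          refine Subtype.ext ?_
          simp [hper]
        rw [e, map_mul, map_mul, mul_comm, ← mul_assoc, map_inv, mul_inv_cancel, one_mul]
      have hproj : proj ⟨⟨w, hw.1⟩, hwS⟩ = ⟨w, hw⟩ := by
        refine Subtype.ext ?_
        show (m ⟨⟨w, hw.1⟩, hwS⟩)⁻¹ * w = w
        have hm1 : m ⟨⟨w, hw.1⟩, hwS⟩ = 1 := hN.cent_trivial (hm _) (by
          have h1 := (centralizer (N : Set G)).mul_mem hw.2 ((centralizer (N : Set G)).inv_mem (hmW ⟨⟨w, hw.1⟩, hwS⟩).2)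
          rwa [mul_inv_rev, inv_inv, mul_inv_cancel_left] at h1)
        rw [hm1, inv_one, one_mul]
      rw [hφ, MonoidHom.comp_apply, hproj] at hval
      exact (QuotientGroup.eq_one_iff _).1 hval
    · intro q _ hq
      set γ := q.out.out with hγ
      set l := Function.minimalPeriod ((⟨w, hw.1⟩ : C1 t) • ·) q.out with hl
      have hmem := QuotientGroup.out_conj_pow_minimalPeriod_mem Sg (⟨w, hw.1⟩ : C1 t) q.out
      by_cases hwl : (⟨w, hw.1⟩ : C1 t) ^ l = 1
      · rw [show (⟨γ⁻¹ * (⟨w, hw.1⟩ : C1 t) ^ l * γ, hmem⟩ : Sg) = 1 from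
          Subtype.ext (by simp [hwl]), map_one]
      exfalso
      have htγ : t ∈ cj (γ : G) N := by
        rw [mem_cj, mul_assoc, (C1_comm γ.2).eq, inv_mul_cancel_left]
        exact htN
      have heq : cj (γ : G) N = N := by
        refine norm_only hS hN (hN.cj_blk _) htN htγ ht (w := w ^ l) (pow_mem hw.2 l)
          (fun e => hwl (Subtype.ext (by simpa using e))) ?_
        have h' := cj_eq_self_iff.2 (show (((γ⁻¹ * (⟨w, hw.1⟩ : C1 t) ^ l * γ : C1 t)) : G) ∈
          normalizer (N : Set G) from hmem)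
        simp only [Subgroup.coe_mul, InvMemClass.coe_inv, SubgroupClass.coe_pow] at h'
        rw [cj_mul, cj_mul] at h'
        conv_rhs => rw [← h']
        rw [cj_cj_inv]
      apply hq
      rw [← Quotient.out_eq q, Quotient.eq'', MulAction.orbitRel_apply]
      have h1 : q.out = ((1 : C1 t) : C1 t ⧸ Sg) := by
        rw [← QuotientGroup.out_eq' q.out]
        exact QuotientGroup.eq.2 (by rw [mul_one]; exact inv_mem (cj_eq_self_iff.1 heq))
      rw [h1]
      exact MulAction.mem_orbit_self _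
    · exact fun h => absurd (Finset.mem_univ _) h
  by_contra hne
  have : Nontrivial W := (Subgroup.nontrivial_iff_ne_bot _).2 hne
  have hodd : Odd (Nat.card W) := by
    rw [← Nat.not_even_iff_odd, even_iff_two_dvd]
    intro hd
    obtain ⟨⟨z, hz⟩, ho⟩ := exists_prime_orderOf_dvd_card' (G := W) 2 hd
    rw [orderOf_mk] at ho
    exact hN.odd_cent hS hz.2 ho
  have := Cfsg.Agent.Lib.OddOrder.FeitThompson.isSolvable_of_odd_card hodd
  exact (Group.IsSolvable.commutator_lt_top_of_nontrivial W).ne hWcomm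

end Sys

end Cfsg.Agent.Lib.OrdElevenPairs
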