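import Cfsg.Agent.Lib.OrdElevenPairs.Block
import Cfsg.Agent.Lib.OrdElevenPairs.FourGroup

/-!
# Systems in which every pair is a line
-/

set_option autoImplicit false
set_option linter.unusedSectionVars false

namespace Cfsg.Agent.Lib.OrdElevenPairs.Sys

open Cfsg.Agent.Lib.PairOdd Subgroup

universe u

variable {G : Type u} [Group G] {S : Sys G}

/-- The standing hypotheses when every pair generates a line. -/
structure PCtx (S : Sys G) : Prop where
  ctx : S.Ctx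
  pure : ∀ A ∈ S.D, ∀ B ∈ S.D, A ≠ B → IsL ↥(A ⊔ B)

/-- The elements normalising `A` with a square multiplier. -/
def half (A : Subgroup G) (hA : Nat.card A = 11) : Subgroup G where
  carrier := {g | ∃ c : ZMod 11, c ^ 5 = 1 ∧ Acts (MulAut.conj g) A c}
  one_mem' := ⟨1, one_pow 5, by rw [map_one]; exact acts_one⟩
  mul_mem' := by
    rintro a b ⟨c, hc, hca⟩ ⟨d, hd, hdb⟩
    exact ⟨c * d, by rw [mul_pow, hc, hd, one_mul], by rw [map_mul]; exact hca.mul hA hdb⟩
  inv_mem' := by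
    rintro a ⟨c, hc, hca⟩
    exact ⟨c⁻¹, by rw [inv_pow, hc, inv_one], by rw [map_inv]; exact hca.inv hA⟩

variable [Finite G] (hP : S.PCtx) {A B : Subgroup G} (hA : A ∈ S.D) (hB : B ∈ S.D) (hAB : A ≠ B)

include hP hA hB hAB in
theorem line_card : Nat.card ↥(A ⊔ B) = 660 := (hP.pure A hA B hB hAB).card

include hP hA hB hAB in
/-- A line is determined by two of its members. -/
theorem line_eq {C E : Subgroup G} (hC : C ∈ S.D) (hE : E ∈ S.D) (hCE : C ≠ E)
    (hCle : C ≤ A ⊔ B) (hEle : E ≤ A ⊔ B) : C ⊔ E = A ⊔ B :=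
  Subgroup.eq_of_le_of_card_ge (sup_le hCle hEle)
    (by rw [line_card hP hA hB hAB, line_card hP hC hE hCE])

include hP hA hB hAB in
theorem line_mem {X : Subgroup G} (hX : Nat.card X = 11) (hle : X ≤ A ⊔ B) : X ∈ S.D :=
  mem_D hA le_sup_left (simple_pair hA hB hAB).2.2 hX hle

include hP hA hB hAB in
theorem mem_sub {X : Subgroup ↥(A ⊔ B)} (hX : Nat.card X = 11) : X.map (A ⊔ B).subtype ∈ S.D :=
  line_mem hP hA hB hAB (by rw [card_map_of_injective (A ⊔ B).subtype_injective, hX]) (map_subtype_le X)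

include hA in
theorem card_sub {L : Subgroup G} (hle : A ≤ L) : Nat.card (A.subgroupOf L) = 11 := by
  rw [card_subgroupOf hle, S.card A hA]

include hA hB hAB in
theorem cent_trivial {m : G} (hm : m ∈ A ⊔ B) (hc : m ∈ centralizer ((A ⊔ B : Subgroup G) : Set G)) :
    m = 1 := by
  have h : (⟨m, hm⟩ : ↥(A ⊔ B)) ∈ Subgroup.center ↥(A ⊔ B) :=
    mem_center_iff.2 fun x => Subtype.ext (mem_centralizer_iff.1 hc x x.2)
  rw [(simple_pair hA hB hAB).2.1, mem_bot] at h
  exact congrArg Subtype.val h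

include hA hB hAB in
theorem subgroupOf_ne : A.subgroupOf (A ⊔ B) ≠ B.subgroupOf (A ⊔ B) := fun e =>
  hAB (subgroupOf_inj le_sup_left le_sup_right e)

include hP hA hB hAB in
/-- The members centralised by an element centralising a line are on the line. -/
theorem line_max {w : G} (hw1 : w ≠ 1) (hw : w ∈ centralizer ((A ⊔ B : Subgroup G) : Set G))
    {X : Subgroup G} (hX : X ∈ S.D) (hwX : w ∈ centralizer (X : Set G)) : X ≤ A ⊔ B := by
  obtain ⟨C, hC, E, hE, hCE, hle, -, hmax⟩ := exists_line hP.ctx.small hP.ctx.center hw1 hA hB hAB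
    (centralizer_le (SetLike.coe_subset_coe.2 le_sup_left) hw)
    (centralizer_le (SetLike.coe_subset_coe.2 le_sup_right) hw)
  rw [line_eq hP hC hE hCE hA hB hAB (le_sup_left.trans hle) (le_sup_right.trans hle)]
  exact hmax X hX hwX

include hP hA hB hAB in
/-- A member fixed by an element centralising a line is on the line. -/
theorem line_max' {w : G} (hw1 : w ≠ 1) (hw : w ∈ centralizer ((A ⊔ B : Subgroup G) : Set G))
    {X : Subgroup G} (hX : X ∈ S.D) (hwX : cj w X = X) : X ≤ A ⊔ B :=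
  line_max hP hA hB hAB hw1 hw hX
    (cent_fixed hA hX (centralizer_le (SetLike.coe_subset_coe.2 le_sup_left) hw) hwX)

include hP hA hB hAB in
/-- An element centralising a line centralises no other. -/
theorem line_unique {w : G} (hw1 : w ≠ 1) (hw : w ∈ centralizer ((A ⊔ B : Subgroup G) : Set G))
    {C E : Subgroup G} (hC : C ∈ S.D) (hE : E ∈ S.D) (hCE : C ≠ E)
    (hw' : w ∈ centralizer ((C ⊔ E : Subgroup G) : Set G)) : C ⊔ E = A ⊔ B :=
  line_eq hP hA hB hAB hC hE hCE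
    (line_max hP hA hB hAB hw1 hw hC (centralizer_le (SetLike.coe_subset_coe.2 le_sup_left) hw'))
    (line_max hP hA hB hAB hw1 hw hE (centralizer_le (SetLike.coe_subset_coe.2 le_sup_right) hw'))

include hP hA hB hAB in
theorem cj_of_commute {w g : G} (hw1 : w ≠ 1)
    (hw : w ∈ centralizer ((A ⊔ B : Subgroup G) : Set G)) (hg : Commute g w) :
    cj g (A ⊔ B) = A ⊔ B := by
  have key : ∀ Y ∈ S.D, Y ≤ A ⊔ B → cj g Y ≤ A ⊔ B := fun Y hY hYM => by
    refine line_max hP hA hB hAB hw1 hw (S.conj g Y hY) (mem_centralizer_iff.2 ?_)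
    rintro _ ⟨y, hy, rfl⟩
    show g * y * g⁻¹ * w = w * (g * y * g⁻¹)
    calc g * y * g⁻¹ * w = g * (y * w) * g⁻¹ := by
          rw [mul_assoc (g * y) g⁻¹ w, hg.inv_left.eq]; group
      _ = g * (w * y) * g⁻¹ := by rw [mem_centralizer_iff.1 hw y (hYM hy)]
      _ = w * (g * y * g⁻¹) := by rw [← mul_assoc g w, hg.eq]; group
  refine cj_eq_of_le ?_
  rw [cj_sup]
  exact sup_le (key A hA le_sup_left) (key B hB le_sup_right)

include hP hA hB hAB in
theorem acts_inv' {g : G} {c : ZMod 11} (h : Acts (MulAut.conj g) A c) (hgB : cj g B = B) :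
    Acts (MulAut.conj g) B c⁻¹ := by
  have hg := cj_pair (h.mv_eq (S.card A hA)) hgB
  exact (acts_aut hg le_sup_right).1 ((hP.pure A hA B hB hAB).acts_inv (card_sub hA le_sup_left)
    (card_sub hB le_sup_right) (subgroupOf_ne hA hB hAB) ((acts_aut hg le_sup_left).2 h)
    (by rw [mv_aut, hgB]))

include hP hA hB hAB in
/-- An element with multiplier other than `±1` fixes exactly two members. -/
theorem fix_two {g : G} {c : ZMod 11} (h : Acts (MulAut.conj g) A c) (hc : c * c ≠ 1)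
    (hgB : cj g B = B) {X : Subgroup G} (hX : X ∈ S.D) (hgX : cj g X = X) : X = A ∨ X = B := by
  by_contra hne
  push Not at hne
  have h11 := S.card B hB
  have hB' := acts_inv' hP hA hB hAB h hgB
  have hX' := acts_inv' hP hA hX hne.1.symm h hgX
  have hB'' := acts_inv' hP hX hB hne.2 hX' hgB
  rw [inv_inv] at hB''
  have e := hB'.unique h11 hB''
  refine hc ?_
  nth_rw 1 [← e]
  exact inv_mul_cancel₀ (h.ne_zero (S.card A hA))

include hP hA hB hAB in
/-- A torus of the line. -/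
theorem exists_torus : ∃ (u : G) (s : ZMod 11), u ∈ A ⊔ B ∧ orderOf u = 5 ∧ s ≠ 1 ∧ s * s ≠ 1 ∧
    s ^ 5 = 1 ∧ cj u A = A ∧ cj u B = B ∧ Acts (MulAut.conj u) A s ∧
    ∀ m ∈ A ⊔ B, cj m A = A → cj m B = B → m ∈ zpowers u := by
  obtain ⟨u, s, hu, hs1, hs5, huA, huB, hs, hgen⟩ := (hP.pure A hA B hB hAB).exists_torus
    (card_sub hA le_sup_left) (card_sub hB le_sup_right) (subgroupOf_ne hA hB hAB)
  have key : ∀ s : ZMod 11, s ≠ 1 → s ^ 5 = 1 → s * s ≠ 1 := by decide +kernel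
  have huA' : cj (u : G) A = A := subgroupOf_inj (cj_le_of_mem (cj_self u.2) le_sup_left) le_sup_left
    (by rw [← cj_subgroupOf, huA])
  have huB' : cj (u : G) B = B := subgroupOf_inj (cj_le_of_mem (cj_self u.2) le_sup_right)
    le_sup_right (by rw [← cj_subgroupOf, huB])
  refine ⟨u, s, u.2, by rw [orderOf_coe, hu], hs1, key s hs1 hs5, hs5, huA', huB',
    (conj_acts_iff le_sup_left u).1 hs, fun m hm h1 h2 => ?_⟩
  obtain ⟨k, hk⟩ := hgen ⟨m, hm⟩ (by rw [cj_subgroupOf, h1]) (by rw [cj_subgroupOf, h2])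
  exact ⟨k, by have := congrArg Subtype.val hk; simpa using this⟩

include hP hA hB hAB in
theorem trans_two {C E : Subgroup G} (hC : C ∈ S.D) (hE : E ∈ S.D) (hCE : C ≠ E)
    (hCle : C ≤ A ⊔ B) (hEle : E ≤ A ⊔ B) : ∃ m ∈ A ⊔ B, cj m A = C ∧ cj m B = E := by
  obtain ⟨m, hm1, hm2⟩ := (hP.pure A hA B hB hAB).trans_two (card_sub hA le_sup_left)
    (card_sub hB le_sup_right) (subgroupOf_ne hA hB hAB) (card_sub hC hCle) (card_sub hE hEle)
    (fun e => hCE (subgroupOf_inj hCle hEle e))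
  rw [cj_subgroupOf] at hm1 hm2
  exact ⟨m, m.2, subgroupOf_inj (cj_le_of_mem (cj_self m.2) le_sup_left) hCle hm1,
    subgroupOf_inj (cj_le_of_mem (cj_self m.2) le_sup_right) hEle hm2⟩

include hP hA hB hAB in
theorem exists_swap : ∃ i ∈ A ⊔ B, orderOf i = 2 ∧ i * i = 1 ∧ cj i A = B ∧ cj i B = A := by
  obtain ⟨m, hm1, hm2, hmm⟩ := (hP.pure A hA B hB hAB).exists_swap (card_sub hA le_sup_left)
    (card_sub hB le_sup_right) (subgroupOf_ne hA hB hAB)
  rw [cj_subgroupOf] at hm1 hm2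
  have h1 : cj (m : G) A = B :=
    subgroupOf_inj (cj_le_of_mem (cj_self m.2) le_sup_left) le_sup_right hm1
  have h2 : (m : G) * m = 1 := congrArg Subtype.val hmm
  refine ⟨m, m.2, orderOf_eq_prime (by rw [pow_two, h2]) (fun e => hAB ?_), h2, h1,
    subgroupOf_inj (cj_le_of_mem (cj_self m.2) le_sup_right) le_sup_left hm2⟩
  rwa [e, cj_one] at h1

include hA hB hAB in
theorem cj_ne (g : G) : cj g A ≠ cj g B := fun e =>
  hAB (by rw [← cj_inv_cj g A, e, cj_inv_cj])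

include hP hA hB hAB in
/-- The centraliser of a member is transitive on the others. -/
theorem exists_cent_conj {C : Subgroup G} (hC : C ∈ S.D) (hAC : A ≠ C) :
    ∃ g ∈ centralizer (A : Set G), cj g B = C := by
  have h11 := S.card A hA
  obtain ⟨u, s, -, hu, hs1, hss, hs5, huA, huB, hs, -⟩ := exists_torus hP hA hB hAB
  obtain ⟨x, t, -, hx, -, htt, ht5, hxA, hxC, ht, -⟩ := exists_torus hP hA hC hAC
  have := Fact.mk (by norm_num : Nat.Prime 5)
  obtain ⟨h, ⟨c, hc5, hc⟩, hhx⟩ := exists_conj_into (p := 5) (H := half A h11)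
    (K := normalizer (B : Set G)) (u := u) ⟨s, hs5, hs⟩ (cj_eq_self_iff.1 huB)
    (n := 1) (by rw [pow_one, ← hu, pow_orderOf_eq_one])
    (fun h ⟨c, hc5, hc⟩ hhu => by
      refine cj_eq_self_iff.1 ?_
      have hfix : cj u (cj h B) = cj h B := by
        have e := cj_eq_self_iff.2 hhu
        rw [cj_mul, cj_mul] at e
        rw [← cj_cj_inv h (cj u (cj h B)), e]
      refine (fix_two hP hA hB hAB hs hss huB (S.conj h B hB) hfix).resolve_left fun e => hAB ?_
      rw [← cj_inv_cj h B, e]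
      conv_rhs => rw [← hc.mv_eq h11, mv_conj, cj_inv_cj])
    (x := x) ⟨t, ht5, ht⟩ (m := 1) (by rw [pow_one, ← hx, pow_orderOf_eq_one])
  have hA' : cj h⁻¹ A = A := by
    conv_lhs => rw [← hc.mv_eq h11, mv_conj, cj_inv_cj]
  have hfix : cj x (cj h⁻¹ B) = cj h⁻¹ B := by
    have e := cj_eq_self_iff.2 hhx
    rw [cj_mul, cj_mul] at e
    rw [← cj_inv_cj h (cj x (cj h⁻¹ B)), e]
  have hne : cj h⁻¹ B ≠ A := fun e => (cj_ne hA hB hAB h⁻¹) (hA'.trans e.symm)
  have hB' : cj h⁻¹ B = C :=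
    (fix_two hP hA hC hAC ht htt hxC (S.conj _ B hB) hfix).resolve_left hne
  have key : ∀ c s : ZMod 11, c ^ 5 = 1 → s ≠ 1 → s ^ 5 = 1 → ∃ j : Fin 5, c⁻¹ * s ^ (j : ℕ) = 1 := by
    decide +kernel
  obtain ⟨j, hj⟩ := key c s hc5 hs1 hs5
  refine ⟨h⁻¹ * u ^ (j : ℕ), acts_conj_iff.1 ?_, ?_⟩
  · rw [map_mul, map_inv, map_pow, ← hj]
    exact (hc.inv h11).mul h11 (hs.pow h11 _)
  · rw [cj_mul, cj_eq_self_iff.2 (pow_mem (cj_eq_self_iff.1 huB) _), hB']

include hP hA hB hAB in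
/-- Ordered pairs of members are conjugate. -/
theorem exists_pair_conj {C E : Subgroup G} (hC : C ∈ S.D) (hE : E ∈ S.D) (hCE : C ≠ E) :
    ∃ g, cj g A = C ∧ cj g B = E := by
  obtain ⟨g, hg⟩ := exists_conj hA hC
  obtain ⟨h, hh, hhB⟩ := exists_cent_conj hP hC (S.conj g B hB) (by rw [← hg]; exact cj_ne hA hB hAB g)
    hE hCE
  refine ⟨h * g, ?_, by rw [cj_mul, hhB]⟩
  rw [cj_mul, hg, cj_eq_self_of_commute fun x hx => (mem_centralizer_iff.1 hh x hx).symm]

include hP hA hB hAB in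
/-- Inner automorphisms of a line coming from its normaliser. -/
theorem split_half {g : G} (hg : cj g (A ⊔ B) = A ⊔ B) :
    (∃ m ∈ A ⊔ B, m⁻¹ * g ∈ centralizer ((A ⊔ B : Subgroup G) : Set G)) ∨
      ∃ (C : Subgroup G) (h : G) (c : ZMod 11), C ∈ S.D ∧ Acts (MulAut.conj h) C c ∧ c ^ 5 ≠ 1 := by
  have hgA := cj_le_of_mem hg (le_sup_left : A ≤ A ⊔ B)
  have hgB := cj_le_of_mem hg (le_sup_right : B ≤ A ⊔ B)
  obtain ⟨m, hm, hmA, hmB⟩ := trans_two hP hA hB hAB (S.conj g A hA) (S.conj g B hB)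
    (cj_ne hA hB hAB g) hgA hgB
  set h := m⁻¹ * g with hh
  have hhA : cj h A = A := by
    rw [hh, cj_mul, ← hmA, cj_inv_cj]
  have hhB : cj h B = B := by
    rw [hh, cj_mul, ← hmB, cj_inv_cj]
  obtain ⟨c, -, hc⟩ := exists_acts (φ := MulAut.conj h) (S.card A hA) hhA
  by_cases hc5 : c ^ 5 = 1
  · refine Or.inl ?_
    have hL := cj_pair hhA hhB
    obtain ⟨k, -, -, hk⟩ := (hP.pure A hA B hB hAB).exists_inner (card_sub hA le_sup_left)
      (card_sub hB le_sup_right) (subgroupOf_ne hA hB hAB) ((acts_aut hL le_sup_left).2 hc)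
      (by rw [mv_aut, hhB]) hc5
    refine ⟨m * k, (A ⊔ B).mul_mem hm k.2, ?_⟩
    have := aut_eq_conj hL hk
    rwa [hh, ← mul_assoc, ← mul_inv_rev] at this
  · exact Or.inr ⟨A, h, c, hA, hc, hc5⟩

include hP hA hB hAB in
/-- The square of an element normalising a line induces an inner automorphism. -/
theorem split_sq {g : G} (hg : cj g (A ⊔ B) = A ⊔ B) :
    ∃ m ∈ A ⊔ B, m⁻¹ * (g * g) ∈ centralizer ((A ⊔ B : Subgroup G) : Set G) := by
  obtain ⟨m, hm⟩ := (hP.pure A hA B hB hAB).sq_inner (aut hg)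
  have hgg : cj (g * g) (A ⊔ B) = A ⊔ B := by rw [cj_mul, hg, hg]
  refine ⟨m, m.2, aut_eq_conj hgg ?_⟩
  rw [← hm]
  refine MulEquiv.ext fun x => Subtype.ext ?_
  show g * g * (x : G) * (g * g)⁻¹ = g * (g * x * g⁻¹) * g⁻¹
  group

include hP hA hB hAB in
/-- An element of odd order normalising a line induces an inner automorphism. -/
theorem split_odd {g : G} (hg : cj g (A ⊔ B) = A ⊔ B) (hodd : Odd (orderOf g)) :
    ∃ m ∈ A ⊔ B, m⁻¹ * g ∈ centralizer ((A ⊔ B : Subgroup G) : Set G) := by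
  obtain ⟨k, hk⟩ := hodd.add_odd odd_one
  have hgk : cj (g ^ k) (A ⊔ B) = A ⊔ B := cj_eq_self_iff.2 (pow_mem (cj_eq_self_iff.1 hg) k)
  obtain ⟨m, hm, hc⟩ := split_sq hP hA hB hAB hgk
  rw [← pow_add, ← hk, pow_succ, pow_orderOf_eq_one, one_mul] at hc
  exact ⟨m, hm, hc⟩

include hP hA hB hAB in
/-- The two components of an element of `(A ⊔ B) × C(A ⊔ B)` are determined. -/
theorem split_unique {m m' c c' : G} (hm : m ∈ A ⊔ B) (hm' : m' ∈ A ⊔ B)
    (hc : c ∈ centralizer ((A ⊔ B : Subgroup G) : Set G))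
    (hc' : c' ∈ centralizer ((A ⊔ B : Subgroup G) : Set G)) (h : m * c = m' * c') :
    m = m' ∧ c = c' := by
  have e : m'⁻¹ * m = c' * c⁻¹ := by
    rw [eq_mul_inv_iff_mul_eq, mul_assoc, h, inv_mul_cancel_left]
  have h1 := cent_trivial hA hB hAB ((A ⊔ B).mul_mem ((A ⊔ B).inv_mem hm') hm)
    (e ▸ (centralizer ((A ⊔ B : Subgroup G) : Set G)).mul_mem hc'
      ((centralizer ((A ⊔ B : Subgroup G) : Set G)).inv_mem hc))
  have hmm : m = m' := (inv_mul_eq_one.1 h1).symm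
  subst hmm
  exact ⟨rfl, mul_left_cancel h⟩

theorem exists_outside (hP : S.PCtx) {A B : Subgroup G} (hA : A ∈ S.D) (hB : B ∈ S.D) (hAB : A ≠ B) :
    ∃ X ∈ S.D, ¬ X ≤ A ⊔ B := by
  by_contra h
  push Not at h
  refine hP.ctx.notDone ⟨A, hA, B, hB, hAB, top_le_iff.1 ?_⟩
  rw [← S.gen]
  exact iSup₂_le h

include hP hA in
/-- An involution moving `X`, centralising a member, and preserving the line of its pair. -/
theorem invol_line {z : G} (hz : z * z = 1) (hzA : z ∈ centralizer (A : Set G)) {X : Subgroup G}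
    (hX : X ∈ S.D) (hzX : cj z X ≠ X) :
    ∃ m c : G, m ∈ X ⊔ cj z X ∧ orderOf m = 2 ∧
      c ∈ centralizer ((X ⊔ cj z X : Subgroup G) : Set G) ∧ z = m * c ∧ Commute m c ∧ c * c = 1 := by
  have hX' := S.conj z X hX
  have hL := hP.pure X hX _ hX' hzX.symm
  have hzN : cj z (X ⊔ cj z X) = X ⊔ cj z X := by
    rw [cj_sup, ← cj_mul, hz, cj_one, sup_comm]
  have hφ1 : aut hzN ≠ 1 := fun e => hzX (cj_eq_self_of_commute fun x hx =>
    (mem_centralizer_iff.1 ((aut_eq_one hzN).1 e) x (le_sup_left (b := cj z X) hx)).symm)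
  have hfree : ∀ Y : Subgroup ↥(X ⊔ cj z X), Nat.card Y = 11 → mv (aut hzN) Y ≠ Y := by
    intro Y hY hfix
    obtain ⟨-, -, -, -, hneg, -, -⟩ := hL.fixed_pair hY (aut_sq hzN hz) hφ1 hfix
    have hle : Y.map (X ⊔ cj z X).subtype ≤ X ⊔ cj z X := map_subtype_le Y
    exact absurd (acts_eq_one hA (mem_sub hP hX hX' hzX.symm hY) hzA
      ((acts_aut hzN hle).1 (by rwa [map_subgroupOf]))) (by decide)
  obtain ⟨m, hm, hφm⟩ := hL.free_inner (aut_sq hzN hz) hfree
  have hc : (m : G)⁻¹ * z ∈ centralizer ((X ⊔ cj z X : Subgroup G) : Set G) := aut_eq_conj hzN hφm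
  have hmc : Commute (m : G) ((m : G)⁻¹ * z) := mem_centralizer_iff.1 hc m m.2
  have hmm : (m : G) * m = 1 := congrArg Subtype.val (hL.sq_eq hm)
  refine ⟨m, (m : G)⁻¹ * z, m.2, by rw [orderOf_coe, hm], hc, (mul_inv_cancel_left _ _).symm, hmc, ?_⟩
  have h1 : ((m : G) * ((m : G)⁻¹ * z)) ^ 2 = 1 := by rw [mul_inv_cancel_left, pow_two, hz]
  rw [hmc.mul_pow, pow_two, pow_two, hmm, one_mul] at h1
  exact h1

end Cfsg.Agent.Lib.OrdElevenPairs.Sys
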